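import Cfsg.Prelude.Def_GeometricClasses
import Cfsg.Agent.LieClassical.SLGen

/-!
Transvections in subgroups of `GL ι F`: the predicate `HasTv M a φ` says that `φ ⬝ᵥ a = 0` and the
transvection `x ↦ x + (φ ⬝ᵥ x) • a` lies in `M`.
-/

set_option autoImplicit false
set_option linter.unusedSectionVars false

namespace Cfsg.Agent.H873

open Matrix

variable {ι : Type} [Fintype ι] [DecidableEq ι] {F : Type*} [Field F]

/-- The transvection `1 + a φᵀ` lies in `M` (and `φ` kills `a`). -/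
def HasTv (M : Subgroup (GL ι F)) (a φ : ι → F) : Prop :=
  φ ⬝ᵥ a = 0 ∧ ∃ g ∈ M, (g : Matrix ι ι F) = 1 + vecMulVec a φ

/-- The transvection `1 + a φᵀ` as an element of `GL`. -/
def tv (a φ : ι → F) (h : φ ⬝ᵥ a = 0) : GL ι F where
  val := 1 + vecMulVec a φ
  inv := 1 - vecMulVec a φ
  val_inv := by
    rw [add_mul, mul_sub, mul_sub, one_mul, one_mul, mul_one, vecMulVec_mul_vecMulVec, h]
    simp
  inv_val := by
    rw [sub_mul, mul_add, mul_add, one_mul, one_mul, mul_one, vecMulVec_mul_vecMulVec, h]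
    simp

theorem coe_tv (a φ : ι → F) (h : φ ⬝ᵥ a = 0) :
    (tv a φ h : Matrix ι ι F) = 1 + vecMulVec a φ := rfl

theorem tv_mulVec (a φ : ι → F) (h : φ ⬝ᵥ a = 0) (x : ι → F) :
    (tv a φ h : Matrix ι ι F) *ᵥ x = x + (φ ⬝ᵥ x) • a := by
  rw [coe_tv, add_mulVec, one_mulVec, vecMulVec_mulVec, op_smul_eq_smul]

theorem one_add_mulVec (a φ x : ι → F) :
    (1 + vecMulVec a φ) *ᵥ x = x + (φ ⬝ᵥ x) • a := by
  rw [add_mulVec, one_mulVec, vecMulVec_mulVec, op_smul_eq_smul]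

theorem gl_ext {A B : GL ι F}
    (h : ∀ x, (A : Matrix ι ι F) *ᵥ x = (B : Matrix ι ι F) *ᵥ x) : A = B := by
  apply Units.ext
  exact Matrix.mulVec_injective (funext h)

theorem hasTv_iff (M : Subgroup (GL ι F)) (a φ : ι → F) :
    HasTv M a φ ↔ ∃ h : φ ⬝ᵥ a = 0, tv a φ h ∈ M := by
  constructor
  · rintro ⟨h, g, hg, he⟩
    refine ⟨h, ?_⟩
    have : g = tv a φ h := Units.ext (by rw [he, coe_tv])
    rwa [← this]
  · rintro ⟨h, hm⟩
    exact ⟨h, _, hm, coe_tv a φ h⟩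

theorem det_tv (a φ : ι → F) (h : φ ⬝ᵥ a = 0) : Matrix.det (1 + vecMulVec a φ) = 1 := by
  rw [vecMulVec_eq Unit, det_one_add_replicateCol_mul_replicateRow, h, add_zero]

theorem mem_specialLinear_iff (g : GL ι F) :
    g ∈ Cfsg.Geo.specialLinear ι F ↔ Matrix.det (g : Matrix ι ι F) = 1 := by
  rw [Cfsg.Geo.specialLinear, MonoidHom.mem_ker]
  constructor
  · intro h
    have := congrArg Units.val h
    simpa using this
  · intro h
    apply Units.ext
    simpa using h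

theorem tv_mem_specialLinear (a φ : ι → F) (h : φ ⬝ᵥ a = 0) :
    tv a φ h ∈ Cfsg.Geo.specialLinear ι F := by
  rw [mem_specialLinear_iff, coe_tv, det_tv a φ h]

theorem HasTv.mono {M N : Subgroup (GL ι F)} (h : M ≤ N) {a φ : ι → F} (ha : HasTv M a φ) :
    HasTv N a φ := by
  obtain ⟨h0, g, hg, he⟩ := ha
  exact ⟨h0, g, h hg, he⟩

theorem hasTv_specialLinear {a φ : ι → F} (h : φ ⬝ᵥ a = 0) :
    HasTv (Cfsg.Geo.specialLinear ι F) a φ :=
  (hasTv_iff _ _ _).2 ⟨h, tv_mem_specialLinear a φ h⟩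

theorem hasTv_zero_left (M : Subgroup (GL ι F)) (φ : ι → F) : HasTv M 0 φ :=
  ⟨by simp, 1, M.one_mem, by simp⟩

theorem hasTv_zero_right (M : Subgroup (GL ι F)) (a : ι → F) : HasTv M a 0 :=
  ⟨by simp, 1, M.one_mem, by simp⟩

theorem HasTv.add_left {M : Subgroup (GL ι F)} {a b φ : ι → F} (ha : HasTv M a φ)
    (hb : HasTv M b φ) : HasTv M (a + b) φ := by
  obtain ⟨h, g, hg, he⟩ := ha
  obtain ⟨h', g', hg', he'⟩ := hb
  refine ⟨by rw [dotProduct_add, h, h', add_zero], g * g', M.mul_mem hg hg', ?_⟩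
  rw [Units.val_mul, he, he', add_mul, mul_add, mul_add, one_mul, one_mul, mul_one,
    vecMulVec_mul_vecMulVec, h', add_vecMulVec]
  simp
  abel

theorem HasTv.add_right {M : Subgroup (GL ι F)} {a φ ψ : ι → F} (ha : HasTv M a φ)
    (hb : HasTv M a ψ) : HasTv M a (φ + ψ) := by
  obtain ⟨h, g, hg, he⟩ := ha
  obtain ⟨h', g', hg', he'⟩ := hb
  refine ⟨by rw [add_dotProduct, h, h', add_zero], g * g', M.mul_mem hg hg', ?_⟩
  rw [Units.val_mul, he, he', add_mul, mul_add, mul_add, one_mul, one_mul, mul_one,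
    vecMulVec_mul_vecMulVec, h, vecMulVec_add]
  simp
  abel

theorem HasTv.neg_left {M : Subgroup (GL ι F)} {a φ : ι → F} (ha : HasTv M a φ) :
    HasTv M (-a) φ := by
  obtain ⟨h, hm⟩ := (hasTv_iff _ _ _).1 ha
  refine ⟨by rw [dotProduct_neg, h, neg_zero], (tv a φ h)⁻¹, M.inv_mem hm, ?_⟩
  change 1 - vecMulVec a φ = _
  rw [neg_vecMulVec, sub_eq_add_neg]

theorem HasTv.sub_left {M : Subgroup (GL ι F)} {a b φ : ι → F} (ha : HasTv M a φ)
    (hb : HasTv M b φ) : HasTv M (a - b) φ := by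
  rw [sub_eq_add_neg]; exact ha.add_left hb.neg_left

theorem vecMulVec_smul_comm (c : F) (a φ : ι → F) :
    vecMulVec (c • a) φ = vecMulVec a (c • φ) := by
  ext i j
  simp only [vecMulVec_apply, Pi.smul_apply, smul_eq_mul]
  ring

theorem hasTv_smul_comm (M : Subgroup (GL ι F)) (c : F) (a φ : ι → F) :
    HasTv M (c • a) φ ↔ HasTv M a (c • φ) := by
  unfold HasTv
  rw [dotProduct_smul, smul_dotProduct, vecMulVec_smul_comm]

theorem HasTv.conj {M : Subgroup (GL ι F)} {a φ : ι → F} (ha : HasTv M a φ) {g : GL ι F}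
    (hg : g ∈ M) :
    HasTv M ((g : Matrix ι ι F) *ᵥ a) (φ ᵥ* ((g⁻¹ : GL ι F) : Matrix ι ι F)) := by
  obtain ⟨h, x, hx, he⟩ := ha
  refine ⟨?_, g * x * g⁻¹, M.mul_mem (M.mul_mem hg hx) (M.inv_mem hg), ?_⟩
  · rw [← dotProduct_mulVec, mulVec_mulVec, ← Units.val_mul, inv_mul_cancel, Units.val_one,
      one_mulVec, h]
  · rw [Units.val_mul, Units.val_mul, he, mul_add, add_mul, mul_one, ← Units.val_mul,
      mul_inv_cancel, Units.val_one, mul_vecMulVec, vecMulVec_mul]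

/-- Conjugation of a transvection by a transvection. -/
theorem HasTv.conj_tv {M : Subgroup (GL ι F)} {a φ b ψ : ι → F} (ha : HasTv M a φ)
    (hb : HasTv M b ψ) :
    HasTv M (a + (ψ ⬝ᵥ a) • b) (φ - (φ ⬝ᵥ b) • ψ) := by
  obtain ⟨h', hm⟩ := (hasTv_iff _ _ _).1 hb
  have h := ha.conj hm
  rw [tv_mulVec] at h
  have h2 : φ ᵥ* (((tv b ψ h')⁻¹ : GL ι F) : Matrix ι ι F) = φ - (φ ⬝ᵥ b) • ψ := by
    change φ ᵥ* (1 - vecMulVec b ψ) = _
    rw [vecMul_sub, vecMul_one, vecMul_vecMulVec]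
  rwa [h2] at h

/-- The commutator of two transvections when `ψ` kills `a`. -/
theorem HasTv.comm {M : Subgroup (GL ι F)} {v ψ a α : ι → F} (hv : HasTv M v ψ)
    (ha : HasTv M a α) (h : ψ ⬝ᵥ a = 0) : HasTv M ((α ⬝ᵥ v) • a) ψ := by
  have h1 := hv.conj_tv ha
  rw [h, zero_smul, sub_zero] at h1
  have h2 := h1.sub_left hv
  rwa [add_sub_cancel_left] at h2

/-- The commutator of two transvections when `α` kills `v`. -/
theorem HasTv.comm' {M : Subgroup (GL ι F)} {v ψ a α : ι → F} (hv : HasTv M v ψ)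
    (ha : HasTv M a α) (h : α ⬝ᵥ v = 0) : HasTv M v ((ψ ⬝ᵥ a) • α) := by
  have h1 := hv.conj_tv ha
  rw [h, zero_smul, add_zero] at h1
  have h2 : HasTv M v (-ψ) := by
    have := hv.neg_left
    have h3 := (hasTv_smul_comm M (-1) v ψ).1 (by simpa using this)
    simpa using h3
  have h3 := h1.add_right h2
  have h4 : HasTv M v (-((ψ ⬝ᵥ a) • α)) := by
    convert h3 using 1
    abel
  have h5 := (hasTv_smul_comm M (-1) v ((ψ ⬝ᵥ a) • α)).2 (by simpa using h4)
  have h6 := h5.neg_left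
  simpa using h6

/-- A subgroup with all transvections contains `SL`. -/
theorem specialLinear_le_of_hasTv [Nontrivial ι] {M : Subgroup (GL ι F)}
    (h : ∀ (i j : ι), i ≠ j → ∀ c : F, HasTv M (c • Pi.single i 1) (Pi.single j 1)) :
    Cfsg.Geo.specialLinear ι F ≤ M := by
  have key : ∀ A : SpecialLinearGroup ι F,
      ∃ g ∈ M, (g : Matrix ι ι F) = (A : Matrix ι ι F) := by
    refine Cfsg.Agent.LieClassical.SLGen.transvection_induction _ ?_ ?_
    · intro i j hij c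
      obtain ⟨-, g, hg, he⟩ := h i j hij c
      refine ⟨g, hg, ?_⟩
      rw [he]
      change _ = (1 : Matrix ι ι F) + single i j c
      congr 1
      ext r s
      simp only [single_apply, vecMulVec_apply, Pi.smul_apply, Pi.single_apply, smul_eq_mul]
      by_cases h1 : i = r <;> by_cases h2 : j = s <;> simp [h1, h2, eq_comm]
    · rintro A B ⟨g, hg, he⟩ ⟨g', hg', he'⟩
      exact ⟨g * g', M.mul_mem hg hg', by rw [Units.val_mul, he, he']; rfl⟩
  intro g hg
  rw [mem_specialLinear_iff] at hg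
  obtain ⟨g', hg', he⟩ := key ⟨(g : Matrix ι ι F), hg⟩
  have : g' = g := Units.ext he
  rwa [← this]

end Cfsg.Agent.H873
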