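import Cfsg.Agent.H873.SubfieldCase

/-!
`SL_n(F₀)·scalars` is maximal in `SL_n(F)` for `|F| = |F₀|^r`, `r` prime, `n ≥ 4`.
-/

set_option autoImplicit false
set_option linter.unusedSectionVars false
set_option linter.unusedSimpArgs false

namespace Cfsg.Agent.H873.Sub

open Matrix

variable {ι : Type} [Fintype ι] [DecidableEq ι] {F : Type*} [Field F] {F₀ : Subfield F}

/-- Transport of maximality along an automorphism. -/
theorem isMaximalIn_map {G : Type*} [Group G] {K H : Subgroup G} (φ : G ≃* G)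
    (hK : K.map φ.toMonoidHom = K) (h : Cfsg.Geo.IsMaximalIn K H) :
    Cfsg.Geo.IsMaximalIn K (H.map φ.toMonoidHom) := by
  obtain ⟨h1, h2⟩ := h
  refine ⟨?_, ?_⟩
  · have := (Subgroup.map_lt_map_iff_of_injective (f := φ.toMonoidHom) φ.injective).2 h1
    rwa [hK] at this
  · intro M hM1 hM2
    have hmap : (M.comap φ.toMonoidHom).map φ.toMonoidHom = M :=
      Subgroup.map_comap_eq_self_of_surjective φ.surjective M
    have h3 : H ≤ M.comap φ.toMonoidHom := by
      rw [← Subgroup.map_le_iff_le_comap]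
      exact hM1
    have h4 : M.comap φ.toMonoidHom ≤ K := by
      rw [← Subgroup.map_le_map_iff_of_injective (f := φ.toMonoidHom) φ.injective, hmap, hK]
      exact hM2
    rcases h2 _ h3 h4 with h5 | h5
    · left
      rw [← hmap, h5]
    · right
      rw [← hmap, h5, hK]

theorem map_conj_specialLinear (P : GL ι F) :
    (Cfsg.Geo.specialLinear ι F).map (MulAut.conj P).toMonoidHom = Cfsg.Geo.specialLinear ι F := by
  ext g
  constructor
  · rintro ⟨x, hx, rfl⟩
    have : (Cfsg.Geo.specialLinear ι F).Normal := by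
      unfold Cfsg.Geo.specialLinear
      infer_instance
    exact this.conj_mem x hx P
  · intro hg
    have : (Cfsg.Geo.specialLinear ι F).Normal := by
      unfold Cfsg.Geo.specialLinear
      infer_instance
    refine ⟨P⁻¹ * g * P, ?_, ?_⟩
    · have h1 := this.conj_mem g hg P⁻¹
      rwa [inv_inv] at h1
    · simp [MulAut.conj_apply, mul_assoc]

/-- Membership in the subfield group. -/
theorem mem_sup_scalars (g : GL ι F) :
    g ∈ (Matrix.GeneralLinearGroup.map (F₀.subtype : F₀ →+* F) : GL ι F₀ →* GL ι F).range ⊔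
      Cfsg.Geo.scalars ι F ↔ ∃ d : F, d ≠ 0 ∧ ∀ i j, d * (g : Matrix ι ι F) i j ∈ F₀ := by
  constructor
  · intro hg
    rw [Subgroup.mem_sup_of_normal_right] at hg
    obtain ⟨_, ⟨h, rfl⟩, z, hz, rfl⟩ := hg
    obtain ⟨c, hc⟩ := (Cfsg.Geo.mem_scalars_iff z).1 hz
    refine ⟨(c : F)⁻¹, inv_ne_zero c.ne_zero, fun i j => ?_⟩
    rw [Units.val_mul, hc, Matrix.mul_smul, mul_one, Matrix.smul_apply, smul_eq_mul, ← mul_assoc,
      inv_mul_cancel₀ c.ne_zero, one_mul]
    exact ((h : Matrix ι ι F₀) i j).2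
  · rintro ⟨d, hd, h⟩
    set A : Matrix ι ι F₀ := fun i j => ⟨d * (g : Matrix ι ι F) i j, h i j⟩ with hA
    have hmap : A.map (F₀.subtype) = d • (g : Matrix ι ι F) := by
      ext i j
      rfl
    have hdet : A.det ≠ 0 := by
      intro h0
      have h1 := congrArg F₀.subtype h0
      rw [RingHom.map_det, RingHom.mapMatrix_apply, hmap, map_zero, det_smul] at h1
      rcases mul_eq_zero.1 h1 with h2 | h2
      · exact hd (eq_zero_of_pow_eq_zero h2)
      · have h3 : IsUnit (g : Matrix ι ι F) := g.isUnit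
        rw [isUnit_iff_isUnit_det] at h3
        exact h3.ne_zero h2
    set h0 : GL ι F₀ := Matrix.GeneralLinearGroup.mkOfDetNeZero A hdet with hh0
    have hz : (Units.map (Matrix.scalar ι : F →+* Matrix ι ι F).toMonoidHom (Units.mk0 d hd)⁻¹) ∈
        Cfsg.Geo.scalars ι F := ⟨_, rfl⟩
    have hmul : g = (Matrix.GeneralLinearGroup.map (F₀.subtype : F₀ →+* F) : GL ι F₀ →* GL ι F) h0 *
        Units.map (Matrix.scalar ι : F →+* Matrix ι ι F).toMonoidHom (Units.mk0 d hd)⁻¹ := by
      apply Units.ext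
      rw [Units.val_mul]
      have h1 : (((Matrix.GeneralLinearGroup.map (F₀.subtype : F₀ →+* F) : GL ι F₀ →* GL ι F) h0 :
          GL ι F) : Matrix ι ι F) = d • (g : Matrix ι ι F) := hmap
      rw [h1]
      simp only [Units.coe_map, RingHom.toMonoidHom_eq_coe, MonoidHom.coe_coe,
        Units.val_inv_eq_inv_val, Units.val_mk0, Matrix.scalar_apply, ← smul_one_eq_diagonal]
      rw [Matrix.mul_smul, mul_one, smul_smul, inv_mul_cancel₀ hd, one_smul]
    rw [hmul]
    exact Subgroup.mul_mem _ (Subgroup.mem_sup_left ⟨h0, rfl⟩) (Subgroup.mem_sup_right hz)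

/-- Rational transvections are in the subfield group. -/
theorem hasRat_base : HasRat F₀
    (((Matrix.GeneralLinearGroup.map (F₀.subtype : F₀ →+* F) : GL ι F₀ →* GL ι F).range ⊔
      Cfsg.Geo.scalars ι F) ⊓ Cfsg.Geo.specialLinear ι F) := by
  intro a α h
  have h' : cv F₀ α ⬝ᵥ cv F₀ a = 0 := cv_dot_eq_zero.2 h
  rw [hasTv_iff]
  refine ⟨h', ?_, tv_mem_specialLinear _ _ h'⟩
  refine (mem_sup_scalars _).2 ?_
  refine ⟨1, one_ne_zero, fun i j => ?_⟩
  rw [one_mul, coe_tv]
  simp only [Matrix.add_apply, one_apply, vecMulVec_apply, cv_apply]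
  refine F₀.add_mem ?_ (F₀.mul_mem (a i).2 (α j).2)
  split_ifs
  · exact F₀.one_mem
  · exact F₀.zero_mem

/-- The subfield group is maximal, standard position. -/
theorem maximal_std [Fintype F] (hn : 4 ≤ Fintype.card ι) {r : ℕ}
    (hr : r.Prime) (hcard : Fintype.card F = Nat.card F₀ ^ r) :
    Cfsg.Geo.IsMaximalIn (Cfsg.Geo.specialLinear ι F)
      (((Matrix.GeneralLinearGroup.map (F₀.subtype : F₀ →+* F) : GL ι F₀ →* GL ι F).range ⊔
      Cfsg.Geo.scalars ι F) ⊓ Cfsg.Geo.specialLinear ι F) := by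
  have hfin : Finite F₀ := inferInstance
  -- F₀ is proper
  obtain ⟨t, ht⟩ : ∃ t : F, t ∉ F₀ := by
    by_contra hc
    push Not at hc
    have h1 : Nat.card F₀ = Nat.card F := by
      apply Nat.card_congr
      exact ⟨fun x => x, fun x => ⟨x, hc x⟩, fun x => rfl, fun x => rfl⟩
    rw [Nat.card_eq_fintype_card (α := F), hcard] at h1
    have h2 : 1 < Nat.card F₀ := Finite.one_lt_card
    have h3 : Nat.card F₀ ^ 1 < Nat.card F₀ ^ r := Nat.pow_lt_pow_right h2 hr.one_lt
    rw [pow_one] at h3
    omega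
  obtain ⟨i0, i1, i2, h01, h02, h12⟩ := Fintype.two_lt_card_iff.1 (by omega : 2 < Fintype.card ι)
  refine ⟨lt_of_le_of_ne inf_le_right ?_, ?_⟩
  · intro hEq
    have h1 : HasTv (Cfsg.Geo.specialLinear ι F) (t • (Pi.single i0 1 : ι → F)) (Pi.single i1 1) :=
      hasTv_specialLinear (by simp [h01])
    rw [← hEq] at h1
    obtain ⟨-, g, hg, hge⟩ := h1
    obtain ⟨d, hd, h⟩ := (mem_sup_scalars g).1 hg.1
    have h2 := h i2 i2
    have h3 := h i0 i1
    rw [hge] at h2 h3
    simp only [Matrix.add_apply, one_apply_eq, vecMulVec_apply, Pi.smul_apply, ne_eq, h02.symm,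
      h12.symm, not_false_eq_true, Pi.single_eq_of_ne, mul_zero, add_zero, mul_one, h01,
      one_apply_ne, Pi.single_eq_same, smul_eq_mul, zero_add] at h2 h3
    apply ht
    have h4 := F₀.div_mem h3 h2
    rwa [mul_div_cancel_left₀ _ hd] at h4
  · intro M hM hMS
    have hRat : HasRat F₀ M := fun a α h => (hasRat_base a α h).mono hM
    rcases top_or_rat hRat (by omega) hr hcard with h | hB
    · right
      exact le_antisymm hMS h
    · left
      have hng : ∀ v ψ : ι → F, HasTv M v ψ → ¬ Gen F₀ ψ ∨ ¬ Gen F₀ v := by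
        intro v ψ h
        by_contra hc
        push Not at hc
        obtain ⟨hψ, hv⟩ := hc
        obtain ⟨p, hp⟩ := CharP.exists F
        have hpp : p.Prime := CharP.char_is_prime F p
        have : Fact p.Prime := ⟨hpp⟩
        by_cases hp2 : p = 2
        · subst hp2
          exact no_gen_two hRat hB hn h hψ hv
        · exact no_gen_odd p hp2 hRat hB (by omega) h hψ hv
      refine le_antisymm (le_inf ?_ hMS) hM
      intro g hg
      rw [mem_sup_scalars]
      apply rat_of_conj g (by omega)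
      intro k l hkl i j
      have hel : HasTv M (Pi.single k 1) (Pi.single l 1) := by
        have := hRat (Pi.single k 1) (Pi.single l 1) (by simp [hkl])
        rwa [cv_single, cv_single] at this
      have hc := hel.conj hg
      have hk0 : (g : Matrix ι ι F) *ᵥ Pi.single k 1 ≠ 0 := by
        intro h0
        have h1 : ((g⁻¹ : GL ι F) : Matrix ι ι F) *ᵥ ((g : Matrix ι ι F) *ᵥ Pi.single k 1) =
            (Pi.single k 1 : ι → F) := by
          rw [mulVec_mulVec, ← Units.val_mul, inv_mul_cancel, Units.val_one, one_mulVec]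
        rw [h0, mulVec_zero] at h1
        have h2 := congrFun h1 k
        simp at h2
      have hl0 : (Pi.single l 1 : ι → F) ᵥ* ((g⁻¹ : GL ι F) : Matrix ι ι F) ≠ 0 := by
        intro h0
        have h1 : (Pi.single l 1 : ι → F) ᵥ* ((g⁻¹ : GL ι F) : Matrix ι ι F) ᵥ*
            (g : Matrix ι ι F) = (Pi.single l 1 : ι → F) := by
          rw [vecMul_vecMul, ← Units.val_mul, inv_mul_cancel, Units.val_one, vecMul_one]
        rw [h0, zero_vecMul] at h1
        have h2 := congrFun h1 l
        simp at h2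
      obtain ⟨c, b, β, hc0, hb, hβ⟩ := rat_of_nongen hRat hB (by omega) hc hk0 hl0 (hng _ _ hc)
      have h1 := congrFun hb i
      have h2 := congrFun hβ j
      rw [mulVec_single_one] at h1
      rw [single_one_vecMul] at h2
      change (g : Matrix ι ι F) i k = _ at h1
      change ((g⁻¹ : GL ι F) : Matrix ι ι F) l j = _ at h2
      rw [h1, h2]
      simp only [Pi.smul_apply, smul_eq_mul, cv_apply]
      have : c * (b i : F) * (c⁻¹ * (β j : F)) = b i * β j := by
        field_simp
      rw [this]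
      exact F₀.mul_mem (b i).2 (β j).2

/-- The subfield group is maximal in the special linear group of dimension at least `4`. -/
theorem maximal [Fintype F] (hn : 4 ≤ Fintype.card ι) (F₀ : Subfield F) {r : ℕ}
    (hr : r.Prime) (hcard : Fintype.card F = Nat.card F₀ ^ r) (P : GL ι F) :
    Cfsg.Geo.IsMaximalIn (Cfsg.Geo.specialLinear ι F)
      (Cfsg.Geo.subfieldSubgroup F₀ P ⊓ Cfsg.Geo.specialLinear ι F) := by
  have h := isMaximalIn_map (MulAut.conj P) (map_conj_specialLinear P)
    (maximal_std (ι := ι) (F₀ := F₀) hn hr hcard)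
  rw [Subgroup.map_inf _ _ _ (MulAut.conj P).injective, map_conj_specialLinear] at h
  exact h

end Cfsg.Agent.H873.Sub
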