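import Cfsg.Agent.H873.SubfieldRat

/-!
Overgroups of `SL_n(F₀)` in `SL_n(F)`: the case in which all the parameters are rational.
-/

set_option autoImplicit false
set_option linter.unusedSectionVars false
set_option linter.unusedSimpArgs false

namespace Cfsg.Agent.H873.Sub

open Matrix

variable {ι : Type} [Fintype ι] [DecidableEq ι] {F : Type*} [Field F] {F₀ : Subfield F}
variable {M : Subgroup (GL ι F)}

/-- All the parameters of transvections of `M` with rational centre and axis are rational. -/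
def RatParam (F₀ : Subfield F) (M : Subgroup (GL ι F)) : Prop :=
  ∀ (a α : ι → F₀), a ≠ 0 → α ≠ 0 → α ⬝ᵥ a = 0 → ∀ t : F,
    HasTv M (t • cv F₀ a) (cv F₀ α) → t ∈ F₀

/-- A vector killed by no nonzero rational functional. -/
def Gen (F₀ : Subfield F) (v : ι → F) : Prop := ∀ a : ι → F₀, a ≠ 0 → v ⬝ᵥ cv F₀ a ≠ 0

/-- Rational centre implies rational axis. -/
theorem rat_axis (hM : HasRat F₀ M) (hB : RatParam F₀ M) (hn : 3 ≤ Fintype.card ι) {a : ι → F₀}
    (ha : a ≠ 0) {ψ : ι → F} (h : HasTv M (cv F₀ a) ψ) : ∃ β : ι → F₀, ψ = cv F₀ β := by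
  apply exists_cv
  intro i
  obtain ⟨α, hα0, hα1, hα2⟩ := exists_ne_zero_dot_two hn a (Pi.single i 1 : ι → F₀)
  have h1 := h.comm' (hM (Pi.single i 1) α hα2) (cv_dot_eq_zero.2 hα1)
  have h2 := (hasTv_smul_comm _ _ _ _).2 h1
  have h3 := hB a α ha hα0 hα1 _ h2
  rwa [cv_single, dotProduct_single, mul_one] at h3

/-- Rational axis implies rational centre. -/
theorem rat_centre (hM : HasRat F₀ M) (hB : RatParam F₀ M) (hn : 3 ≤ Fintype.card ι)
    {α : ι → F₀} (hα : α ≠ 0) {v : ι → F} (h : HasTv M v (cv F₀ α)) :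
    ∃ b : ι → F₀, v = cv F₀ b := by
  apply exists_cv
  intro i
  obtain ⟨a, ha0, ha1, ha2⟩ := exists_ne_zero_dot_two' hn α (Pi.single i 1 : ι → F₀)
  have h1 := h.comm (hM a (Pi.single i 1) ha2) (cv_dot_eq_zero.2 ha1)
  have h3 := hB a α ha0 hα ha1 _ h1
  rwa [cv_single, single_dotProduct, one_mul] at h3

/-- A vector killed by all rational functionals killing the rational vector `a` is a multiple of
`a`. -/
theorem eq_smul_of_kill {a : ι → F₀} (ha : a ≠ 0) {v : ι → F}
    (h : ∀ α : ι → F₀, α ⬝ᵥ a = 0 → cv F₀ α ⬝ᵥ v = 0) : ∃ c : F, v = c • cv F₀ a := by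
  obtain ⟨i, hi⟩ := Function.ne_iff.1 ha
  have hi' : (a i : F) ≠ 0 := by
    intro h0
    apply hi
    exact_mod_cast h0
  refine ⟨v i / a i, ?_⟩
  ext j
  have h1 := h (a i • Pi.single j 1 - a j • Pi.single i 1) (by
    rw [sub_dotProduct, smul_dotProduct, smul_dotProduct, single_dotProduct, single_dotProduct]
    simp [mul_comm])
  rw [cv_sub, cv_smul, cv_smul, cv_single, cv_single, sub_dotProduct, smul_dotProduct,
    smul_dotProduct, single_dotProduct, single_dotProduct] at h1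
  simp only [one_mul, smul_eq_mul] at h1
  simp only [Pi.smul_apply, smul_eq_mul, cv_apply]
  field_simp
  linear_combination h1

/-- A non-generic transvection is rational. -/
theorem rat_of_nongen (hM : HasRat F₀ M) (hB : RatParam F₀ M) (hn : 3 ≤ Fintype.card ι)
    {v ψ : ι → F} (h : HasTv M v ψ) (hv : v ≠ 0) (hψ : ψ ≠ 0) (hng : ¬ Gen F₀ ψ ∨ ¬ Gen F₀ v) :
    ∃ (c : F) (b β : ι → F₀), c ≠ 0 ∧ v = c • cv F₀ b ∧ ψ = c⁻¹ • cv F₀ β := by
  have fin1 : ∀ c : F, c ≠ 0 → (∃ β : ι → F₀, c • ψ = cv F₀ β) →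
      ∃ (c : F) (b β : ι → F₀), c ≠ 0 ∧ v = c • cv F₀ b ∧ ψ = c⁻¹ • cv F₀ β := by
    rintro c hc ⟨β, hβ⟩
    have h1 : HasTv M (c⁻¹ • v) (c • ψ) := by
      rw [← hasTv_smul_comm, smul_smul, mul_inv_cancel₀ hc, one_smul]
      exact h
    rw [hβ] at h1
    have hβ0 : β ≠ 0 := by
      rintro rfl
      rw [cv_zero] at hβ
      rcases smul_eq_zero.1 hβ with h2 | h2
      · exact hc h2
      · exact hψ h2
    obtain ⟨b, hb⟩ := rat_centre hM hB hn hβ0 h1
    refine ⟨c, b, β, hc, ?_, ?_⟩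
    · rw [← hb, smul_smul, mul_inv_cancel₀ hc, one_smul]
    · rw [← hβ, smul_smul, inv_mul_cancel₀ hc, one_smul]
  have fin2 : ∀ c : F, c ≠ 0 → (∃ b : ι → F₀, c • v = cv F₀ b) →
      ∃ (c : F) (b β : ι → F₀), c ≠ 0 ∧ v = c • cv F₀ b ∧ ψ = c⁻¹ • cv F₀ β := by
    rintro c hc ⟨b, hb⟩
    have h1 : HasTv M (c • v) (c⁻¹ • ψ) := by
      rw [hasTv_smul_comm, smul_smul, mul_inv_cancel₀ hc, one_smul]
      exact h
    rw [hb] at h1
    have hb0 : b ≠ 0 := by
      rintro rfl
      rw [cv_zero] at hb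
      rcases smul_eq_zero.1 hb with h2 | h2
      · exact hc h2
      · exact hv h2
    obtain ⟨β, hβ⟩ := rat_axis hM hB hn hb0 h1
    refine ⟨c⁻¹, b, β, inv_ne_zero hc, ?_, ?_⟩
    · rw [← hb, smul_smul, inv_mul_cancel₀ hc, one_smul]
    · rw [← hβ, smul_smul, inv_inv, mul_inv_cancel₀ hc, one_smul]
  rcases hng with hng | hng
  · unfold Gen at hng
    push Not at hng
    obtain ⟨a, ha0, ha⟩ := hng
    by_cases hk : ∀ α : ι → F₀, α ⬝ᵥ a = 0 → cv F₀ α ⬝ᵥ v = 0
    · obtain ⟨c, hc⟩ := eq_smul_of_kill ha0 hk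
      have hc0 : c ≠ 0 := by
        rintro rfl
        rw [zero_smul] at hc
        exact hv hc
      refine fin1 c hc0 (rat_axis hM hB hn ha0 ?_)
      rw [← hasTv_smul_comm, ← hc]
      exact h
    · push Not at hk
      obtain ⟨α, hα, hs⟩ := hk
      refine fin1 _ hs (rat_axis hM hB hn ha0 ?_)
      rw [← hasTv_smul_comm]
      exact h.comm (hM a α hα) ha
  · unfold Gen at hng
    push Not at hng
    obtain ⟨α, hα0, hα⟩ := hng
    rw [dotProduct_comm] at hα
    by_cases hk : ∀ a : ι → F₀, a ⬝ᵥ α = 0 → cv F₀ a ⬝ᵥ ψ = 0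
    · obtain ⟨c, hc⟩ := eq_smul_of_kill hα0 hk
      have hc0 : c ≠ 0 := by
        rintro rfl
        rw [zero_smul] at hc
        exact hψ hc
      refine fin2 c hc0 (rat_centre hM hB hn hα0 ?_)
      rw [hasTv_smul_comm, ← hc]
      exact h
    · push Not at hk
      obtain ⟨a, ha, hs⟩ := hk
      rw [dotProduct_comm] at hs ha
      refine fin2 _ hs (rat_centre hM hB hn hα0 ?_)
      rw [hasTv_smul_comm]
      exact h.comm' (hM a α ha) hα

/-- If the conjugates of the elementary transvections are rational, then the matrix is rational up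
to a scalar. -/
theorem rat_of_conj (g : GL ι F) (hn : 3 ≤ Fintype.card ι)
    (h : ∀ k l : ι, k ≠ l → ∀ i j : ι,
      (g : Matrix ι ι F) i k * ((g⁻¹ : GL ι F) : Matrix ι ι F) l j ∈ F₀) :
    ∃ d : F, d ≠ 0 ∧ ∀ i j, d * (g : Matrix ι ι F) i j ∈ F₀ := by
  -- nonzero entries of rows of the inverse and columns of g
  have hrow : ∀ l, ∃ j, ((g⁻¹ : GL ι F) : Matrix ι ι F) l j ≠ 0 := by
    intro l
    by_contra hc
    push Not at hc
    have h1 : (((g⁻¹ : GL ι F) : Matrix ι ι F) * (g : Matrix ι ι F)) l l = 1 := by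
      rw [← Units.val_mul, inv_mul_cancel, Units.val_one, one_apply_eq]
    rw [mul_apply, Finset.sum_eq_zero (fun j _ => by rw [hc j, zero_mul])] at h1
    exact zero_ne_one h1
  have hcol : ∀ k, ∃ i, (g : Matrix ι ι F) i k ≠ 0 := by
    intro k
    by_contra hc
    push Not at hc
    have h1 : (((g⁻¹ : GL ι F) : Matrix ι ι F) * (g : Matrix ι ι F)) k k = 1 := by
      rw [← Units.val_mul, inv_mul_cancel, Units.val_one, one_apply_eq]
    rw [mul_apply, Finset.sum_eq_zero (fun j _ => by rw [hc j, mul_zero])] at h1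
    exact zero_ne_one h1
  obtain ⟨l0, l1, k2, h01, h02, h12⟩ := Fintype.two_lt_card_iff.1 (by omega : 2 < Fintype.card ι)
  obtain ⟨j0, hj0⟩ := hrow l0
  obtain ⟨j1, hj1⟩ := hrow l1
  obtain ⟨i2, hi2⟩ := hcol k2
  set d := ((g⁻¹ : GL ι F) : Matrix ι ι F) l0 j0 with hd
  set d1 := ((g⁻¹ : GL ι F) : Matrix ι ι F) l1 j1 with hd1
  have hq : d / d1 ∈ F₀ := by
    have h1 := h k2 l0 (Ne.symm h02) i2 j0
    have h2 := h k2 l1 (Ne.symm h12) i2 j1
    rw [← hd] at h1
    rw [← hd1] at h2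
    have h3 := F₀.div_mem h1 h2
    rwa [mul_div_mul_left _ _ hi2] at h3
  refine ⟨d, hj0, fun i j => ?_⟩
  by_cases hj : j = l0
  · subst hj
    have h2 := h j l1 h01 i j1
    rw [← hd1] at h2
    have h3 := F₀.mul_mem hq h2
    have h4 : d / d1 * ((g : Matrix ι ι F) i j * d1) = d * (g : Matrix ι ι F) i j := by
      field_simp
    rwa [h4] at h3
  · have := h j l0 hj i j0
    rwa [mul_comm]

/-! ### No generic transvection, odd characteristic -/

section Odd

variable (v a ψ α : ι → F) (s t : F)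

/-- The homomorphism `GL₂ → GL_n` given by the plane `⟨v, a⟩` and the functionals `ψ, α`. -/
def emb2Mat (A : Matrix (Fin 2) (Fin 2) F) : Matrix ι ι F :=
  1 + vecMulVec (((A 0 0 - 1) * s⁻¹) • v + (A 1 0 * s⁻¹) • a) α +
    vecMulVec ((A 0 1 * t⁻¹) • v + ((A 1 1 - 1) * t⁻¹) • a) ψ

theorem emb2Mat_mulVec (A : Matrix (Fin 2) (Fin 2) F) (x : ι → F) :
    emb2Mat v a ψ α s t A *ᵥ x = x + (α ⬝ᵥ x) • (((A 0 0 - 1) * s⁻¹) • v + (A 1 0 * s⁻¹) • a) +
      (ψ ⬝ᵥ x) • ((A 0 1 * t⁻¹) • v + ((A 1 1 - 1) * t⁻¹) • a) := by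
  unfold emb2Mat
  rw [add_mulVec, add_mulVec, one_mulVec, vecMulVec_mulVec, vecMulVec_mulVec, op_smul_eq_smul,
    op_smul_eq_smul]

variable {v a ψ α s t}

theorem emb2Mat_mul (hψv : ψ ⬝ᵥ v = 0) (hαa : α ⬝ᵥ a = 0) (hs : α ⬝ᵥ v = s) (ht : ψ ⬝ᵥ a = t)
    (hs0 : s ≠ 0) (ht0 : t ≠ 0) (A B : Matrix (Fin 2) (Fin 2) F) :
    emb2Mat v a ψ α s t (A * B) = emb2Mat v a ψ α s t A * emb2Mat v a ψ α s t B := by
  apply Matrix.mulVec_injective
  funext x
  rw [← mulVec_mulVec, emb2Mat_mulVec, emb2Mat_mulVec, emb2Mat_mulVec]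
  simp only [dotProduct_add, dotProduct_smul, hψv, hαa, hs, ht, smul_eq_mul, mul_apply,
    Fin.sum_univ_two]
  ext i
  simp only [Pi.add_apply, Pi.smul_apply, smul_eq_mul]
  field_simp
  ring

theorem emb2Mat_one : emb2Mat v a ψ α s t 1 = 1 := by
  simp [emb2Mat]

/-- The homomorphism on groups. -/
def emb2 (hψv : ψ ⬝ᵥ v = 0) (hαa : α ⬝ᵥ a = 0) (hs : α ⬝ᵥ v = s) (ht : ψ ⬝ᵥ a = t)
    (hs0 : s ≠ 0) (ht0 : t ≠ 0) : GL (Fin 2) F →* GL ι F :=
  Units.map
    { toFun := emb2Mat v a ψ α s t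
      map_one' := emb2Mat_one
      map_mul' := emb2Mat_mul hψv hαa hs ht hs0 ht0 }

theorem coe_emb2 (hψv : ψ ⬝ᵥ v = 0) (hαa : α ⬝ᵥ a = 0) (hs : α ⬝ᵥ v = s) (ht : ψ ⬝ᵥ a = t)
    (hs0 : s ≠ 0) (ht0 : t ≠ 0) (g : GL (Fin 2) F) :
    ((emb2 hψv hαa hs ht hs0 ht0 g : GL ι F) : Matrix ι ι F) =
      emb2Mat v a ψ α s t (g : Matrix (Fin 2) (Fin 2) F) := rfl

/-- Two opposite transvections of `M` in odd characteristic: the involution inverting the plane of
their centres is in `M`. -/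
theorem neg_mem [Fintype F] (p : ℕ) [Fact p.Prime] [CharP F p] (hp : p ≠ 2)
    (hv : HasTv M v ψ) (ha : HasTv M a α) (hs0 : α ⬝ᵥ v ≠ 0) (ht0 : ψ ⬝ᵥ a ≠ 0) :
    ∃ z ∈ M, ∀ x, (z : Matrix ι ι F) *ᵥ x =
      x - (2 * (α ⬝ᵥ x) * (α ⬝ᵥ v)⁻¹) • v - (2 * (ψ ⬝ᵥ x) * (ψ ⬝ᵥ a)⁻¹) • a := by
  obtain ⟨hψv, x, hx, hxe⟩ := hv
  obtain ⟨hαa, y, hy, hye⟩ := ha
  set e := emb2 hψv hαa rfl rfl hs0 ht0 with he
  set H := M.comap e with hH
  have : Finite (GL (Fin 2) F) := inferInstance
  have : Finite H := inferInstance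
  have hU : LieClassical.DicksonWeak.U (ψ ⬝ᵥ a) ∈ H := by
    rw [hH, Subgroup.mem_comap]
    have : e (LieClassical.DicksonWeak.U (ψ ⬝ᵥ a)) = x := by
      apply Units.ext
      rw [he, coe_emb2, LieClassical.DicksonWeak.coe_U, hxe]
      simp [emb2Mat, ht0]
    rwa [this]
  have hL : LieClassical.DicksonWeak.L (α ⬝ᵥ v) ∈ H := by
    rw [hH, Subgroup.mem_comap]
    have : e (LieClassical.DicksonWeak.L (α ⬝ᵥ v)) = y := by
      apply Units.ext
      rw [he, coe_emb2, LieClassical.DicksonWeak.coe_L, hye]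
      simp [emb2Mat, hs0]
    rwa [this]
  have hne : LieClassical.DicksonWeak.U (ψ ⬝ᵥ a) * LieClassical.DicksonWeak.L (α ⬝ᵥ v) ≠
      LieClassical.DicksonWeak.L (α ⬝ᵥ v) * LieClassical.DicksonWeak.U (ψ ⬝ᵥ a) := by
    intro h
    have h1 := congrArg (fun g : GL (Fin 2) F => (g : Matrix (Fin 2) (Fin 2) F) 0 0) h
    simp only [Units.val_mul, LieClassical.DicksonWeak.coe_U, LieClassical.DicksonWeak.coe_L,
      mul_apply, Fin.sum_univ_two] at h1
    simp at h1
    rcases h1 with h1 | h1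
    · exact ht0 h1
    · exact hs0 h1
  have hmain := LieClassical.DicksonWeak.main p hp H _ _ hU hL
    (LieClassical.DicksonWeak.unip_U _) (LieClassical.DicksonWeak.unip_L _) hne
  obtain ⟨g, hg⟩ := hmain
  have h1 := hg (-1)
  have h2 : LieClassical.DicksonWeak.prime p (-1) = (-1 : GL (Fin 2) F) := by
    apply Units.ext
    change ((-1 : Matrix (Fin 2) (Fin 2) (ZMod p)).map (ZMod.castHom (dvd_refl p) F)) = -1
    ext i j
    fin_cases i <;> fin_cases j <;> simp
  rw [h2] at h1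
  have h3 : g * -1 * g⁻¹ = (-1 : GL (Fin 2) F) := by
    rw [mul_neg, mul_one, neg_mul, mul_inv_cancel]
  rw [h3] at h1
  refine ⟨e (-1), h1, fun x => ?_⟩
  have e00 : (-1 : Matrix (Fin 2) (Fin 2) F) 0 0 = -1 := by simp
  have e11 : (-1 : Matrix (Fin 2) (Fin 2) F) 1 1 = -1 := by simp
  have e01 : (-1 : Matrix (Fin 2) (Fin 2) F) 0 1 = 0 := by simp
  have e10 : (-1 : Matrix (Fin 2) (Fin 2) F) 1 0 = 0 := by simp
  rw [he, coe_emb2, emb2Mat_mulVec, Units.val_neg, Units.val_one, e00, e11, e01, e10]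
  ext i
  simp only [Pi.add_apply, Pi.sub_apply, Pi.smul_apply, smul_eq_mul]
  ring

end Odd

/-- There is no generic transvection in odd characteristic. -/
theorem no_gen_odd [Fintype F] (p : ℕ) [Fact p.Prime] [CharP F p] (hp : p ≠ 2)
    (hM : HasRat F₀ M) (hB : RatParam F₀ M) (hn : 3 ≤ Fintype.card ι) {v ψ : ι → F}
    (h : HasTv M v ψ) (hψ : Gen F₀ ψ) (hv : Gen F₀ v) : False := by
  have h2 : (2 : F) ≠ 0 := by
    intro h0
    have h3 : ((2 : ℕ) : F) = 0 := by exact_mod_cast h0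
    rw [CharP.cast_eq_zero_iff F p] at h3
    have h4 := Nat.le_of_dvd (by norm_num) h3
    have h5 := (Fact.out : p.Prime).two_le
    omega
  obtain ⟨i0, i1, i2, h01, h02, h12⟩ := Fintype.two_lt_card_iff.1 (by omega : 2 < Fintype.card ι)
  have hy := hM (Pi.single i0 1) (Pi.single i1 1) (by simp [h01])
  have hne : ∀ i : ι, (Pi.single i 1 : ι → F₀) ≠ 0 := fun i h0 => by
    have := congrFun h0 i
    simp at this
  have hs0 : cv F₀ (Pi.single i1 1) ⬝ᵥ v ≠ 0 := by
    rw [dotProduct_comm]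
    exact hv _ (hne i1)
  have ht0 : ψ ⬝ᵥ cv F₀ (Pi.single i0 1) ≠ 0 := hψ _ (hne i0)
  obtain ⟨z, hz, hzx⟩ := neg_mem p hp h hy hs0 ht0
  have hw := (hM (Pi.single i2 1) (Pi.single i1 1) (by simp [h12])).conj hz
  set t := ψ ⬝ᵥ cv F₀ (Pi.single i0 1) with ht
  set s := cv F₀ (Pi.single i1 1) ⬝ᵥ v with hs
  set u := ψ ⬝ᵥ cv F₀ (Pi.single i2 1) with hu
  -- the image of the axis
  have hax : cv F₀ (Pi.single i1 1) ᵥ* ((z⁻¹ : GL ι F) : Matrix ι ι F) =
      cv F₀ (-(Pi.single i1 1)) := by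
    apply dot_ext
    intro x
    have h1 : ∀ y, cv F₀ (Pi.single i1 1) ⬝ᵥ ((z : Matrix ι ι F) *ᵥ y) =
        cv F₀ (-(Pi.single i1 1)) ⬝ᵥ y := by
      intro y
      rw [hzx, dotProduct_sub, dotProduct_sub, dotProduct_smul, dotProduct_smul, ← hs, cv_dot,
        smul_eq_mul, smul_eq_mul]
      have h3 : (Pi.single i1 1 : ι → F₀) ⬝ᵥ Pi.single i0 1 = 0 := by simp [h01]
      rw [h3]
      have h4 : cv F₀ (-(Pi.single i1 1 : ι → F₀)) ⬝ᵥ y = -(cv F₀ (Pi.single i1 1) ⬝ᵥ y) := by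
        rw [← neg_dotProduct]
        congr 1
      rw [h4]
      simp only [ZeroMemClass.coe_zero, mul_zero, sub_zero]
      field_simp
      ring
    have h2 := h1 (((z⁻¹ : GL ι F) : Matrix ι ι F) *ᵥ x)
    rw [mulVec_mulVec, ← Units.val_mul, mul_inv_cancel, Units.val_one, one_mulVec] at h2
    rw [← dotProduct_mulVec]
    have h5 : cv F₀ (-(Pi.single i1 1 : ι → F₀)) = -cv F₀ (Pi.single i1 1) := by
      ext j
      simp [cv]
    rw [h5, neg_dotProduct] at h2 ⊢
    rw [h2, neg_neg]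
  rw [hax] at hw
  obtain ⟨b, hb⟩ := rat_centre hM hB hn (neg_ne_zero.2 (hne i1)) hw
  rw [hzx] at hb
  have hb0 := congrFun hb i0
  have hk : cv F₀ (Pi.single i1 1) ⬝ᵥ cv F₀ (Pi.single i2 1) = 0 := by
    rw [cv_dot_eq_zero]
    simp [h12]
  rw [hk, ← hu] at hb0
  simp only [cv_single, mul_zero, zero_mul, zero_smul, sub_zero, Pi.sub_apply, Pi.smul_apply,
    Pi.single_eq_same, ne_eq, h02, not_false_eq_true, Pi.single_eq_of_ne, smul_eq_mul, mul_one,
    zero_sub] at hb0
  -- now `ψ` kills a rational vector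
  set e : F₀ := -(b i0) / 2 with hee
  have he : (e : F) = u * t⁻¹ := by
    have hc2 : ((2 : F₀) : F) = 2 := by norm_cast
    rw [hee]
    push_cast
    rw [← cv_apply b i0, ← hb0, hc2]
    field_simp
  refine hψ (Pi.single i2 1 - e • Pi.single i0 1) ?_ ?_
  · intro h0
    have := congrFun h0 i2
    simp [h02.symm] at this
  · rw [cv_sub, cv_smul, dotProduct_sub, dotProduct_smul, ← hu, ← ht, he, smul_eq_mul]
    field_simp
    ring

/-! ### No generic transvection, characteristic two -/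

theorem coe_one_add_mul {a α b β : ι → F} (h : α ⬝ᵥ b = 0) :
    (1 + vecMulVec a α) * (1 + vecMulVec b β) = 1 + vecMulVec a α + vecMulVec b β := by
  rw [add_mul, mul_add, mul_add, one_mul, one_mul, mul_one, vecMulVec_mul_vecMulVec, h]
  simp
  abel

/-- In characteristic two there is no generic transvection. -/
theorem no_gen_two [Fintype F] [CharP F 2]
    (hM : HasRat F₀ M) (hB : RatParam F₀ M) (hn : 4 ≤ Fintype.card ι) {v ψ : ι → F}
    (h : HasTv M v ψ) (hψ : Gen F₀ ψ) (hv : Gen F₀ v) : False := by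
  have : Finite (GL ι F) := inferInstance
  have : Finite M := inferInstance
  have htwo : ∀ x : F, x + x = 0 := fun x => CharTwo.add_self_eq_zero x
  -- four indices
  obtain ⟨e⟩ : Nonempty (Fin 4 ↪ ι) := by
    rw [Function.Embedding.nonempty_iff_card_le]
    simpa using hn
  set i0 := e 0
  set i1 := e 1
  set i2 := e 2
  set i3 := e 3
  have h01 : i0 ≠ i1 := fun h => by simpa using e.injective h
  have h02 : i0 ≠ i2 := fun h => by simpa using e.injective h
  have h03 : i0 ≠ i3 := fun h => by simpa using e.injective h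
  have h12 : i1 ≠ i2 := fun h => by simpa using e.injective h
  have h13 : i1 ≠ i3 := fun h => by simpa using e.injective h
  have h23 : i2 ≠ i3 := fun h => by simpa using e.injective h
  have hne : ∀ i : ι, (Pi.single i 1 : ι → F₀) ≠ 0 := fun i h0 => by
    have := congrFun h0 i
    simp at this
  have hneF : ∀ i : ι, (Pi.single i 1 : ι → F) ≠ 0 := fun i h0 => by
    have := congrFun h0 i
    simp at this
  have hv0 : v ≠ 0 := by
    rintro rfl
    exact hv _ (hne i0) (by simp)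
  have hψ0 : ψ ≠ 0 := by
    rintro rfl
    exact hψ _ (hne i0) (by simp)
  obtain ⟨hψv, x, hxM, hxe⟩ := id h
  -- elementary transvections
  have hel : ∀ i j : ι, i ≠ j → HasTv M (Pi.single i 1) (Pi.single j 1) := by
    intro i j hij
    have := hM (Pi.single i 1) (Pi.single j 1) (by simp [hij])
    rwa [cv_single, cv_single] at this
  obtain ⟨-, y1, hy1, hy1e⟩ := hel i0 i1 h01
  obtain ⟨-, y2, hy2, hy2e⟩ := hel i2 i3 h23
  set y := y1 * y2 with hy
  have hyM : y ∈ M := M.mul_mem hy1 hy2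
  have hye : (y : Matrix ι ι F) = 1 + vecMulVec (Pi.single i0 1) (Pi.single i1 1) +
      vecMulVec (Pi.single i2 1) (Pi.single i3 1) := by
    rw [hy, Units.val_mul, hy1e, hy2e, coe_one_add_mul]
    simp [h12]
  have hyx : ∀ w : ι → F, (y : Matrix ι ι F) *ᵥ w = w + w i1 • Pi.single i0 1 +
      w i3 • Pi.single i2 1 := by
    intro w
    rw [hye, add_mulVec, add_mulVec, one_mulVec, vecMulVec_mulVec, vecMulVec_mulVec,
      op_smul_eq_smul, op_smul_eq_smul, single_dotProduct, single_dotProduct, one_mul, one_mul]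
  have hxx : ∀ w : ι → F, (x : Matrix ι ι F) *ᵥ w = w + (ψ ⬝ᵥ w) • v := by
    intro w
    rw [hxe, one_add_mulVec]
  -- orders
  have hx2 : x * x = 1 := by
    apply gl_ext
    intro w
    rw [Units.val_mul, ← mulVec_mulVec, hxx, hxx, dotProduct_add, dotProduct_smul, hψv, smul_zero,
      add_zero, Units.val_one, one_mulVec, add_assoc, ← add_smul, htwo, zero_smul, add_zero]
  have hy2' : y * y = 1 := by
    apply gl_ext
    intro w
    rw [Units.val_mul, ← mulVec_mulVec, hyx, hyx, Units.val_one, one_mulVec]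
    ext j
    simp only [Pi.add_apply, Pi.smul_apply, smul_eq_mul, Pi.single_eq_same, ne_eq, h01.symm,
      h12, h03.symm, h23.symm, not_false_eq_true, Pi.single_eq_of_ne, mul_zero, add_zero]
    linear_combination htwo (w i1 * Pi.single (M := fun _ => F) i0 1 j) +
      htwo (w i3 * Pi.single (M := fun _ => F) i2 1 j)
  have hx1 : x ≠ 1 := by
    intro h1
    rw [h1, Units.val_one] at hxe
    have h2 : vecMulVec v ψ = 0 := by
      have := hxe.symm
      rwa [add_eq_left] at this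
    obtain ⟨i, hi⟩ := Function.ne_iff.1 hv0
    obtain ⟨j, hj⟩ := Function.ne_iff.1 hψ0
    have h3 := congrFun (congrFun h2 i) j
    rw [vecMulVec_apply] at h3
    rcases mul_eq_zero.1 h3 with h3 | h3
    · exact hi h3
    · exact hj h3
  have hy1' : y ≠ 1 := by
    intro h1
    have h2 := hyx (Pi.single i1 1)
    rw [h1, Units.val_one, one_mulVec] at h2
    have h3 := congrFun h2 i0
    simp [h01, h02, h13.symm] at h3
  -- not conjugate
  have hnc : ¬ IsConj (⟨x, hxM⟩ : M) ⟨y, hyM⟩ := by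
    intro hc
    obtain ⟨g, hg⟩ := isConj_iff.1 hc
    have hg' : (g : GL ι F) * x = y * (g : GL ι F) := by
      have := congrArg (fun z : M => (z : GL ι F)) hg
      simp only [Subgroup.coe_mul, Subgroup.coe_inv] at this
      rw [← this]
      group
    have h1 : ∀ w : ι → F, (ψ ⬝ᵥ w) • ((g : GL ι F) : Matrix ι ι F) *ᵥ v =
        (((g : GL ι F) : Matrix ι ι F) *ᵥ w) i1 • Pi.single i0 1 +
        (((g : GL ι F) : Matrix ι ι F) *ᵥ w) i3 • Pi.single i2 1 := by
      intro w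
      have h2 := congrArg (fun z : GL ι F => (z : Matrix ι ι F) *ᵥ w) hg'
      simp only [Units.val_mul, ← mulVec_mulVec] at h2
      rw [hxx, hyx, mulVec_add, mulVec_smul, add_assoc] at h2
      exact add_left_cancel h2
    have h2 := h1 (((((g : GL ι F))⁻¹ : GL ι F) : Matrix ι ι F) *ᵥ Pi.single i1 1)
    have h3 := h1 (((((g : GL ι F))⁻¹ : GL ι F) : Matrix ι ι F) *ᵥ Pi.single i3 1)
    rw [mulVec_mulVec _ ((g : GL ι F) : Matrix ι ι F), ← Units.val_mul, mul_inv_cancel,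
      Units.val_one, one_mulVec] at h2 h3
    have a1 := congrFun h2 i0
    have a2 := congrFun h2 i2
    have a3 := congrFun h3 i2
    simp only [Pi.smul_apply, smul_eq_mul, Pi.add_apply, Pi.single_eq_same, ne_eq, h01, h02,
      h12, h03, h23, h13, h01.symm, h02.symm, h12.symm, h03.symm, h23.symm, h13.symm,
      not_false_eq_true, Pi.single_eq_of_ne, mul_zero, mul_one, zero_mul, add_zero, zero_add]
      at a1 a2 a3
    rcases mul_eq_zero.1 a2 with h4 | h4
    · rw [h4, zero_mul] at a1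
      exact zero_ne_one a1
    · rw [h4, mul_zero] at a3
      exact zero_ne_one a3
  have hox : orderOf (⟨x, hxM⟩ : M) = 2 := by
    apply orderOf_eq_prime
    · apply Subtype.ext
      simpa [pow_two] using hx2
    · intro h1
      exact hx1 (congrArg Subtype.val h1)
  have hoy : orderOf (⟨y, hyM⟩ : M) = 2 := by
    apply orderOf_eq_prime
    · apply Subtype.ext
      simpa [pow_two] using hy2'
    · intro h1
      exact hy1' (congrArg Subtype.val h1)
  obtain ⟨⟨z, hzM⟩, hz2, hxz, hyz⟩ := Cfsg.Agent.HN.CloseFinal.exists_central hox hoy hnc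
  have hz2' : z * z = 1 := by
    have h1 := pow_orderOf_eq_one (⟨z, hzM⟩ : M)
    rw [hz2, pow_two] at h1
    exact congrArg Subtype.val h1
  have hz1 : z ≠ 1 := by
    intro h1
    rw [orderOf_eq_one_iff.2 (by apply Subtype.ext; exact h1)] at hz2
    norm_num at hz2
  have hxz' : x * z = z * x := congrArg Subtype.val hxz
  have hyz' : y * z = z * y := congrArg Subtype.val hyz
  have hzz : ∀ w : ι → F, (z : Matrix ι ι F) *ᵥ ((z : Matrix ι ι F) *ᵥ w) = w := by
    intro w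
    rw [mulVec_mulVec, ← Units.val_mul, hz2', Units.val_one, one_mulVec]
  have hzinv : z⁻¹ = z := by
    rw [inv_eq_iff_mul_eq_one]
    exact hz2'
  have hz0 : ∀ w : ι → F, w ≠ 0 → (z : Matrix ι ι F) *ᵥ w ≠ 0 := by
    intro w hw h0
    apply hw
    rw [← hzz w, h0, mulVec_zero]
  have hz0' : ∀ w : ι → F, w ≠ 0 → w ᵥ* (z : Matrix ι ι F) ≠ 0 := by
    intro w hw h0
    apply hw
    have h1 : w ᵥ* (z : Matrix ι ι F) ᵥ* (z : Matrix ι ι F) = w := by
      rw [vecMul_vecMul, ← Units.val_mul, hz2', Units.val_one, vecMul_one]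
    rw [← h1, h0, zero_vecMul]
  -- rationality of the conjugates
  have hconj : ∀ i j : ι, i ≠ j →
      HasTv M ((z : Matrix ι ι F) *ᵥ Pi.single i 1) (Pi.single j 1 ᵥ* (z : Matrix ι ι F)) := by
    intro i j hij
    have := (hel i j hij).conj hzM
    rwa [hzinv] at this
  have step0 : ¬ Gen F₀ ((z : Matrix ι ι F) *ᵥ (Pi.single i0 1 : ι → F)) := by
    intro hg
    refine hg (Pi.single i1 1) (hne i1) ?_
    rw [cv_single, dotProduct_single, mul_one]
    have h1 : (y : Matrix ι ι F) *ᵥ ((z : Matrix ι ι F) *ᵥ (Pi.single i0 1 : ι → F)) =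
        (z : Matrix ι ι F) *ᵥ ((y : Matrix ι ι F) *ᵥ (Pi.single i0 1 : ι → F)) := by
      rw [mulVec_mulVec, mulVec_mulVec, ← Units.val_mul, ← Units.val_mul, hyz']
    rw [hyx, hyx (Pi.single i0 1)] at h1
    simp only [ne_eq, h01.symm, h03.symm, not_false_eq_true, Pi.single_eq_of_ne, zero_smul,
      add_zero] at h1
    rw [add_assoc, add_eq_left] at h1
    have h2 := congrFun h1 i0
    simpa [h02] using h2
  have hrat01 := rat_of_nongen hM hB (by omega) (hconj i0 i1 h01) (hz0 _ (hneF i0))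
    (hz0' _ (hneF i1)) (Or.inr step0)
  have hdz : ∀ (i j : ι), (Pi.single j 1 ᵥ* (z : Matrix ι ι F)) ⬝ᵥ
      ((z : Matrix ι ι F) *ᵥ Pi.single i 1) = (Pi.single j 1 : ι → F) ⬝ᵥ Pi.single i 1 := by
    intro i j
    rw [← dotProduct_mulVec, hzz]
  -- propagate
  have prop : ∀ i j k l : ι, i ≠ j → k ≠ l → l ≠ i →
      (∃ (c : F) (b β : ι → F₀), c ≠ 0 ∧ (z : Matrix ι ι F) *ᵥ Pi.single i 1 = c • cv F₀ b ∧
        Pi.single j 1 ᵥ* (z : Matrix ι ι F) = c⁻¹ • cv F₀ β) →
      (∃ (c : F) (b β : ι → F₀), c ≠ 0 ∧ (z : Matrix ι ι F) *ᵥ Pi.single k 1 = c • cv F₀ b ∧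
        Pi.single l 1 ᵥ* (z : Matrix ι ι F) = c⁻¹ • cv F₀ β) := by
    rintro i j k l hij hkl hli ⟨c, b, β, hc, hb, -⟩
    refine rat_of_nongen hM hB (by omega) (hconj k l hkl) (hz0 _ (hneF k)) (hz0' _ (hneF l))
      (Or.inl ?_)
    intro hg
    have hb0 : b ≠ 0 := by
      rintro rfl
      rw [cv_zero, smul_zero] at hb
      exact hz0 _ (hneF i) hb
    apply hg b hb0
    have h1 := hdz i l
    rw [hb, dotProduct_smul, single_dotProduct, one_mul, Pi.single_eq_of_ne hli] at h1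
    rcases smul_eq_zero.1 h1 with h2 | h2
    · exact absurd h2 hc
    · exact h2
  have hall : ∀ k l : ι, k ≠ l →
      (∃ (c : F) (b β : ι → F₀), c ≠ 0 ∧ (z : Matrix ι ι F) *ᵥ Pi.single k 1 = c • cv F₀ b ∧
        Pi.single l 1 ᵥ* (z : Matrix ι ι F) = c⁻¹ • cv F₀ β) := by
    intro k l hkl
    by_cases hl : l = i0
    · subst hl
      exact prop i1 i2 k _ h12 hkl h01 (prop i0 i1 i1 i2 h01 h12 h02.symm hrat01)
    · exact prop i0 i1 k l h01 hkl hl hrat01
  obtain ⟨d, hd0, hd⟩ := rat_of_conj z (by omega) (by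
    intro k l hkl i j
    obtain ⟨c, b, β, hc, hb, hβ⟩ := hall k l hkl
    have h1 := congrFun hb i
    have h2 := congrFun hβ j
    rw [mulVec_single_one] at h1
    rw [single_one_vecMul] at h2
    rw [hzinv]
    change (z : Matrix ι ι F) i k = _ at h1
    change (z : Matrix ι ι F) l j = _ at h2
    rw [h1, h2]
    simp only [Pi.smul_apply, smul_eq_mul, cv_apply]
    have : c * (b i : F) * (c⁻¹ * (β j : F)) = b i * β j := by
      field_simp
    rw [this]
    exact F₀.mul_mem (b i).2 (β j).2)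
  -- d is rational
  have hdd : d * d ∈ F₀ := by
    have h1 : ∑ j, (d * (z : Matrix ι ι F) i0 j) * (d * (z : Matrix ι ι F) j i0) = d * d := by
      have h2 : ((z : Matrix ι ι F) * (z : Matrix ι ι F)) i0 i0 = 1 := by
        rw [← Units.val_mul, hz2', Units.val_one, one_apply_eq]
      rw [mul_apply] at h2
      calc ∑ j, (d * (z : Matrix ι ι F) i0 j) * (d * (z : Matrix ι ι F) j i0)
          = d * d * ∑ j, (z : Matrix ι ι F) i0 j * (z : Matrix ι ι F) j i0 := by
            rw [Finset.mul_sum]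
            exact Finset.sum_congr rfl fun j _ => by ring
        _ = d * d := by rw [h2, mul_one]
    rw [← h1]
    exact F₀.sum_mem fun j _ => F₀.mul_mem (hd _ _) (hd _ _)
  have hdF : d ∈ F₀ := by
    have : CharP F₀ 2 := inferInstance
    have : Finite F₀ := inferInstance
    obtain ⟨s, hs⟩ : ∃ s : F₀, s * s = ⟨d * d, hdd⟩ := by
      obtain ⟨s, hs⟩ := FiniteField.isSquare_of_char_two (F := F₀) (ringChar.eq F₀ 2)
        (⟨d * d, hdd⟩ : F₀)
      exact ⟨s, hs.symm⟩
    have h1 : (s : F) * s = d * d := congrArg Subtype.val hs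
    have h2 : ((s : F) - d) * ((s : F) - d) = 0 := by
      have h3 : (s : F) * s + d * d - 2 * (s * d) = 0 := by
        rw [h1, htwo]
        have : (2 : F) = 0 := CharTwo.two_eq_zero
        rw [this]
        ring
      linear_combination h3
    have h3 : (s : F) - d = 0 := by
      rcases mul_eq_zero.1 h2 with h | h <;> exact h
    rw [← sub_eq_zero.1 h3]
    exact s.2
  have hzF : ∀ i j, (z : Matrix ι ι F) i j ∈ F₀ := by
    intro i j
    have := F₀.mul_mem (F₀.inv_mem hdF) (hd i j)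
    rwa [← mul_assoc, inv_mul_cancel₀ hd0, one_mul] at this
  -- z fixes v
  have hzv : (z : Matrix ι ι F) *ᵥ v = v := by
    obtain ⟨w, hw⟩ := exists_dot_one hψ0
    have h1 : ∀ w : ι → F, (ψ ⬝ᵥ ((z : Matrix ι ι F) *ᵥ w)) • v =
        (ψ ⬝ᵥ w) • ((z : Matrix ι ι F) *ᵥ v) := by
      intro w
      have h2 := congrArg (fun g : GL ι F => (g : Matrix ι ι F) *ᵥ w) hxz'
      simp only [Units.val_mul, ← mulVec_mulVec] at h2
      rw [hxx, hxx, mulVec_add, mulVec_smul] at h2
      exact add_left_cancel h2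
    have h2 := h1 w
    rw [hw, one_smul] at h2
    set lam := ψ ⬝ᵥ ((z : Matrix ι ι F) *ᵥ w) with hlam
    have h3 : lam * lam = 1 := by
      have h4 : (lam * lam) • v = (1 : F) • v := by
        rw [one_smul, mul_smul, h2, ← mulVec_smul, h2, hzz]
      by_contra hne1
      have h5 : (lam * lam - 1) • v = 0 := by rw [sub_smul, h4, sub_self]
      rcases smul_eq_zero.1 h5 with h6 | h6
      · exact hne1 (sub_eq_zero.1 h6)
      · exact hv0 h6
    have h4 : lam = 1 := by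
      have h5 : (lam - 1) * (lam - 1) = 0 := by
        have : (2 : F) = 0 := CharTwo.two_eq_zero
        linear_combination h3 + (1 - lam) * this
      rcases mul_eq_zero.1 h5 with h | h <;> exact sub_eq_zero.1 h
    rw [← h2, h4, one_smul]
  -- contradiction
  obtain ⟨i, j, hij⟩ : ∃ i j, (z : Matrix ι ι F) i j ≠ (1 : Matrix ι ι F) i j := by
    by_contra hc
    push Not at hc
    apply hz1
    apply Units.ext
    ext i j
    exact hc i j
  set row : ι → F₀ := fun k => ⟨(z : Matrix ι ι F) i k, hzF i k⟩ - (Pi.single i 1 : ι → F₀) k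
    with hrow
  refine hv row ?_ ?_
  · intro h0
    have h1 := congrFun h0 j
    simp only [hrow, Pi.zero_apply, sub_eq_zero] at h1
    have h2 := congrArg (fun c : F₀ => (c : F)) h1
    simp only at h2
    apply hij
    rw [h2]
    by_cases hji : j = i
    · subst hji
      simp
    · rw [Pi.single_eq_of_ne hji, one_apply_ne (Ne.symm hji)]
      rfl
  · have h1 := congrFun hzv i
    have h2 : cv F₀ row = fun k => (z : Matrix ι ι F) i k - (Pi.single i 1 : ι → F) k := by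
      ext k
      simp only [hrow, cv]
      push_cast
      congr 1
      have := congrFun (cv_single (F₀ := F₀) i) k
      exact this
    rw [dotProduct_comm, h2]
    have h3 : (fun k => (z : Matrix ι ι F) i k - (Pi.single i 1 : ι → F) k) =
        (fun k => (z : Matrix ι ι F) i k) - (Pi.single i 1 : ι → F) := rfl
    rw [h3, sub_dotProduct, single_dotProduct, one_mul]
    change (z : Matrix ι ι F) i ⬝ᵥ v = v i at h1
    rw [sub_eq_zero]
    exact h1

end Cfsg.Agent.H873.Sub
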