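import Cfsg.Agent.H873.Tv
import Cfsg.Agent.HN.CloseFinal
import Cfsg.Agent.LieClassical.DicksonWeak

/-!
Overgroups of `SL_n(F₀)` in `SL_n(F)`: `F₀` a subfield of the finite field `F` of prime index.
-/

set_option autoImplicit false
set_option linter.unusedSectionVars false

namespace Cfsg.Agent.H873.Sub

open Matrix

variable {ι : Type} [Fintype ι] [DecidableEq ι] {F : Type*} [Field F] (F₀ : Subfield F)

/-- The vector over `F` of a vector over `F₀`. -/
def cv (a : ι → F₀) : ι → F := fun i => (a i : F)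

variable {F₀}

theorem cv_apply (a : ι → F₀) (i : ι) : cv F₀ a i = (a i : F) := rfl

theorem cv_injective : Function.Injective (cv F₀ : (ι → F₀) → (ι → F)) := by
  intro a b h
  ext i
  exact congrFun h i

theorem cv_zero : cv F₀ (0 : ι → F₀) = 0 := by ext i; simp [cv]

theorem cv_add (a b : ι → F₀) : cv F₀ (a + b) = cv F₀ a + cv F₀ b := by ext i; simp [cv]

theorem cv_sub (a b : ι → F₀) : cv F₀ (a - b) = cv F₀ a - cv F₀ b := by ext i; simp [cv]

theorem cv_smul (c : F₀) (a : ι → F₀) : cv F₀ (c • a) = (c : F) • cv F₀ a := by ext i; simp [cv]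

theorem cv_eq_zero {a : ι → F₀} : cv F₀ a = 0 ↔ a = 0 := by
  rw [← cv_zero (F₀ := F₀)]
  exact cv_injective.eq_iff

theorem cv_single (i : ι) : cv F₀ (Pi.single i 1) = Pi.single i 1 := by
  ext j
  by_cases h : j = i
  · subst h; simp [cv]
  · simp [cv, h]

theorem cv_dot (a b : ι → F₀) : cv F₀ a ⬝ᵥ cv F₀ b = ((a ⬝ᵥ b : F₀) : F) := by
  simp [cv, dotProduct]

theorem cv_dot_eq_zero {a b : ι → F₀} : cv F₀ a ⬝ᵥ cv F₀ b = 0 ↔ a ⬝ᵥ b = 0 := by
  rw [cv_dot]
  simp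

theorem exists_cv {v : ι → F} (h : ∀ i, v i ∈ F₀) : ∃ a : ι → F₀, v = cv F₀ a :=
  ⟨fun i => ⟨v i, h i⟩, rfl⟩

/-! ### Linear algebra -/

section

variable {K : Type*} [Field K]

theorem dot_ext {φ ψ : ι → K} (h : ∀ u, φ ⬝ᵥ u = ψ ⬝ᵥ u) : φ = ψ := by
  ext j
  have := h (Pi.single j 1)
  simpa using this

theorem exists_dot_ne {φ : ι → K} (h : φ ≠ 0) : ∃ u, φ ⬝ᵥ u ≠ 0 := by
  by_contra hc
  push Not at hc
  exact h (dot_ext fun u => by rw [hc u, zero_dotProduct])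

theorem exists_dot_one {φ : ι → K} (h : φ ≠ 0) : ∃ u, φ ⬝ᵥ u = 1 := by
  obtain ⟨u, hu⟩ := exists_dot_ne h
  exact ⟨(φ ⬝ᵥ u)⁻¹ • u, by rw [dotProduct_smul, smul_eq_mul, inv_mul_cancel₀ hu]⟩

theorem exists_ne_zero_dot_two (hn : 3 ≤ Fintype.card ι) (a b : ι → K) :
    ∃ φ : ι → K, φ ≠ 0 ∧ φ ⬝ᵥ a = 0 ∧ φ ⬝ᵥ b = 0 := by
  let L : (ι → K) →ₗ[K] (K × K) :=
    { toFun := fun φ => (φ ⬝ᵥ a, φ ⬝ᵥ b)
      map_add' := fun x y => by simp [add_dotProduct]
      map_smul' := fun c x => by simp [smul_dotProduct] }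
  have hker : LinearMap.ker L ≠ ⊥ := by
    apply LinearMap.ker_ne_bot_of_finrank_lt
    simp
    omega
  obtain ⟨φ, hφ, hφ0⟩ := (Submodule.ne_bot_iff _).1 hker
  have h2 : (φ ⬝ᵥ a, φ ⬝ᵥ b) = ((0 : K), (0 : K)) := hφ
  exact ⟨φ, hφ0, (Prod.ext_iff.1 h2).1, (Prod.ext_iff.1 h2).2⟩

theorem exists_ne_zero_dot_two' (hn : 3 ≤ Fintype.card ι) (a b : ι → K) :
    ∃ φ : ι → K, φ ≠ 0 ∧ a ⬝ᵥ φ = 0 ∧ b ⬝ᵥ φ = 0 := by
  obtain ⟨φ, h0, h1, h2⟩ := exists_ne_zero_dot_two hn a b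
  exact ⟨φ, h0, by rw [dotProduct_comm]; exact h1, by rw [dotProduct_comm]; exact h2⟩

/-- If two functionals are not proportional then the kernel of the second is not contained in the
kernel of the first. -/
theorem exists_ker {φ ψ : ι → K} (h : ∀ c : K, φ ≠ c • ψ) : ∃ a, ψ ⬝ᵥ a = 0 ∧ φ ⬝ᵥ a ≠ 0 := by
  by_contra hcon
  push Not at hcon
  by_cases hψ : ψ = 0
  · refine h 0 ?_
    rw [zero_smul]
    apply dot_ext
    intro u
    rw [zero_dotProduct]
    exact hcon u (by rw [hψ, zero_dotProduct])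
  · obtain ⟨w, hw⟩ := exists_dot_ne hψ
    refine h ((φ ⬝ᵥ w) / (ψ ⬝ᵥ w)) (dot_ext fun u => ?_)
    have h1 := hcon (u - ((ψ ⬝ᵥ u) / (ψ ⬝ᵥ w)) • w) (by
      rw [dotProduct_sub, dotProduct_smul, smul_eq_mul]
      field_simp
      ring)
    rw [dotProduct_sub, dotProduct_smul, smul_eq_mul, sub_eq_zero] at h1
    rw [h1, smul_dotProduct, smul_eq_mul]
    field_simp

theorem exists_ker_one {φ ψ : ι → K} (h : ∀ c : K, φ ≠ c • ψ) :
    ∃ a, ψ ⬝ᵥ a = 0 ∧ φ ⬝ᵥ a = 1 := by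
  obtain ⟨a, h1, h2⟩ := exists_ker h
  refine ⟨(φ ⬝ᵥ a)⁻¹ • a, ?_, ?_⟩
  · rw [dotProduct_smul, h1, smul_zero]
  · rw [dotProduct_smul, smul_eq_mul, inv_mul_cancel₀ h2]

end

/-! ### The parameter ring -/

variable {M : Subgroup (GL ι F)}

/-- `M` contains `SL(F₀)`. -/
def HasRat (F₀ : Subfield F) (M : Subgroup (GL ι F)) : Prop :=
  ∀ a α : ι → F₀, α ⬝ᵥ a = 0 → HasTv M (cv F₀ a) (cv F₀ α)

/-- Change the centre. -/
theorem move_left (hM : HasRat F₀ M) (hn : 3 ≤ Fintype.card ι) {a α : ι → F₀} (ha : a ≠ 0)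
    (hα : α ⬝ᵥ a = 0) {t : F} (ht : HasTv M (t • cv F₀ a) (cv F₀ α)) (b : ι → F₀)
    (hb : α ⬝ᵥ b = 0) : HasTv M (t • cv F₀ b) (cv F₀ α) := by
  have key : ∀ a b : ι → F₀, (∀ c : F₀, a ≠ c • b) → α ⬝ᵥ b = 0 →
      HasTv M (t • cv F₀ a) (cv F₀ α) → HasTv M (t • cv F₀ b) (cv F₀ α) := by
    intro a b hab hb ht
    obtain ⟨β, hβ1, hβ2⟩ := exists_ker_one hab
    rw [dotProduct_comm] at hβ1 hβ2
    have h1 := ht.comm (hM b β hβ1) (cv_dot_eq_zero.2 hb)
    rw [dotProduct_smul, cv_dot, hβ2] at h1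
    simpa using h1
  by_cases hb0 : b = 0
  · rw [hb0, cv_zero, smul_zero]
    exact hasTv_zero_left _ _
  by_cases hab : ∀ c : F₀, a ≠ c • b
  · exact key a b hab hb ht
  · push Not at hab
    obtain ⟨c, hc⟩ := hab
    -- an auxiliary vector
    obtain ⟨w, hw⟩ := exists_dot_one hb0
    obtain ⟨d, hd0, hd1, hd2⟩ := exists_ne_zero_dot_two' hn α w
    have hdb : ∀ c : F₀, d ≠ c • b := by
      intro c' hc'
      rw [hc', dotProduct_smul, dotProduct_comm, hw] at hd2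
      apply hd0
      rw [hc']
      have : c' = 0 := by simpa using hd2
      rw [this, zero_smul]
    have hbd : ∀ c' : F₀, b ≠ c' • d := by
      intro c' hc'
      have hc'0 : c' ≠ 0 := by
        rintro rfl
        rw [zero_smul] at hc'
        exact hb0 hc'
      apply hdb c'⁻¹
      rw [hc', smul_smul, inv_mul_cancel₀ hc'0, one_smul]
    have hc0 : c ≠ 0 := by
      rintro rfl
      rw [zero_smul] at hc
      exact ha hc
    have had : ∀ c' : F₀, a ≠ c' • d := by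
      intro c' hc'
      apply hbd (c⁻¹ * c')
      rw [← smul_smul, ← hc', hc, smul_smul, inv_mul_cancel₀ hc0, one_smul]
    exact key d b hdb hb (key a d had hd1 ht)

/-- Change the axis. -/
theorem move_right (hM : HasRat F₀ M) (hn : 3 ≤ Fintype.card ι) {a α : ι → F₀} (hα0 : α ≠ 0)
    (hα : α ⬝ᵥ a = 0) {t : F} (ht : HasTv M (t • cv F₀ a) (cv F₀ α)) (β : ι → F₀)
    (hβ : β ⬝ᵥ a = 0) : HasTv M (t • cv F₀ a) (cv F₀ β) := by
  have key : ∀ α β : ι → F₀, (∀ c : F₀, α ≠ c • β) → β ⬝ᵥ a = 0 →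
      HasTv M (t • cv F₀ a) (cv F₀ α) → HasTv M (t • cv F₀ a) (cv F₀ β) := by
    intro α β hab hb ht
    obtain ⟨b, hβ1, hβ2⟩ := exists_ker_one hab
    have h1 := ht.comm' (hM b β hβ1) (by rw [dotProduct_smul, cv_dot, hb]; simp)
    rw [cv_dot, hβ2] at h1
    simpa using h1
  by_cases hb0 : β = 0
  · rw [hb0, cv_zero]
    exact hasTv_zero_right _ _
  by_cases hab : ∀ c : F₀, α ≠ c • β
  · exact key α β hab hβ ht
  · push Not at hab
    obtain ⟨c, hc⟩ := hab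
    obtain ⟨w, hw⟩ := exists_dot_one hb0
    obtain ⟨d, hd0, hd1, hd2⟩ := exists_ne_zero_dot_two hn a w
    have hdb : ∀ c : F₀, d ≠ c • β := by
      intro c' hc'
      rw [hc', smul_dotProduct, hw] at hd2
      apply hd0
      rw [hc']
      have : c' = 0 := by simpa using hd2
      rw [this, zero_smul]
    have hbd : ∀ c' : F₀, β ≠ c' • d := by
      intro c' hc'
      have hc'0 : c' ≠ 0 := by
        rintro rfl
        rw [zero_smul] at hc'
        exact hb0 hc'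
      apply hdb c'⁻¹
      rw [hc', smul_smul, inv_mul_cancel₀ hc'0, one_smul]
    have hc0 : c ≠ 0 := by
      rintro rfl
      rw [zero_smul] at hc
      exact hα0 hc
    have had : ∀ c' : F₀, α ≠ c' • d := by
      intro c' hc'
      apply hbd (c⁻¹ * c')
      rw [← smul_smul, ← hc', hc, smul_smul, inv_mul_cancel₀ hc0, one_smul]
    exact key d β hdb hβ (key α d had hd1 ht)

theorem move (hM : HasRat F₀ M) (hn : 3 ≤ Fintype.card ι) {a α : ι → F₀} (ha : a ≠ 0)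
    (hα0 : α ≠ 0) (hα : α ⬝ᵥ a = 0) {t : F} (ht : HasTv M (t • cv F₀ a) (cv F₀ α))
    (b β : ι → F₀) (hb : β ⬝ᵥ b = 0) : HasTv M (t • cv F₀ b) (cv F₀ β) := by
  obtain ⟨d, hd0, hd1, hd2⟩ := exists_ne_zero_dot_two' hn α β
  exact move_left hM hn hd0 hd2
    (move_right hM hn hα0 hd1 (move_left hM hn ha hα ht d hd1) β hd2) b hb

/-- The ring of parameters. -/
def paramAlg (hM : HasRat F₀ M) (hn : 3 ≤ Fintype.card ι) : Subalgebra F₀ F where
  carrier := {t | ∀ a α : ι → F₀, α ⬝ᵥ a = 0 → HasTv M (t • cv F₀ a) (cv F₀ α)}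
  add_mem' {s t} hs ht := by
    intro a α h
    rw [add_smul]
    exact (hs a α h).add_left (ht a α h)
  mul_mem' {s t} hs ht := by
    intro a α h
    by_cases hα : α = 0
    · rw [hα, cv_zero]
      exact hasTv_zero_right _ _
    by_cases ha : a = 0
    · rw [ha, cv_zero, smul_zero]
      exact hasTv_zero_left _ _
    obtain ⟨w, hw⟩ := exists_dot_one hα
    obtain ⟨β, hβ0, hβ1, hβ2⟩ := exists_ne_zero_dot_two hn a w
    have hβα : ∀ c : F₀, β ≠ c • α := by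
      intro c hc
      rw [hc, smul_dotProduct, hw] at hβ2
      apply hβ0
      have : c = 0 := by simpa using hβ2
      rw [hc, this, zero_smul]
    obtain ⟨b, hb1, hb2⟩ := exists_ker_one hβα
    have h1 := (hs b α hb1).comm (ht a β hβ1) (by rw [dotProduct_smul, cv_dot, h]; simp)
    rw [dotProduct_smul, cv_dot, hb2, smul_smul] at h1
    simpa using h1
  algebraMap_mem' t := by
    intro a α h
    have := hM (t • a) α (by rw [dotProduct_smul, h, smul_zero])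
    rw [cv_smul] at this
    exact this

theorem mem_paramAlg (hM : HasRat F₀ M) (hn : 3 ≤ Fintype.card ι) {t : F} {a α : ι → F₀}
    (ha : a ≠ 0) (hα0 : α ≠ 0) (hα : α ⬝ᵥ a = 0) (ht : HasTv M (t • cv F₀ a) (cv F₀ α)) :
    t ∈ paramAlg hM hn := fun b β hb => move hM hn ha hα0 hα ht b β hb

/-- Either `M` contains `SL`, or all the parameters of rational transvections are rational. -/
theorem top_or_rat [Fintype F] (hM : HasRat F₀ M) (hn : 3 ≤ Fintype.card ι) {r : ℕ}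
    (hr : r.Prime) (hcard : Fintype.card F = Nat.card F₀ ^ r) :
    Cfsg.Geo.specialLinear ι F ≤ M ∨
      ∀ (a α : ι → F₀), a ≠ 0 → α ≠ 0 → α ⬝ᵥ a = 0 → ∀ t : F,
        HasTv M (t • cv F₀ a) (cv F₀ α) → t ∈ F₀ := by
  have hfin : Module.finrank F₀ F = r := by
    have h1 := Module.natCard_eq_pow_finrank (K := F₀) (V := F)
    rw [Nat.card_eq_fintype_card, hcard] at h1
    have h2 : 1 < Nat.card F₀ := Finite.one_lt_card
    exact (Nat.pow_right_injective h2 h1).symm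
  have hs : IsSimpleOrder (Subalgebra F₀ F) :=
    Subalgebra.isSimpleOrder_of_finrank_prime F₀ F (by rw [hfin]; exact hr)
  rcases hs.eq_bot_or_eq_top (paramAlg hM hn) with h | h
  · right
    intro a α ha hα0 hα t ht
    have h1 := mem_paramAlg hM hn ha hα0 hα ht
    rw [h, Algebra.mem_bot] at h1
    obtain ⟨s, hs⟩ := h1
    rw [← hs]
    exact s.2
  · left
    have : Nontrivial ι := Fintype.one_lt_card_iff_nontrivial.1 (by omega)
    refine specialLinear_le_of_hasTv fun i j hij c => ?_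
    have h1 : c ∈ paramAlg hM hn := by rw [h]; trivial
    have h2 := h1 (Pi.single i 1) (Pi.single j 1) (by simp [hij])
    rwa [cv_single, cv_single] at h2

end Cfsg.Agent.H873.Sub
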