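import Cfsg.Agent.H873.WrStd

/-!
The tensor wreath subgroup is maximal when the field has more than two elements.
-/

set_option autoImplicit false
set_option linter.unusedSectionVars false
set_option linter.unusedSimpArgs false

namespace Cfsg.Agent.H873.Wr

open Matrix Cfsg.Agent.H919 Cfsg.Geo
open scoped Pointwise

section Gen

variable {κ : Type} [Fintype κ] [DecidableEq κ] [Nonempty κ] {F : Type*} [Field F] {m : ℕ}

theorem cj_cj (g h : GL κ F) (ρ : Matrix (Fin m) (Fin m) F →ₐ[F] Matrix κ κ F) : cj g (cj h ρ) = cj (g * h) ρ := by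
  apply AlgHom.ext
  intro A
  rw [cj_apply, cj_apply, cj_apply, conjA_mul]

theorem cj_one (ρ : Matrix (Fin m) (Fin m) F →ₐ[F] Matrix κ κ F) : cj 1 ρ = ρ := by
  apply AlgHom.ext
  intro A
  rw [cj_apply, conjA_apply]
  simp

theorem RLe.trans {ρ ρ' ρ'' : Matrix (Fin m) (Fin m) F →ₐ[F] Matrix κ κ F} (h : RLe ρ ρ') (h' : RLe ρ' ρ'') :
    RLe ρ ρ'' := by
  intro A
  obtain ⟨B, hB⟩ := h A
  obtain ⟨C, hC⟩ := h' B
  exact ⟨C, hC.trans hB⟩

theorem RLe.of_cj {g : GL κ F} {ρ ρ' : Matrix (Fin m) (Fin m) F →ₐ[F] Matrix κ κ F} (h : RLe (cj g ρ) (cj g ρ')) :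
    RLe ρ ρ' := by
  intro A
  obtain ⟨B, hB⟩ := h A
  exact ⟨B, (conjA g).injective hB⟩

theorem RLe.cj {ρ ρ' : Matrix (Fin m) (Fin m) F →ₐ[F] Matrix κ κ F} (h : RLe ρ ρ') (g : GL κ F) :
    RLe (Wr.cj g ρ) (Wr.cj g ρ') := by
  intro A
  obtain ⟨B, hB⟩ := h A
  exact ⟨B, by rw [cj_apply, cj_apply, hB]⟩

theorem Comm.of_cj {g : GL κ F} {ρ ρ' : Matrix (Fin m) (Fin m) F →ₐ[F] Matrix κ κ F} (h : Comm (Wr.cj g ρ) (Wr.cj g ρ')) :
    Comm ρ ρ' := by
  intro A B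
  have h1 := h A B
  have h2 := h1.map (conjA g).symm
  rwa [cj_apply, cj_apply, AlgEquiv.symm_apply_apply, AlgEquiv.symm_apply_apply] at h2

theorem Comm.mono {ρ ρ' σ σ' : Matrix (Fin m) (Fin m) F →ₐ[F] Matrix κ κ F} (h : Comm σ σ') (h1 : RLe ρ σ)
    (h2 : RLe ρ' σ') : Comm ρ ρ' := by
  intro A B
  obtain ⟨A', hA⟩ := h1 A
  obtain ⟨B', hB⟩ := h2 B
  rw [← hA, ← hB]
  exact h A' B'

end Gen

variable {F : Type*} [Field F] {t m : ℕ}

theorem comm_slots {i j : Fin t} (h : i ≠ j) : Comm (slotEmb (F := F) (m := m) i) (slotEmb j) :=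
  fun A B => slotMat_commute h A B

theorem tv_mul_tv (a φ : Fin m → F) (c d : F) (h : φ ⬝ᵥ a = 0) :
    tv (c • a) φ (by rw [dotProduct_smul, h, smul_zero]) * tv (d • a) φ (by rw [dotProduct_smul, h, smul_zero]) =
      tv ((c + d) • a) φ (by rw [dotProduct_smul, h, smul_zero]) := by
  apply Units.ext
  rw [Units.val_mul, coe_tv, coe_tv, coe_tv, add_mul, mul_add, mul_add, vecMulVec_mul_vecMulVec, dotProduct_smul, h,
    smul_zero, zero_smul, vecMulVec_zero, add_smul, add_vecMulVec]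
  simp only [one_mul, mul_one, add_zero]
  abel

/-- the elementary abelian group of slot roots at `a`, `φ` -/
def rootP (t : ℕ) (a φ : Fin m → F) (h : φ ⬝ᵥ a = 0) : Multiplicative (Fin t → F) →* GL (Fin t → Fin m) F where
  toFun c := pureGL fun j => tv (c.toAdd j • a) φ (by rw [dotProduct_smul, h, smul_zero])
  map_one' := by
    rw [← pureGL_one]
    congr 1
    funext j
    apply Units.ext
    rw [coe_tv, toAdd_one, Pi.zero_apply, zero_smul, zero_vecMulVec, add_zero]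
    rfl
  map_mul' c d := by
    rw [pureGL_mul]
    congr 1
    funext j
    rw [tv_mul_tv _ _ _ _ h]
    rfl

theorem rootP_single (a φ : Fin m → F) (h : φ ⬝ᵥ a = 0) (i : Fin t) (c : F) :
    (rootP t a φ h (Multiplicative.ofAdd (Pi.single i c)) : Matrix (Fin t → Fin m) (Fin t → Fin m) F) =
      1 + c • rk (slotEmb i) a φ := by
  have h1 : (1 : Matrix (Fin t → Fin m) (Fin t → Fin m) F) + c • rk (slotEmb i) a φ =
      slotEmb i (1 + vecMulVec (c • a) φ) := by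
    rw [map_add, map_one, vmv_smul_left, map_smul]
    rfl
  rw [h1, slotEmb_apply, slotMat]
  change pureMat _ = _
  congr 1
  funext j
  by_cases hj : j = i
  · subst hj
    simp [coe_tv]
  · simp [coe_tv, Function.update_of_ne hj, Pi.single_eq_of_ne hj]

/-- elements of `p`-power order have determinant one -/
theorem mem_sl_of_pow {κ : Type} [Fintype κ] [DecidableEq κ] {p : ℕ} [Fact p.Prime] [CharP F p] {g : GL κ F} {k : ℕ}
    (h : g ^ p ^ k = 1) : g ∈ specialLinear κ F := by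
  rw [mem_specialLinear_iff]
  have h1 : (g : Matrix κ κ F).det ^ (p ^ k * 1) = 1 := by
    rw [mul_one, ← det_pow, ← Units.val_pow_eq_pow_val, h, Units.val_one, det_one]
  have : ExpChar F p := ExpChar.prime (Fact.out)
  rw [ExpChar.pow_prime_pow_mul_eq_one_iff p k 1, pow_one] at h1
  exact h1

theorem rootP_pow {p : ℕ} [CharP F p] (a φ : Fin m → F) (h : φ ⬝ᵥ a = 0) (c : Multiplicative (Fin t → F)) :
    rootP t a φ h c ^ p = 1 := by
  rw [← map_pow]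
  have : c ^ p = 1 := by
    apply Multiplicative.toAdd.injective
    rw [toAdd_pow, toAdd_one]
    funext j
    rw [Pi.smul_apply, Pi.zero_apply, nsmul_eq_mul, CharP.cast_eq_zero, zero_mul]
  rw [this, map_one]

theorem rootP_mem_HS {p : ℕ} [Fact p.Prime] [CharP F p] (a φ : Fin m → F) (h : φ ⬝ᵥ a = 0)
    (c : Multiplicative (Fin t → F)) : rootP t a φ h c ∈ HS m t F := by
  refine ⟨pureGL_mem _, ?_⟩
  apply mem_sl_of_pow (p := p) (k := 1)
  rw [pow_one]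
  exact rootP_pow a φ h c

theorem sylow_pow {G : Type*} [Group G] {p : ℕ} {M : Subgroup G} (Q : Sylow p M) {x : G} (hxM : x ∈ M)
    (hxQ : (⟨x, hxM⟩ : M) ∈ (Q : Subgroup M)) : ∃ k : ℕ, x ^ p ^ k = 1 := by
  obtain ⟨k, hk⟩ := Q.isPGroup' ⟨⟨x, hxM⟩, hxQ⟩
  refine ⟨k, ?_⟩
  have h1 : ((⟨x, hxM⟩ : M) ^ p ^ k) = 1 := congrArg Subtype.val hk
  have h2 := congrArg Subtype.val h1
  exact h2

theorem normalizer_step {G : Type*} [Group G] [Finite G] {p : ℕ} [Fact p.Prime] {M S : Subgroup G} (hSM : S ≤ M)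
    (Q : Sylow p M) (hQ : S.subgroupOf M ≤ Q) (hne : ¬ (Q : Subgroup M).map M.subtype ≤ S) :
    ∃ x ∈ (Q : Subgroup M).map M.subtype, x ∉ S ∧ ∀ y ∈ S, x * y * x⁻¹ ∈ S := by
  let S' : Subgroup Q := (S.subgroupOf M).subgroupOf Q
  have hS' : S' < ⊤ := by
    rw [lt_top_iff_ne_top]
    intro h
    apply hne
    rintro _ ⟨y, hy, rfl⟩
    have : (⟨y, hy⟩ : Q) ∈ S' := by rw [h]; trivial
    exact this
  have : Group.IsNilpotent Q := Q.isPGroup'.isNilpotent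
  obtain ⟨⟨⟨x, hxM⟩, hxQ⟩, hx1, hx2⟩ := SetLike.exists_of_lt (Group.normalizerCondition_of_isNilpotent _ hS')
  refine ⟨x, ⟨⟨x, hxM⟩, hxQ, rfl⟩, hx2, ?_⟩
  intro y hy
  have h1 : (⟨⟨y, hSM hy⟩, hQ (show (⟨y, hSM hy⟩ : M) ∈ S.subgroupOf M from hy)⟩ : Q) ∈ S' := hy
  exact (Subgroup.mem_normalizer_iff.1 hx1 _).1 h1

section Main

variable [Fintype F] {M : Subgroup (GL (Fin t → Fin m) F)}

/-- an element of `M` conjugating the slot roots into the wreath subgroup lies in the wreath subgroup -/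
theorem mem_std_of_roots (hm : 3 ≤ m) (ht : 2 ≤ t) (hF : ∃ c : F, c ≠ 0 ∧ c ≠ 1) (hHM : HS m t F ≤ M)
    (hM : ¬ specialLinear (Fin t → Fin m) F ≤ M) {a φ : Fin m → F} (ha : a ≠ 0) (hφ : φ ≠ 0)
    {x : GL (Fin t → Fin m) F} (hx : x ∈ M)
    (h : ∀ (i : Fin t) (c : F), InM (tensorWreathStandard m t F) (c • conjA x (rk (slotEmb i) a φ))) :
    x ∈ tensorWreathStandard m t F := by
  have hne : Nonempty (Fin t → Fin m) := ⟨fun _ => ⟨0, by omega⟩⟩
  apply mem_std_of_permutes hm (by omega)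
  intro i
  have hw : ∀ (j : Fin t) (b β : Fin m → F), b ≠ 0 → β ≠ 0 → (rk (slotEmb j) b β).rank = (rk (slotEmb i) a φ).rank :=
    slot_rank_eq (i := i) fun b β hb hβ => rank_rk_eq hb hβ ha hφ
  obtain ⟨j, hj⟩ := slot_of_root hm (by omega) hF hw (h i) (by rw [rank_conjA])
  refine ⟨j, ((ge_slot hHM hm hM i).cj hx).rle_of_mem (ge_slot hHM hm hM j) hm (w := (rk (slotEmb i) a φ).rank)
    (fun b β hb hβ => ?_) (hw j) ha hφ hj⟩
  rw [rk_cj, rank_conjA, hw i b β hb hβ]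

/-- the wreath subgroup contains a Sylow `p`-subgroup of `M` -/
theorem exists_sylow_le (hm : 3 ≤ m) (ht : 2 ≤ t) (hF : ∃ c : F, c ≠ 0 ∧ c ≠ 1) (hHM : HS m t F ≤ M)
    (hM : ¬ specialLinear (Fin t → Fin m) F ≤ M) {p : ℕ} [Fact p.Prime] [CharP F p] :
    ∃ Q : Sylow p M, (Q : Subgroup M).map M.subtype ≤ HS m t F := by
  classical
  have hne : Nonempty (Fin t → Fin m) := ⟨fun _ => ⟨0, by omega⟩⟩
  obtain ⟨a, ha⟩ := exists_ne_zero_vec (F := F) hm
  obtain ⟨φ, hφ, hφa, -⟩ := exists_two (a := a) (b := a) hm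
  let P0 : Subgroup (GL (Fin t → Fin m) F) := (rootP t a φ hφa).range
  have hP0H : P0 ≤ HS m t F := by
    rintro _ ⟨c, rfl⟩
    exact rootP_mem_HS (p := p) a φ hφa c
  have hP0p : IsPGroup p P0 := by
    rintro ⟨_, c, rfl⟩
    refine ⟨1, ?_⟩
    ext1
    rw [pow_one]
    exact rootP_pow a φ hφa c
  have : Finite (GL (Fin t → Fin m) F) := inferInstance
  obtain ⟨S, hS, hmax⟩ := Set.Finite.exists_maximal (s := {S : Subgroup (GL (Fin t → Fin m) F) |
    IsPGroup p S ∧ P0 ≤ S ∧ S ≤ HS m t F}) (Set.toFinite _) ⟨P0, hP0p, le_rfl, hP0H⟩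
  obtain ⟨hSp, hS0, hSH⟩ := hS
  have hSM : S ≤ M := hSH.trans hHM
  obtain ⟨Q, hQ⟩ := (show IsPGroup p (S.subgroupOf M) from hSp.comap_subtype).exists_le_sylow
  refine ⟨Q, ?_⟩
  -- the intersection with `HS` is `S`
  have hT : (Q : Subgroup M).map M.subtype ⊓ HS m t F ≤ S := by
    apply hmax ⟨(Q.isPGroup'.map _).to_inf_left, ?_, inf_le_right⟩
    · exact le_inf (fun x hx => ⟨⟨x, hSM hx⟩, hQ (show (⟨x, hSM hx⟩ : M) ∈ S.subgroupOf M from hx), rfl⟩) hSH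
    · refine le_inf (fun x hx => ⟨⟨x, hSM (hS0 hx)⟩, hQ (show (⟨x, hSM (hS0 hx)⟩ : M) ∈ S.subgroupOf M from hS0 hx), rfl⟩)
        hP0H
  by_contra hcon
  obtain ⟨x, ⟨⟨x', hxM⟩, hxQ, rfl⟩, hx2, hnorm⟩ := normalizer_step hSM Q hQ fun h => hcon (h.trans hSH)
  change x' ∉ S at hx2
  change ∀ y ∈ S, x' * y * x'⁻¹ ∈ S at hnorm
  apply hx2
  apply hT
  refine ⟨⟨⟨x', hxM⟩, hxQ, rfl⟩, ?_, ?_⟩
  · apply mem_std_of_roots hm ht hF hHM hM ha hφ hxM
    intro i c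
    have h1 : rootP t a φ hφa (Multiplicative.ofAdd (Pi.single i c)) ∈ S := hS0 ⟨_, rfl⟩
    refine ⟨_, (hSH (hnorm _ h1)).1, ?_⟩
    rw [Units.val_mul, Units.val_mul, rootP_single, mul_add, add_mul, mul_one, Units.mul_inv, mul_smul_comm,
      smul_mul_assoc, conjA_apply]
  · -- determinant
    obtain ⟨k, hk⟩ := sylow_pow Q hxM hxQ
    exact mem_sl_of_pow (p := p) (k := k) hk

/-- the set of conjugates of the slots -/
def slotConj (M : Subgroup (GL (Fin t → Fin m) F)) :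
    Set (Matrix (Fin m) (Fin m) F →ₐ[F] Matrix (Fin t → Fin m) (Fin t → Fin m) F) :=
  {ρ | ∃ g ∈ M, ∃ i : Fin t, ρ = cj g (slotEmb i)}

theorem frames (hm : 3 ≤ m) (ht : 2 ≤ t) (hF : ∃ c : F, c ≠ 0 ∧ c ≠ 1) (hHM : HS m t F ≤ M)
    (hM : ¬ specialLinear (Fin t → Fin m) F ≤ M) : ∃ w, Frames M w (slotConj M) := by
  classical
  have hne : Nonempty (Fin t → Fin m) := ⟨fun _ => ⟨0, by omega⟩⟩
  obtain ⟨p, hp⟩ := CharP.exists F
  have hpp : Fact p.Prime := ⟨CharP.char_is_prime F p⟩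
  obtain ⟨a, ha⟩ := exists_ne_zero_vec (F := F) hm
  obtain ⟨φ, hφ, hφa, -⟩ := exists_two (a := a) (b := a) hm
  let i0 : Fin t := ⟨0, by omega⟩
  set w := (rk (slotEmb i0) a φ).rank with hwdef
  have hw : ∀ (j : Fin t) (b β : Fin m → F), b ≠ 0 → β ≠ 0 → (rk (slotEmb j) b β).rank = w :=
    slot_rank_eq (i := i0) fun b β hb hβ => rank_rk_eq hb hβ ha hφ
  have hge : ∀ ρ ∈ slotConj M, GE M ρ := by
    rintro _ ⟨g, hg, i, rfl⟩
    exact (ge_slot hHM hm hM i).cj hg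
  have hrank : ∀ ρ ∈ slotConj M, ∀ a α, a ≠ 0 → α ≠ 0 → (rk ρ a α).rank = w := by
    rintro _ ⟨g, hg, i, rfl⟩ b β hb hβ
    rw [rk_cj, rank_conjA, hw i b β hb hβ]
  have hconj : ∀ ρ ∈ slotConj M, ∀ g ∈ M, cj g ρ ∈ slotConj M := by
    rintro _ ⟨g, hg, i, rfl⟩ h hh
    exact ⟨h * g, M.mul_mem hh hg, i, cj_cj _ _ _⟩
  have hslot : ∀ i : Fin t, slotEmb (F := F) (m := m) i ∈ slotConj M := fun i => ⟨1, M.one_mem, i, (cj_one _).symm⟩
  refine ⟨w, hge, hrank, hconj, ?_⟩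
  intro ρ hρ ρ' hρ' e ψ e' ψ' he hψ hψe he' hψ' hψe' hnil
  obtain ⟨k, hk⟩ := hnil
  obtain ⟨Q, hQ⟩ := exists_sylow_le hm ht hF hHM hM (p := p)
  have hNN := rk_sq (ρ := ρ) hψe
  have hYY := rk_sq (ρ := ρ') hψe'
  have hRGM : RG (rk ρ e ψ) (rk ρ' e' ψ') ≤ M := by
    apply RG_le
    · intro c
      rw [← rk_smul_left]
      exact (hge ρ hρ).root (by rw [dotProduct_smul, hψe, smul_zero])
    · intro c
      rw [← rk_smul_left]
      exact (hge ρ' hρ').root (by rw [dotProduct_smul, hψe', smul_zero])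
  have hRGp : IsPGroup p ((RG (rk ρ e ψ) (rk ρ' e' ψ')).subgroupOf M) := by
    rintro ⟨g, hg⟩
    refine ⟨3 * k, ?_⟩
    ext1
    ext1
    apply Units.ext
    have := pow_eq_one_of_nilp (p := p) hNN hYY hk hg
    simpa using this
  obtain ⟨Q', hQ'⟩ := hRGp.exists_le_sylow
  obtain ⟨x, hx⟩ := MulAction.exists_smul_eq M Q' Q
  have hconjmem : ∀ g ∈ RG (rk ρ e ψ) (rk ρ' e' ψ'), (x : GL (Fin t → Fin m) F) * g * (x : GL (Fin t → Fin m) F)⁻¹ ∈
      HS m t F := by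
    intro g hg
    have h1 : (⟨g, hRGM hg⟩ : M) ∈ (Q' : Subgroup M) := hQ' hg
    have h2 : x * (⟨g, hRGM hg⟩ : M) * x⁻¹ ∈ (x • Q' : Sylow p M) := by
      have : MulAut.conj x • (⟨g, hRGM hg⟩ : M) ∈ (MulAut.conj x • (Q' : Subgroup M)) :=
        Subgroup.smul_mem_pointwise_smul _ _ _ h1
      exact this
    rw [hx] at h2
    exact hQ ⟨_, h2, rfl⟩
  have hN : ∀ c : F, InM (tensorWreathStandard m t F) (c • conjA (x : GL (Fin t → Fin m) F) (rk ρ e ψ)) := by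
    intro c
    refine ⟨_, (hconjmem _ (un_mem_RG_left hNN c)).1, ?_⟩
    rw [Units.val_mul, Units.val_mul, coe_un, mul_add, add_mul, mul_one, Units.mul_inv, mul_smul_comm,
      smul_mul_assoc, conjA_apply]
  have hY : ∀ c : F, InM (tensorWreathStandard m t F) (c • conjA (x : GL (Fin t → Fin m) F) (rk ρ' e' ψ')) := by
    intro c
    refine ⟨_, (hconjmem _ (un_mem_RG_right hYY c)).1, ?_⟩
    rw [Units.val_mul, Units.val_mul, coe_un, mul_add, add_mul, mul_one, Units.mul_inv, mul_smul_comm,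
      smul_mul_assoc, conjA_apply]
  obtain ⟨j, hj⟩ := slot_of_root hm (by omega) hF hw hN (by rw [rank_conjA, hrank ρ hρ _ _ he hψ])
  obtain ⟨j', hj'⟩ := slot_of_root hm (by omega) hF hw hY (by rw [rank_conjA, hrank ρ' hρ' _ _ he' hψ'])
  have h1 : RLe (cj (x : GL (Fin t → Fin m) F) ρ) (slotEmb j) :=
    (hge _ (hconj ρ hρ x x.2)).rle_of_mem (hge _ (hslot j)) hm (hrank _ (hconj ρ hρ x x.2)) (hw j) he hψ hj
  have h2 : RLe (cj (x : GL (Fin t → Fin m) F) ρ') (slotEmb j') :=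
    (hge _ (hconj ρ' hρ' x x.2)).rle_of_mem (hge _ (hslot j')) hm (hrank _ (hconj ρ' hρ' x x.2)) (hw j') he' hψ' hj'
  by_cases hjj : j = j'
  · left
    subst hjj
    exact (h1.trans h2.symm).of_cj
  · right
    exact (Comm.mono (comm_slots hjj) h1 h2).of_cj

/-- **Proper overgroups are inside the wreath subgroup** (fields with more than two elements). -/
theorem le_std_of_big (hm : 3 ≤ m) (ht : 2 ≤ t) (hF : ∃ c : F, c ≠ 0 ∧ c ≠ 1) (hHM : HS m t F ≤ M)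
    (hM : ¬ specialLinear (Fin t → Fin m) F ≤ M) : M ≤ tensorWreathStandard m t F := by
  have hne : Nonempty (Fin t → Fin m) := ⟨fun _ => ⟨0, by omega⟩⟩
  obtain ⟨w, hG⟩ := frames hm ht hF hHM hM
  intro x hx
  apply mem_std_of_permutes hm (by omega)
  intro i
  by_contra hcon
  push Not at hcon
  have h1 : cj x (slotEmb (F := F) (m := m) i) ∈ slotConj M := ⟨x, hx, i, rfl⟩
  have hslot : ∀ i : Fin t, slotEmb (F := F) (m := m) i ∈ slotConj M := fun i => ⟨1, M.one_mem, i, (cj_one _).symm⟩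
  have h2 : ∀ j, Comm (cj x (slotEmb (F := F) (m := m) i)) (slotEmb j) := fun j =>
    (pair_good hG hm hF _ h1 _ (hslot j)).resolve_left (hcon j)
  obtain ⟨a, ha⟩ := exists_ne_zero_vec (F := F) hm
  obtain ⟨φ, hφ, hφa, -⟩ := exists_two (a := a) (b := a) hm
  obtain ⟨c, hc⟩ := scalar_of_commute_slots (M := rk (cj x (slotEmb (F := F) (m := m) i)) a φ)
    (fun j y => (h2 j _ y).eq)
  have h3 := rk_sq (ρ := cj x (slotEmb (F := F) (m := m) i)) hφa
  rw [hc, smul_mul_smul_comm, mul_one] at h3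
  have h4 : c = 0 := by
    have := congrFun (congrFun h3 hne.some) hne.some
    simpa using this
  rw [h4, zero_smul] at hc
  exact rk_ne_zero _ ha hφ hc

end Main

end Cfsg.Agent.H873.Wr
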