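import Cfsg.Agent.H873.WrCalc
import Cfsg.Agent.H919.AschTensor

/-!
`GE M ρ`: `M` contains the image of `SL_m` and every `r` in the centraliser of the image of `ρ` with
`1 + ρ(a αᵀ) r ∈ M` (`α a = 0`) is a scalar. Consequences: `1 + Z ∈ M` with image in `a ⊗ W` is in the image of `ρ`, etc.
-/

set_option autoImplicit false
set_option linter.unusedSectionVars false

namespace Cfsg.Agent.H873.Wr

open Matrix

variable {κ : Type} [Fintype κ] [DecidableEq κ] [Nonempty κ] {F : Type*} [Field F] {m : ℕ}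

/-- A good embedding of `M_m(F)`. -/
structure GE (M : Subgroup (GL κ F)) (ρ : Matrix (Fin m) (Fin m) F →ₐ[F] Matrix κ κ F) : Prop where
  sl : ∀ A : Matrix (Fin m) (Fin m) F, A.det = 1 → ∃ g ∈ M, (g : Matrix κ κ F) = ρ A
  nt : ∀ (a α : Fin m → F) (r : Matrix κ κ F), a ≠ 0 → α ≠ 0 → α ⬝ᵥ a = 0 → Cen ρ r →
    InM M (rk ρ a α * r) → ∃ c : F, r = c • (1 : Matrix κ κ F)

section

variable {M : Subgroup (GL κ F)} {ρ ρ' : Matrix (Fin m) (Fin m) F →ₐ[F] Matrix κ κ F}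

theorem GE.root (h : GE M ρ) {a α : Fin m → F} (h0 : α ⬝ᵥ a = 0) : InM M (rk ρ a α) := by
  obtain ⟨g, hg, he⟩ := h.sl (1 + vecMulVec a α) (det_tv a α h0)
  refine ⟨g, hg, ?_⟩
  rw [he, map_add, map_one]
  rfl

theorem rk_sq {a α : Fin m → F} (h0 : α ⬝ᵥ a = 0) : rk ρ a α * rk ρ a α = 0 := by
  rw [rk_mul_rk, h0, zero_smul]

/-- coefficient extraction -/
theorem GE.co_scalar (h : GE M ρ) {a β α b : Fin m → F} {Y : Matrix κ κ F} (ha : a ≠ 0) (hβ : β ≠ 0)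
    (hβa : β ⬝ᵥ a = 0) (hY : InM M (rk ρ a α * Y * rk ρ b β)) : ∃ c : F, co ρ α b Y = c • (1 : Matrix κ κ F) := by
  rw [← rk_mul_co] at hY
  exact h.nt a β _ ha hβ hβa (cen_co ρ _ _ _) hY

/-- `Z = rk a α * Z` if `Z` has image in `a ⊗ W`. -/
theorem image_eq {a α : Fin m → F} (hα : α ⬝ᵥ a = 1) {Z : Matrix κ κ F}
    (h2 : ∀ g γ, γ ⬝ᵥ a = 0 → rk ρ g γ * Z = 0) : rk ρ a α * Z = Z := by
  have h3 : ∀ g γ, rk ρ g γ * Z = (γ ⬝ᵥ a) • (rk ρ g α * Z) := by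
    intro g γ
    have := h2 g (γ - (γ ⬝ᵥ a) • α) (by rw [sub_dotProduct, smul_dotProduct, hα, smul_eq_mul, mul_one, sub_self])
    rw [rk_sub_right, rk_smul_right, sub_mul, smul_mul_assoc, sub_eq_zero] at this
    exact this
  conv_rhs => rw [← one_mul Z, ← sum_rk_one ρ, Finset.sum_mul]
  simp only [h3 (Pi.single _ 1) (Pi.single _ 1), single_dotProduct, one_mul]
  rw [← rk_sum_left ρ a α, Finset.sum_mul]
  exact Finset.sum_congr rfl fun i _ => smul_mul_assoc _ _ _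

theorem coimage_eq {a α : Fin m → F} (hα : α ⬝ᵥ a = 1) {Z : Matrix κ κ F}
    (h2 : ∀ b γ, α ⬝ᵥ b = 0 → Z * rk ρ b γ = 0) : Z * rk ρ a α = Z := by
  have h3 : ∀ b γ, Z * rk ρ b γ = (α ⬝ᵥ b) • (Z * rk ρ a γ) := by
    intro b γ
    have := h2 (b - (α ⬝ᵥ b) • a) γ (by rw [dotProduct_sub, dotProduct_smul, hα, smul_eq_mul, mul_one, sub_self])
    rw [rk_sub_left, rk_smul_left, mul_sub, mul_smul_comm, sub_eq_zero] at this
    exact this
  conv_rhs => rw [← mul_one Z, ← sum_rk_one ρ, Finset.mul_sum]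
  simp only [h3 (Pi.single _ 1) (Pi.single _ 1), dotProduct_single, mul_one]
  rw [← rk_sum_right ρ a α, Finset.mul_sum]
  exact Finset.sum_congr rfl fun i _ => mul_smul_comm _ _ _

/-- `1 + Z ∈ M` with image in `a ⊗ W`, trivial on `a ⊗ W`, is a root element of the image of `ρ`. -/
theorem GE.col (h : GE M ρ) (hm : 3 ≤ m) {a : Fin m → F} (ha : a ≠ 0) {Z : Matrix κ κ F} (hZ : InM M Z)
    (h1 : ∀ γ, Z * rk ρ a γ = 0) (h2 : ∀ g γ, γ ⬝ᵥ a = 0 → rk ρ g γ * Z = 0) :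
    ∃ ψ, ψ ⬝ᵥ a = 0 ∧ Z = rk ρ a ψ := by
  obtain ⟨α, hα⟩ := exists_dot_one' ha
  have hZa := image_eq (ρ := ρ) hα h2
  have hco : ∀ b, ∃ c : F, co ρ α b Z = c • (1 : Matrix κ κ F) := by
    intro b
    obtain ⟨β, hβ0, hβa, hβb⟩ := exists_two (a := a) (b := b) hm
    apply h.co_scalar ha hβ0 hβa
    rw [hZa]
    exact (h.root hβb).comm_l hZ (rk_sq hβb) (h2 _ _ hβa)
  choose c hc using hco
  have h3 : Z = rk ρ a (fun j => c (Pi.single j 1)) := by
    have h4 : ∀ j : Fin m, Z * rk ρ (Pi.single j 1) (Pi.single j 1) = c (Pi.single j 1) • rk ρ a (Pi.single j 1) := by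
      intro j
      conv_lhs => rw [← hZa]
      rw [← rk_mul_co, hc, mul_smul_comm, mul_one]
    conv_lhs => rw [← mul_one Z, ← sum_rk_one ρ, Finset.mul_sum]
    rw [← rk_sum_right]
    exact Finset.sum_congr rfl fun j _ => h4 j
  refine ⟨_, ?_, h3⟩
  have h4 := h1 α
  rw [h3, rk_mul_rk] at h4
  rcases smul_eq_zero.1 h4 with h5 | h5
  · exact h5
  · exact absurd h5 (rk_ne_zero ρ ha (by rintro rfl; rw [zero_dotProduct] at hα; exact zero_ne_one hα))

/-- Dual form. -/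
theorem GE.row (h : GE M ρ) (hm : 3 ≤ m) {α : Fin m → F} (hα0 : α ≠ 0) {Z : Matrix κ κ F} (hZ : InM M Z)
    (h1 : ∀ g, rk ρ g α * Z = 0) (h2 : ∀ b γ, α ⬝ᵥ b = 0 → Z * rk ρ b γ = 0) :
    ∃ f, α ⬝ᵥ f = 0 ∧ Z = rk ρ f α := by
  obtain ⟨a, hα⟩ := exists_dot_one hα0
  have hZa := coimage_eq (ρ := ρ) hα h2
  have hco : ∀ β, ∃ c : F, co ρ β a Z = c • (1 : Matrix κ κ F) := by
    intro β
    obtain ⟨b, hb0, hbα, hbβ⟩ := exists_two' (α := α) (β := β) hm
    apply h.co_scalar hb0 hα0 hbα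
    rw [mul_assoc, hZa]
    exact (h.root hbβ).comm_r hZ (rk_sq hbβ) (h2 _ _ hbα)
  choose c hc using hco
  have h3 : Z = rk ρ (fun j => c (Pi.single j 1)) α := by
    have h4 : ∀ j : Fin m, rk ρ (Pi.single j 1) (Pi.single j 1) * Z = c (Pi.single j 1) • rk ρ (Pi.single j 1) α := by
      intro j
      conv_lhs => rw [← hZa]
      rw [← mul_assoc, ← rk_mul_co, hc, mul_smul_comm, mul_one]
    conv_lhs => rw [← one_mul Z, ← sum_rk_one ρ, Finset.sum_mul]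
    rw [← rk_sum_left]
    exact Finset.sum_congr rfl fun j _ => h4 j
  refine ⟨_, ?_, h3⟩
  have h4 := h1 a
  rw [h3, rk_mul_rk] at h4
  rcases smul_eq_zero.1 h4 with h5 | h5
  · exact h5
  · exact absurd h5 (rk_ne_zero ρ (by rintro rfl; rw [dotProduct_zero] at hα; exact zero_ne_one hα) hα0)

/-- Transfer along a common root, column form. -/
theorem GE.transfer_col (h : GE M ρ) (h' : GE M ρ') (hm : 3 ≤ m) {e φ e' φ' : Fin m → F}
    (hφ : φ ≠ 0) (he' : e' ≠ 0) (hφ' : φ' ≠ 0) (hN : rk ρ e φ = rk ρ' e' φ')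
    {ψ : Fin m → F} (hψ : ψ ⬝ᵥ e = 0) : ∃ ψ', ψ' ⬝ᵥ e' = 0 ∧ rk ρ e ψ = rk ρ' e' ψ' := by
  obtain ⟨f, hf⟩ := exists_dot_one hφ
  obtain ⟨f', hf'⟩ := exists_dot_one hφ'
  apply h'.col hm he' (h.root hψ)
  · intro γ
    have h1 : rk ρ' e' γ = rk ρ e φ * rk ρ' f' γ := by
      rw [hN, rk_mul_rk, hf', one_smul]
    rw [h1, ← mul_assoc, rk_mul_rk, hψ, zero_smul, zero_mul]
  · intro g γ hγ
    have h1 : rk ρ e ψ = rk ρ' e' φ' * rk ρ f ψ := by
      rw [← hN, rk_mul_rk, hf, one_smul]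
    rw [h1, ← mul_assoc, rk_mul_rk, hγ, zero_smul, zero_mul]

theorem GE.transfer_row (h : GE M ρ) (h' : GE M ρ') (hm : 3 ≤ m) {e φ e' φ' : Fin m → F} (he : e ≠ 0)
    (he' : e' ≠ 0) (hφ' : φ' ≠ 0) (hN : rk ρ e φ = rk ρ' e' φ')
    {f : Fin m → F} (hf : φ ⬝ᵥ f = 0) : ∃ f', φ' ⬝ᵥ f' = 0 ∧ rk ρ f φ = rk ρ' f' φ' := by
  obtain ⟨ε, hε⟩ := exists_dot_one' he
  obtain ⟨ε', hε'⟩ := exists_dot_one' he'
  apply h'.row hm hφ' (h.root hf)
  · intro g
    have h1 : rk ρ' g φ' = rk ρ' g ε' * rk ρ e φ := by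
      rw [hN, rk_mul_rk, hε', one_smul]
    rw [h1, mul_assoc, rk_mul_rk, hf, zero_smul, mul_zero]
  · intro b γ hγ
    have h1 : rk ρ f φ = rk ρ f ε * rk ρ' e' φ' := by
      rw [← hN, rk_mul_rk, hε, one_smul]
    rw [h1, mul_assoc, rk_mul_rk, hγ, zero_smul, mul_zero]

/-- The image of `ρ` is contained in the image of `ρ'`. -/
def RLe (ρ ρ' : Matrix (Fin m) (Fin m) F →ₐ[F] Matrix κ κ F) : Prop := ∀ A, ∃ B, ρ' B = ρ A

theorem rk_root_imp {B : Subalgebra F (Matrix κ κ F)} (hm : 3 ≤ m)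
    (h : ∀ f χ : Fin m → F, χ ⬝ᵥ f = 0 → rk ρ f χ ∈ B) (A) : ρ A ∈ B := by
  have h1 : ∀ a α, rk ρ a α ∈ B := by
    intro a α
    obtain ⟨b, β, h1, h2, h3⟩ := exists_bridge a α hm
    have : rk ρ a α = rk ρ a β * rk ρ b α := by rw [rk_mul_rk, h3, one_smul]
    rw [this]
    exact B.mul_mem (h _ _ h2) (h _ _ h1)
  rw [map_eq_sum]
  exact B.sum_mem fun i _ => B.sum_mem fun j _ => B.smul_mem (h1 _ _) _

/-- A common root element forces the images to agree. -/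
theorem GE.range_le (h : GE M ρ) (h' : GE M ρ') (hm : 3 ≤ m) {e φ e' φ' : Fin m → F} (he : e ≠ 0)
    (hφ : φ ≠ 0) (he' : e' ≠ 0) (hφ' : φ' ≠ 0) (hN : rk ρ e φ = rk ρ' e' φ') : RLe ρ ρ' := by
  apply rk_root_imp (B := ρ'.range) hm
  intro f χ hχ
  by_cases hf0 : f = 0
  · subst hf0; rw [rk_zero_left]; exact Subalgebra.zero_mem _
  by_cases hχ0 : χ = 0
  · subst hχ0; rw [rk_zero_right]; exact Subalgebra.zero_mem _
  obtain ⟨ψ, hψ0, hψe, hψf⟩ := exists_two (a := e) (b := f) hm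
  obtain ⟨ψ', -, hN1⟩ := h.transfer_col h' hm hφ he' hφ' hN hψe
  have hψ'0 : ψ' ≠ 0 := by
    rintro rfl
    rw [rk_zero_right] at hN1
    exact rk_ne_zero ρ he hψ0 hN1
  obtain ⟨f', -, hN2⟩ := h.transfer_row h' hm he he' hψ'0 hN1 hψf
  have hf'0 : f' ≠ 0 := by
    rintro rfl
    rw [rk_zero_left] at hN2
    exact rk_ne_zero ρ hf0 hψ0 hN2
  obtain ⟨χ', -, hN3⟩ := h.transfer_col h' hm hψ0 hf'0 hψ'0 hN2 hχ
  exact ⟨vecMulVec f' χ', hN3.symm⟩

end

section Conj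

/-- conjugation as an algebra automorphism -/
def conjA (g : GL κ F) : Matrix κ κ F ≃ₐ[F] Matrix κ κ F where
  toFun X := (g : Matrix κ κ F) * X * ((g⁻¹ : GL κ F) : Matrix κ κ F)
  invFun X := ((g⁻¹ : GL κ F) : Matrix κ κ F) * X * (g : Matrix κ κ F)
  left_inv X := by
    simp [mul_assoc]
  right_inv X := by
    simp [mul_assoc]
  map_mul' X Y := by
    simp [mul_assoc]
  map_add' X Y := by rw [mul_add, add_mul]
  commutes' c := by
    rw [← Algebra.commutes, mul_assoc, Units.mul_inv, mul_one]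

theorem conjA_apply (g : GL κ F) (X : Matrix κ κ F) :
    conjA g X = (g : Matrix κ κ F) * X * ((g⁻¹ : GL κ F) : Matrix κ κ F) := rfl

theorem conjA_mul (g h : GL κ F) (X : Matrix κ κ F) : conjA (g * h) X = conjA g (conjA h X) := by
  simp only [conjA_apply, _root_.mul_inv_rev, Units.val_mul, mul_assoc]

theorem conjA_inv (g : GL κ F) (X : Matrix κ κ F) : conjA g⁻¹ (conjA g X) = X := by
  rw [← conjA_mul, inv_mul_cancel]
  simp [conjA_apply]

theorem conjA_inv' (g : GL κ F) (X : Matrix κ κ F) : conjA g (conjA g⁻¹ X) = X := by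
  rw [← conjA_mul, mul_inv_cancel]
  simp [conjA_apply]

theorem conjA_eq_self {g : GL κ F} {X : Matrix κ κ F} (h : Commute (g : Matrix κ κ F) X) : conjA g X = X := by
  rw [conjA_apply, h.eq, mul_assoc, Units.mul_inv, mul_one]

theorem commute_of_conjA {g : GL κ F} {X : Matrix κ κ F} (h : conjA g X = X) : Commute (g : Matrix κ κ F) X := by
  have : (g : Matrix κ κ F) * X * ((g⁻¹ : GL κ F) : Matrix κ κ F) * (g : Matrix κ κ F) = X * (g : Matrix κ κ F) := by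
    rw [← conjA_apply, h]
  rwa [mul_assoc, Units.inv_mul, mul_one] at this

/-- the conjugate embedding -/
def cj (g : GL κ F) (ρ : Matrix (Fin m) (Fin m) F →ₐ[F] Matrix κ κ F) :
    Matrix (Fin m) (Fin m) F →ₐ[F] Matrix κ κ F := (conjA g).toAlgHom.comp ρ

theorem cj_apply (g : GL κ F) (ρ : Matrix (Fin m) (Fin m) F →ₐ[F] Matrix κ κ F) (A) :
    cj g ρ A = conjA g (ρ A) := rfl

theorem rk_cj (g : GL κ F) (ρ : Matrix (Fin m) (Fin m) F →ₐ[F] Matrix κ κ F) (a α : Fin m → F) :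
    rk (cj g ρ) a α = conjA g (rk ρ a α) := rfl

variable {M : Subgroup (GL κ F)} {ρ ρ' : Matrix (Fin m) (Fin m) F →ₐ[F] Matrix κ κ F}

theorem InM.conjA {X : Matrix κ κ F} (h : InM M X) {g : GL κ F} (hg : g ∈ M) : InM M (conjA g X) := h.conj hg

theorem GE.cj (h : GE M ρ) {g : GL κ F} (hg : g ∈ M) : GE M (cj g ρ) where
  sl A hA := by
    obtain ⟨x, hx, he⟩ := h.sl A hA
    refine ⟨g * x * g⁻¹, M.mul_mem (M.mul_mem hg hx) (M.inv_mem hg), ?_⟩
    rw [cj_apply, conjA_apply, ← he, Units.val_mul, Units.val_mul]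
  nt a α r ha hα hαa hr hM := by
    have h1 : Cen ρ (Wr.conjA g⁻¹ r) := by
      intro A
      have h2 := (hr A).map (Wr.conjA g⁻¹)
      rwa [cj_apply, conjA_inv] at h2
    have h2 := hM.conjA (M.inv_mem hg)
    rw [map_mul, rk_cj, conjA_inv] at h2
    obtain ⟨c, hc⟩ := h.nt a α _ ha hα hαa h1 h2
    refine ⟨c, ?_⟩
    rw [← conjA_inv' g r, hc, map_smul, map_one]

/-- If `g` normalises the image of `ρ` then `g = ρ(a) r` with `r` in the centraliser (Skolem-Noether). -/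
theorem exists_factor (hm : 0 < m) {g : GL κ F} (h : RLe (Wr.cj g ρ) ρ) :
    ∃ (a : GL (Fin m) F) (r : GL κ F), Cen ρ (r : Matrix κ κ F) ∧
      (g : Matrix κ κ F) = ρ (a : Matrix (Fin m) (Fin m) F) * (r : Matrix κ κ F) := by
  choose θ hθ using h
  have hinj : Function.Injective ρ := ρ_injective ρ
  let A0 : Matrix (Fin m) (Fin m) F →ₗ[F] Matrix (Fin m) (Fin m) F :=
      { toFun := θ
        map_add' := fun x y => by
          apply hinj
          rw [map_add, hθ, hθ, hθ, map_add]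
        map_smul' := fun c x => by
          apply hinj
          rw [map_smul, hθ, hθ, map_smul]
          rfl }
  let A : Matrix (Fin m) (Fin m) F →ₐ[F] Matrix (Fin m) (Fin m) F :=
    AlgHom.ofLinearMap A0
      (by
        apply hinj
        change ρ (θ 1) = _
        rw [hθ, map_one, map_one])
      (by
        intro x y
        apply hinj
        change ρ (θ (x * y)) = ρ (θ x * θ y)
        rw [map_mul, hθ, hθ, hθ, map_mul])
  have hA : ∀ x, ρ (A x) = Wr.cj g ρ x := fun x => hθ x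
  have hAinj : Function.Injective A := by
    have : Nonempty (Fin m) := ⟨⟨0, hm⟩⟩
    exact A.toRingHom.injective
  have hAbij : Function.Bijective A := ⟨hAinj, LinearMap.surjective_of_injective (f := A.toLinearMap) hAinj⟩
  obtain ⟨a, ha⟩ := Cfsg.Agent.H919.exists_conj_of_algEquiv (AlgEquiv.ofBijective A hAbij)
  -- ρ as a hom on units
  let ra : GL κ F := Units.map ρ.toMonoidHom a
  have hra : (ra : Matrix κ κ F) = ρ (a : Matrix (Fin m) (Fin m) F) := rfl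
  have hra' : ((ra⁻¹ : GL κ F) : Matrix κ κ F) = ρ ((a⁻¹ : GL (Fin m) F) : Matrix (Fin m) (Fin m) F) := rfl
  refine ⟨a, ra⁻¹ * g, ?_, ?_⟩
  · intro x
    have h1 : Wr.conjA (ra⁻¹ * g) (ρ x) = ρ x := by
      rw [conjA_mul]
      have h2 : Wr.conjA g (ρ x) = ρ (A x) := (hA x).symm
      have h3 : A x = (a : Matrix (Fin m) (Fin m) F) * x * ((a⁻¹ : GL (Fin m) F) : Matrix (Fin m) (Fin m) F) := ha x
      have h4 : ρ (A x) = Wr.conjA ra (ρ x) := by
        rw [h3, map_mul, map_mul, conjA_apply, hra, hra']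
      rw [h2, h4, conjA_inv]
    exact (commute_of_conjA h1).symm
  · rw [← hra, ← Units.val_mul, mul_inv_cancel_left]

end Conj

end Cfsg.Agent.H873.Wr
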