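import Cfsg.Agent.H873.WrGE

/-!
Isolation lemmas and rank lemmas for `GE M ρ`.
-/

set_option autoImplicit false
set_option linter.unusedSectionVars false

namespace Cfsg.Agent.H873.Wr

open Matrix

variable {κ : Type} [Fintype κ] [DecidableEq κ] [Nonempty κ] {F : Type*} [Field F] {m : ℕ}

section

variable {M : Subgroup (GL κ F)} {ρ ρ' : Matrix (Fin m) (Fin m) F →ₐ[F] Matrix κ κ F}

/-- `1 + Y ∈ M` trivial on `f ⊗ W` and on the quotient by `ker ε ⊗ W` lies in the image of `ρ`. -/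
theorem GE.block (h : GE M ρ) (hm : 3 ≤ m) {f ε : Fin m → F} (hεf : ε ⬝ᵥ f = 1) {Y : Matrix κ κ F}
    (hY : InM M Y) (h1 : ∀ γ, Y * rk ρ f γ = 0) (h2 : ∀ g, rk ρ g ε * Y = 0) : ∃ A, ρ A = Y := by
  have hε0 : ε ≠ 0 := by rintro rfl; rw [zero_dotProduct] at hεf; exact zero_ne_one hεf
  apply mem_range_of_co
  have hco0 : ∀ α, co ρ α f Y = 0 := by
    intro α
    simp only [co, mul_assoc, h1, mul_zero, Finset.sum_const_zero]
  have key : ∀ α b, ε ⬝ᵥ b = 0 → ∃ c : F, co ρ α b Y = c • (1 : Matrix κ κ F) := by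
    intro α b hb
    have hZ : InM M (Y * rk ρ b ε) := (h.root hb).comm_l hY (rk_sq hb) (h2 b)
    obtain ⟨g, hg0, hαg, hεg⟩ := exists_two' (α := α) (β := ε) hm
    have hX := (h.root hαg).comm_r hZ (rk_sq hαg) (by
      rw [mul_assoc, rk_mul_rk, hεg, zero_smul, mul_zero])
    rw [← mul_assoc] at hX
    exact h.co_scalar hg0 hε0 hεg hX
  intro α b
  obtain ⟨c, hc⟩ := key α (b - (ε ⬝ᵥ b) • f) (by
    rw [dotProduct_sub, dotProduct_smul, hεf, smul_eq_mul, mul_one, sub_self])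
  refine ⟨c, ?_⟩
  have h3 : co ρ α b Y = co ρ α (b - (ε ⬝ᵥ b) • f) Y + (ε ⬝ᵥ b) • co ρ α f Y := by
    rw [← co_smul_right, ← co_add_right, sub_add_cancel]
  rw [h3, hco0, smul_zero, add_zero, hc]

theorem co_map (A B : Matrix (Fin m) (Fin m) F) (α b : Fin m → F) (Y : Matrix κ κ F) :
    co ρ α b (ρ A * Y * ρ B) = co ρ (α ᵥ* A) (B *ᵥ b) Y := by
  simp only [co]
  refine Finset.sum_congr rfl fun j _ => ?_
  rw [← rk_mul_map, ← map_mul_rk]
  simp only [mul_assoc]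

/-- `1 + Y ∈ M` with `Y ∈ ρ(A) R ρ(B)`, `B A = 0`, lies in the image of `ρ`. -/
theorem GE.pz (h : GE M ρ) (hm : 3 ≤ m) {A B : Matrix (Fin m) (Fin m) F} (hBA : B * A = 0)
    {Y Y₀ : Matrix κ κ F} (hY : InM M Y) (hYe : Y = ρ A * Y₀ * ρ B) : ∃ C, ρ C = Y := by
  apply mem_range_of_co
  intro α b
  have hYb : ∀ a γ, B *ᵥ a = 0 → Y * rk ρ a γ = 0 := by
    intro a γ ha
    rw [hYe, mul_assoc, map_mul_rk, ha, rk_zero_left, mul_zero]
  have hYa : ∀ g β, β ᵥ* A = 0 → rk ρ g β * Y = 0 := by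
    intro g β hβ
    rw [hYe, ← mul_assoc, ← mul_assoc, rk_mul_map, hβ, rk_zero_right, zero_mul, zero_mul]
  by_cases hc : ∃ a : Fin m → F, a ≠ 0 ∧ B *ᵥ a = 0 ∧ α ⬝ᵥ a = 0
  · obtain ⟨a, ha0, hBa, hαa⟩ := hc
    obtain ⟨β, hβ0, hβa, hβb⟩ := exists_two (a := a) (b := b) hm
    have h1 : InM M (rk ρ a α * Y) := (h.root hαa).comm_r hY (rk_sq hαa) (hYb _ _ hBa)
    have h2 : InM M (rk ρ a α * Y * rk ρ b β) := (h.root hβb).comm_l h1 (rk_sq hβb) (by
      rw [← mul_assoc, rk_mul_rk, hβa, zero_smul, zero_mul])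
    exact h.co_scalar ha0 hβ0 hβa h2
  · push Not at hc
    by_cases hA : A = 0
    · refine ⟨0, ?_⟩
      rw [hYe, hA, map_zero, zero_mul, zero_mul, zero_smul]
      simp [co]
    · obtain ⟨u, hu⟩ : ∃ u, A *ᵥ u ≠ 0 := by
        by_contra hcon
        push Not at hcon
        apply hA
        ext i j
        have := congrFun (hcon (Pi.single j 1)) i
        simpa using this
      have hBu : ∀ v, B *ᵥ (A *ᵥ v) = 0 := fun v => by rw [mulVec_mulVec, hBA, zero_mulVec]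
      have hαu : α ⬝ᵥ (A *ᵥ u) ≠ 0 := hc _ hu (hBu u)
      obtain ⟨β, hβ0, hβa, hβb⟩ := exists_two (a := A *ᵥ u) (b := b) hm
      have hβA : β ᵥ* A = 0 := by
        have h1 : ∀ v, (β ᵥ* A) ⬝ᵥ v = 0 := by
          intro v
          rw [← dotProduct_mulVec]
          have h2 : A *ᵥ v - (α ⬝ᵥ (A *ᵥ v) * (α ⬝ᵥ (A *ᵥ u))⁻¹) • (A *ᵥ u) = 0 := by
            by_contra h3
            apply hc _ h3
            · rw [mulVec_sub, mulVec_smul, hBu, hBu, smul_zero, sub_zero]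
            · rw [dotProduct_sub, dotProduct_smul, smul_eq_mul, mul_assoc, inv_mul_cancel₀ hαu, mul_one, sub_self]
          rw [sub_eq_zero.1 h2, dotProduct_smul, hβa, smul_zero]
        ext j
        have := h1 (Pi.single j 1)
        simpa using this
      have h1 : InM M (Y * rk ρ b β) := (h.root hβb).comm_l hY (rk_sq hβb) (hYa _ _ hβA)
      obtain ⟨a, ha0, hαa, hβa'⟩ := exists_two' (α := α) (β := β) hm
      have h2 : InM M (rk ρ a α * (Y * rk ρ b β)) := (h.root hαa).comm_r h1 (rk_sq hαa) (by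
        rw [mul_assoc, rk_mul_rk, hβa', zero_smul, mul_zero])
      rw [← mul_assoc] at h2
      exact h.co_scalar ha0 hβ0 hβa' h2

end

/-! ### rank -/

section Rank

variable {ρ ρ' : Matrix (Fin m) (Fin m) F →ₐ[F] Matrix κ κ F}

theorem rank_conjA (g : GL κ F) (X : Matrix κ κ F) : (conjA g X).rank = X.rank := by
  rw [conjA_apply, rank_mul_eq_left_of_isUnit_det _ _ ((isUnit_iff_isUnit_det _).1 (Units.isUnit _)),
    rank_mul_eq_right_of_isUnit_det _ _ ((isUnit_iff_isUnit_det _).1 (Units.isUnit _))]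

theorem rank_rk_le {a α b β : Fin m → F} (ha : a ≠ 0) (hα : α ≠ 0) :
    (rk ρ b β).rank ≤ (rk ρ a α).rank := by
  obtain ⟨a', ha'⟩ := exists_dot_one' ha
  obtain ⟨α', hα'⟩ := exists_dot_one hα
  have : rk ρ b β = rk ρ b a' * rk ρ a α * rk ρ α' β := by
    rw [rk_mul_rk, ha', one_smul, rk_mul_rk, hα', one_smul]
  rw [this]
  exact (rank_mul_le_left _ _).trans (rank_mul_le_right _ _)

theorem rank_rk_eq {a α b β : Fin m → F} (ha : a ≠ 0) (hα : α ≠ 0) (hb : b ≠ 0) (hβ : β ≠ 0) :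
    (rk ρ a α).rank = (rk ρ b β).rank :=
  le_antisymm (rank_rk_le hb hβ) (rank_rk_le ha hα)

theorem rank_rk_pos {a α : Fin m → F} (ha : a ≠ 0) (hα : α ≠ 0) : 0 < (rk ρ a α).rank := by
  rw [Nat.pos_iff_ne_zero]
  intro h
  have h1 : LinearMap.range (rk ρ a α).mulVecLin = ⊥ := Submodule.finrank_eq_zero.1 h
  rw [LinearMap.range_eq_bot] at h1
  apply rk_ne_zero ρ ha hα
  apply Matrix.ext_of_mulVec_single
  intro i
  rw [zero_mulVec]
  exact LinearMap.congr_fun h1 _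

/-- if `rank X ≤ rank (X * Z)` then `T (X Z) = 0` implies `T X = 0` -/
theorem mul_eq_zero_of_rank {X Z T : Matrix κ κ F} (h : X.rank ≤ (X * Z).rank) (hT : T * (X * Z) = 0) :
    T * X = 0 := by
  have h1 : LinearMap.range (X * Z).mulVecLin ≤ LinearMap.range X.mulVecLin := by
    rw [mulVecLin_mul]
    exact LinearMap.range_comp_le_range _ _
  have h2 := Submodule.eq_of_le_of_finrank_le h1 h
  apply Matrix.ext_of_mulVec_single
  intro i
  rw [zero_mulVec, ← mulVec_mulVec]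
  have h3 : X *ᵥ Pi.single i 1 ∈ LinearMap.range (X * Z).mulVecLin := by
    rw [h2]
    exact ⟨_, rfl⟩
  obtain ⟨v, hv⟩ := h3
  rw [mulVecLin_apply] at hv
  rw [← hv, mulVec_mulVec, hT, zero_mulVec]

/-- The rank lemma: `x = ρ(a) r` with `rank (x - 1) ≤ rank (rk)` and `a` not scalar forces `r` scalar. -/
theorem scalar_of_rank_le (hm : 3 ≤ m) {w : ℕ} (hw : ∀ a α, a ≠ 0 → α ≠ 0 → w ≤ (rk ρ a α).rank)
    {A : Matrix (Fin m) (Fin m) F} {r : GL κ F} (hr : Cen ρ (r : Matrix κ κ F))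
    (hrank : (ρ A * (r : Matrix κ κ F) - 1).rank ≤ w) (hA : ¬ ∃ c : F, A = c • (1 : Matrix (Fin m) (Fin m) F)) :
    ∃ c : F, (r : Matrix κ κ F) = c • (1 : Matrix κ κ F) := by
  -- a vector not mapped to a multiple
  have h1 : ∃ e φ : Fin m → F, φ ⬝ᵥ e = 0 ∧ φ ⬝ᵥ (A *ᵥ e) ≠ 0 := by
    by_contra hcon
    push Not at hcon
    apply hA
    have h1 : ∀ i j, i ≠ j → A i j = 0 := by
      intro i j hij
      have h2 := hcon (Pi.single j 1) (Pi.single i 1) (by simp [hij.symm])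
      simpa using h2
    have h3 : ∀ i j, A i i = A j j := by
      intro i j
      by_cases hij : i = j
      · rw [hij]
      have h2 := hcon (Pi.single i 1 + Pi.single j 1) (Pi.single i 1 - Pi.single j 1) (by
        simp [dotProduct_add, hij, Ne.symm hij])
      simp [sub_dotProduct, mulVec_add, dotProduct_add, h1 i j hij, h1 j i (Ne.symm hij)] at h2
      linear_combination h2
    have hm0 : 0 < m := by omega
    refine ⟨A ⟨0, hm0⟩ ⟨0, hm0⟩, ?_⟩
    ext i j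
    by_cases hij : i = j
    · subst hij; simp [h3 i ⟨0, hm0⟩]
    · simp [h1 i j hij, hij]
  obtain ⟨e, φ, hφe, hφA⟩ := h1
  have he : e ≠ 0 := by rintro rfl; simp at hφA
  obtain ⟨ε, hε⟩ := exists_dot_one' he
  have hε0 : ε ≠ 0 := by rintro rfl; simp at hε
  set X := ρ A * (r : Matrix κ κ F) - 1 with hX
  have hgen : ∀ g χ : Fin m → F, rk ρ g χ * (X * rk ρ e ε) =
      (χ ⬝ᵥ (A *ᵥ e)) • (rk ρ g ε * (r : Matrix κ κ F)) - (χ ⬝ᵥ e) • rk ρ g ε := by
    intro g χ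
    rw [hX, sub_mul, one_mul, mul_sub, rk_mul_rk, mul_assoc, ← hr.rk, ← mul_assoc (ρ A), map_mul_rk,
      ← mul_assoc, rk_mul_rk, smul_mul_assoc]
  have hr1 : w ≤ (X * rk ρ e ε).rank := by
    have h2 := hgen e φ
    rw [hφe, zero_smul, sub_zero] at h2
    have h3 : rk ρ e ε = (φ ⬝ᵥ (A *ᵥ e))⁻¹ • (rk ρ e φ * (X * rk ρ e ε)) * ((r⁻¹ : GL κ F) : Matrix κ κ F) := by
      rw [h2, smul_smul, inv_mul_cancel₀ hφA, one_smul, mul_assoc, Units.mul_inv, mul_one]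
    calc w ≤ (rk ρ e ε).rank := hw _ _ he hε0
      _ ≤ ((φ ⬝ᵥ (A *ᵥ e))⁻¹ • (rk ρ e φ * (X * rk ρ e ε))).rank := by
          conv_lhs => rw [h3]
          exact rank_mul_le_left _ _
      _ ≤ (X * rk ρ e ε).rank := by
          rw [← smul_mul_assoc]
          exact rank_mul_le_right _ _
  obtain ⟨χ, hχ0, hχe, hχA⟩ := exists_two (a := e) (b := A *ᵥ e) hm
  have h4 : rk ρ e χ * X = 0 := by
    apply mul_eq_zero_of_rank (hrank.trans hr1)
    rw [hgen, hχe, hχA, zero_smul, zero_smul, sub_zero]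
  obtain ⟨b, hb⟩ := exists_dot_one hχ0
  have h5 : rk ρ e ε * ((χ ⬝ᵥ (A *ᵥ b)) • (r : Matrix κ κ F) - 1) = 0 := by
    have h6 : rk ρ e χ * X * rk ρ b ε = 0 := by rw [h4, zero_mul]
    rw [hX, mul_sub, mul_one, sub_mul, rk_mul_rk, hb, one_smul, ← mul_assoc, rk_mul_map, mul_assoc,
      ← hr.rk, ← mul_assoc, rk_mul_rk, ← dotProduct_mulVec, smul_mul_assoc] at h6
    rw [mul_sub, mul_one, mul_smul_comm]
    exact h6
  have h6 := Cen.eq_zero (ρ := ρ) (Cen.sub (Cen.smul _ hr) (cen_one ρ)) he hε0 h5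
  have h7 : χ ⬝ᵥ (A *ᵥ b) ≠ 0 := by
    intro h8
    rw [h8, zero_smul, zero_sub, neg_eq_zero] at h6
    exact one_ne_zero h6
  refine ⟨(χ ⬝ᵥ (A *ᵥ b))⁻¹, ?_⟩
  rw [← sub_eq_zero.1 h6, smul_smul, inv_mul_cancel₀ h7, one_smul]

/-- an element of the image of `ρ` of rank at most that of a rank one element is of rank one -/
theorem exists_vecMulVec_of_rank_le {w : ℕ} (hw : ∀ a α, a ≠ 0 → α ≠ 0 → w ≤ (rk ρ a α).rank)
    {A : Matrix (Fin m) (Fin m) F} (h : (ρ A).rank ≤ w) : ∃ a α, A = vecMulVec a α := by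
  by_cases hA : A = 0
  · exact ⟨0, 0, by rw [hA, zero_vecMulVec]⟩
  obtain ⟨b, hb⟩ : ∃ u, A *ᵥ u ≠ 0 := by
    by_contra hcon
    push Not at hcon
    apply hA
    ext i j
    have := congrFun (hcon (Pi.single j 1)) i
    simpa using this
  obtain ⟨ε, hε⟩ := exists_dot_one' hb
  have hε0 : ε ≠ 0 := by rintro rfl; simp at hε
  have h1 : ∀ χ : Fin m → F, χ ⬝ᵥ (A *ᵥ b) = 0 → χ ᵥ* A = 0 := by
    intro χ hχ
    have h2 : rk ρ (A *ᵥ b) χ * ρ A = 0 := by
      apply mul_eq_zero_of_rank (Z := rk ρ b ε)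
      · rw [map_mul_rk]
        exact h.trans (hw _ _ hb hε0)
      · rw [map_mul_rk, rk_mul_rk, hχ, zero_smul]
    rw [rk_mul_map] at h2
    exact (rk_eq_zero ρ h2).resolve_left hb
  refine ⟨A *ᵥ b, ε ᵥ* A, ?_⟩
  ext i j
  have h2 := h1 (Pi.single i 1 - (A *ᵥ b) i • ε) (by
    rw [sub_dotProduct, smul_dotProduct, hε, single_dotProduct]; simp)
  have h3 := congrFun h2 j
  rw [sub_vecMul, smul_vecMul, Pi.sub_apply, Pi.smul_apply] at h3
  simp at h3
  rw [vecMulVec_apply]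
  exact sub_eq_zero.1 h3

end Rank

end Cfsg.Agent.H873.Wr
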