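import Cfsg.Agent.H873.WrTwoMain
import Cfsg.Agent.H873.SubfieldMain

/-!
**The tensor wreath subgroup is maximal in `SL`.**
-/

set_option autoImplicit false
set_option linter.unusedSectionVars false
set_option linter.unusedSimpArgs false
set_option linter.unusedVariables false

namespace Cfsg.Agent.H873.Wr

open Matrix Cfsg.Agent.H919 Cfsg.Geo

variable {F : Type*} [Field F] [Fintype F]

/-- two-element fields -/
theorem le_std_of_two (hT : Two F) {m : ℕ} (hm : 3 ≤ m) : ∀ t : ℕ, 2 ≤ t → ∀ M : Subgroup (GL (Fin t → Fin m) F),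
    HS m t F ≤ M → ¬ specialLinear (Fin t → Fin m) F ≤ M → M ≤ tensorWreathStandard m t F := by
  intro t
  induction t with
  | zero => intro h; omega
  | succ t ih =>
    intro ht M hHM hM
    have hctx : Ctx M := by
      refine ⟨hT, hm, ht, by rwa [← hT.HS_eq], hM, ?_⟩
      intro n hn i j hij
      exact norm_slot hT hm (by omega) ih hHM hM hn hij
    intro g hg
    by_contra hgH
    by_cases hm4 : 4 ≤ m
    · exact hctx.false_four hm4 hg hgH
    · have hm3 : m = 3 := by omega
      subst hm3
      exact hctx.false_three hg hgH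

/-- **Overgroups of the tensor wreath subgroup** (all fields, all `m ≥ 3`, `t ≥ 2`). -/
theorem le_std {m t : ℕ} (hm : 3 ≤ m) (ht : 2 ≤ t) {M : Subgroup (GL (Fin t → Fin m) F)} (hHM : HS m t F ≤ M)
    (hM : ¬ specialLinear (Fin t → Fin m) F ≤ M) : M ≤ tensorWreathStandard m t F := by
  by_cases hF : ∃ c : F, c ≠ 0 ∧ c ≠ 1
  · exact le_std_of_big hm ht hF hHM hM
  · push Not at hF
    have hT : Two F := by
      intro c
      by_cases hc : c = 0
      · exact Or.inl hc
      · exact Or.inr (hF c hc)
    exact le_std_of_two hT hm t ht M hHM hM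

/-- **The standard tensor wreath subgroup is maximal in `SL`.** -/
theorem maximal_std {m t : ℕ} (hm : 3 ≤ m) (ht : 2 ≤ t) :
    IsMaximalIn (specialLinear (Fin t → Fin m) F) (HS m t F) := by
  refine ⟨lt_of_le_of_ne inf_le_right ?_, ?_⟩
  · intro h
    exact not_sl_le (F := F) hm ht (by rw [← h]; exact inf_le_left)
  · intro M hHM hMS
    by_cases hM : specialLinear (Fin t → Fin m) F ≤ M
    · exact Or.inr (le_antisymm hMS hM)
    · exact Or.inl (le_antisymm (le_inf (le_std hm ht hHM hM) hMS) hHM)

/-- **The stabiliser of a tensor decomposition into equal factors is maximal in `SL`.** -/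
theorem maximal_general {ι : Type} [Fintype ι] [DecidableEq ι] {m t : ℕ} (hm : 3 ≤ m) (ht : 2 ≤ t)
    (e : ι ≃ (Fin t → Fin m)) (P : GL ι F) :
    IsMaximalIn (specialLinear ι F) (tensorWreathSubgroup m t e P ⊓ specialLinear ι F) := by
  obtain ⟨h1, h2⟩ := maximal_std (F := F) hm ht
  -- determinants
  have hdet : ∀ g : GL (Fin t → Fin m) F, frameGL e P g ∈ specialLinear ι F ↔ g ∈ specialLinear (Fin t → Fin m) F := by
    intro g
    rw [mem_specialLinear_iff, mem_specialLinear_iff, frameGL_val, frameMat, det_mul, det_mul]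
    have h3 : ((P : GL ι F) : Matrix ι ι F).det * (((P⁻¹ : GL ι F) : Matrix ι ι F)).det = 1 := by
      rw [← det_mul, Units.mul_inv, det_one]
    have h4 : (Matrix.reindexAlgEquiv F F e.symm (g : Matrix (Fin t → Fin m) (Fin t → Fin m) F)).det =
        (g : Matrix (Fin t → Fin m) (Fin t → Fin m) F).det := by
      rw [Matrix.coe_reindexAlgEquiv, Matrix.det_reindex_self]
    rw [h4]
    have h5 : ((P : GL ι F) : Matrix ι ι F).det * (g : Matrix (Fin t → Fin m) (Fin t → Fin m) F).det *
        (((P⁻¹ : GL ι F) : Matrix ι ι F)).det = (g : Matrix (Fin t → Fin m) (Fin t → Fin m) F).det := by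
      calc _ = (((P : GL ι F) : Matrix ι ι F).det * (((P⁻¹ : GL ι F) : Matrix ι ι F)).det) *
            (g : Matrix (Fin t → Fin m) (Fin t → Fin m) F).det := by ring
        _ = _ := by rw [h3, one_mul]
    rw [h5]
  have hmap1 : (specialLinear (Fin t → Fin m) F).map (frameGL e P).toMonoidHom = specialLinear ι F := by
    ext x
    constructor
    · rintro ⟨g, hg, rfl⟩
      exact (hdet g).2 hg
    · intro hx
      refine ⟨(frameGL e P).symm x, ?_, by simp⟩
      apply (hdet _).1
      rwa [MulEquiv.apply_symm_apply]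
  have hmap2 : (HS m t F).map (frameGL e P).toMonoidHom = tensorWreathSubgroup m t e P ⊓ specialLinear ι F := by
    ext x
    constructor
    · rintro ⟨g, ⟨hg, hg'⟩, rfl⟩
      exact ⟨(mem_tensorWreathSubgroup_iff e P _).2 ⟨g, hg, rfl⟩, (hdet g).2 hg'⟩
    · rintro ⟨hx, hx'⟩
      obtain ⟨g, hg, rfl⟩ := (mem_tensorWreathSubgroup_iff e P _).1 hx
      exact ⟨g, ⟨hg, (hdet g).1 hx'⟩, rfl⟩
  refine ⟨?_, ?_⟩
  · have := (Subgroup.map_lt_map_iff_of_injective (f := (frameGL e P).toMonoidHom) (frameGL e P).injective).2 h1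
    rwa [hmap1, hmap2] at this
  · intro M hM1 hM2
    have hmap : (M.comap (frameGL e P).toMonoidHom).map (frameGL e P).toMonoidHom = M :=
      Subgroup.map_comap_eq_self_of_surjective (frameGL e P).surjective M
    have h3 : HS m t F ≤ M.comap (frameGL e P).toMonoidHom := by
      rw [← Subgroup.map_le_iff_le_comap, hmap2]
      exact hM1
    have h4 : M.comap (frameGL e P).toMonoidHom ≤ specialLinear (Fin t → Fin m) F := by
      rw [← Subgroup.map_le_map_iff_of_injective (f := (frameGL e P).toMonoidHom) (frameGL e P).injective, hmap, hmap1]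
      exact hM2
    rcases h2 _ h3 h4 with h5 | h5
    · left
      rw [← hmap, h5, hmap2]
    · right
      rw [← hmap, h5, hmap1]

end Cfsg.Agent.H873.Wr
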