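import Cfsg.Agent.H873.WrSl2

/-!
The pair theorem for `|F| > 2`: any two members of a class of good embeddings have equal or commuting images.
-/

set_option autoImplicit false
set_option linter.unusedSectionVars false

namespace Cfsg.Agent.H873.Wr

open Matrix

variable {κ : Type} [Fintype κ] [DecidableEq κ] [Nonempty κ] {F : Type*} [Field F] {m : ℕ}

/-- The images of `ρ` and `ρ'` commute. -/
def Comm (ρ ρ' : Matrix (Fin m) (Fin m) F →ₐ[F] Matrix κ κ F) : Prop := ∀ A B, Commute (ρ A) (ρ' B)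

theorem RLe.symm {ρ ρ' : Matrix (Fin m) (Fin m) F →ₐ[F] Matrix κ κ F} (h : RLe ρ ρ') : RLe ρ' ρ := by
  choose θ hθ using h
  have hinj := ρ_injective ρ'
  have hinj' := ρ_injective ρ
  let A0 : Matrix (Fin m) (Fin m) F →ₗ[F] Matrix (Fin m) (Fin m) F :=
      { toFun := θ
        map_add' := fun x y => by
          apply hinj
          rw [map_add, hθ, hθ, hθ, map_add]
        map_smul' := fun c x => by
          apply hinj
          rw [map_smul, hθ, hθ, map_smul]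
          rfl }
  have hA0 : Function.Injective A0 := by
    intro x y hxy
    apply hinj'
    rw [← hθ, ← hθ]
    exact congrArg ρ' hxy
  have hsurj := LinearMap.surjective_of_injective hA0
  intro B
  obtain ⟨A, hA⟩ := hsurj B
  refine ⟨A, ?_⟩
  rw [← hA]
  exact (hθ A).symm

/-- A class of good embeddings, closed under conjugation, such that `p`-pairs are good. -/
structure Frames (M : Subgroup (GL κ F)) (w : ℕ) (G : Set (Matrix (Fin m) (Fin m) F →ₐ[F] Matrix κ κ F)) : Prop where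
  ge : ∀ ρ ∈ G, GE M ρ
  rank : ∀ ρ ∈ G, ∀ a α, a ≠ 0 → α ≠ 0 → (rk ρ a α).rank = w
  conj : ∀ ρ ∈ G, ∀ g ∈ M, cj g ρ ∈ G
  nilp : ∀ ρ ∈ G, ∀ ρ' ∈ G, ∀ e φ e' φ', e ≠ 0 → φ ≠ 0 → φ ⬝ᵥ e = 0 → e' ≠ 0 → φ' ≠ 0 → φ' ⬝ᵥ e' = 0 →
    (∃ k : ℕ, (rk ρ e φ * rk ρ' e' φ' + rk ρ' e' φ' * rk ρ e φ) ^ k = 0) → RLe ρ ρ' ∨ Comm ρ ρ'

section Finite

theorem exists_idempotent_pow {R : Type*} [Monoid R] [Finite R] (x : R) :
    ∃ k : ℕ, 0 < k ∧ x ^ k * x ^ k = x ^ k := by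
  obtain ⟨i, j, hij, he⟩ := Finite.exists_ne_map_eq_of_infinite (fun n : ℕ => x ^ n)
  wlog hlt : i < j generalizing i j
  · exact this j i hij.symm he.symm (lt_of_le_of_ne (not_lt.1 hlt) hij.symm)
  obtain ⟨d, hd⟩ := Nat.exists_eq_add_of_lt hlt
  -- j = i + d + 1
  have h1 : ∀ n a, i ≤ a → x ^ (a + n * (d + 1)) = x ^ a := by
    intro n
    induction n with
    | zero => intro a _; simp
    | succ n ih =>
      intro a ha
      obtain ⟨b, rfl⟩ := Nat.exists_eq_add_of_le ha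
      have h2 : i + b + (n + 1) * (d + 1) = (i + d + 1) + (b + n * (d + 1)) := by ring
      have he' : x ^ i = x ^ j := he
      rw [h2, pow_add, ← hd, ← he', ← pow_add, ← add_assoc, ih (i + b) ha]
  refine ⟨(i + 1) * (d + 1), by positivity, ?_⟩
  rw [← pow_add]
  exact h1 (i + 1) _ (by nlinarith)

end Finite

section Pieces

variable {M : Subgroup (GL κ F)} {ρ ρ' : Matrix (Fin m) (Fin m) F →ₐ[F] Matrix κ κ F}

/-- If `d N π` gives an element of `M` then `N = N π`. -/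
theorem GE.full_of_part (h : GE M ρ) (hm : 3 ≤ m) {e φ : Fin m → F} (he : e ≠ 0) (hφ : φ ≠ 0) (hφe : φ ⬝ᵥ e = 0)
    {π : Matrix κ κ F} (hπ : π * π = π) (hNπ : Commute (rk ρ e φ) π) {d : F} (hd : d ≠ 0)
    (hM : InM M (d • (rk ρ e φ * π))) (h0 : rk ρ e φ * π ≠ 0) : rk ρ e φ * π = rk ρ e φ := by
  obtain ⟨f, hf⟩ := exists_dot_one hφ
  obtain ⟨ψ, -, hψ⟩ := h.col hm he hM (by
    intro γ
    have : rk ρ e γ = rk ρ e φ * rk ρ f γ := by rw [rk_mul_rk, hf, one_smul]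
    rw [this, smul_mul_assoc, hNπ.eq, mul_assoc π, ← mul_assoc (rk ρ e φ), rk_mul_rk, hφe, zero_smul, zero_mul,
      mul_zero, smul_zero]) (by
    intro g γ hγ
    rw [mul_smul_comm, ← mul_assoc, rk_mul_rk, hγ, zero_smul, zero_mul, smul_zero])
  have h1 : rk ρ e φ * π = rk ρ e (d⁻¹ • ψ) := by
    rw [rk_smul_right, ← hψ, smul_smul, inv_mul_cancel₀ hd, one_smul]
  have hψ0 : d⁻¹ • ψ ≠ 0 := by
    intro h2
    rw [h2, rk_zero_right] at h1
    exact h0 h1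
  obtain ⟨f', hf'⟩ := exists_dot_one hψ0
  have h2 : rk ρ e φ = π * (rk ρ e φ * rk ρ f' φ) := by
    rw [← mul_assoc, ← hNπ.eq, h1, rk_mul_rk, hf', one_smul]
  rw [hNπ.eq]
  conv_lhs => rw [h2, ← mul_assoc, hπ]
  exact h2.symm

/-- elements of `M` sharing a root with a scaled root normalise the image -/
theorem GE.normalises (h : GE M ρ) (hm : 3 ≤ m) {g : GL κ F} (hg : g ∈ M) {e φ : Fin m → F} (he : e ≠ 0)
    (hφ : φ ≠ 0) {c : F} (hc : c ≠ 0) (hgN : conjA g (rk ρ e φ) = c • rk ρ e φ) :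
    RLe (Wr.cj g ρ) ρ := by
  apply (h.cj hg).range_le h hm he hφ (e' := c • e) (smul_ne_zero hc he) hφ
  rw [rk_cj, hgN, rk_smul_left]

/-- a root lying in the image of another good embedding -/
theorem GE.rle_of_mem (h : GE M ρ) (h' : GE M ρ') (hm : 3 ≤ m) {w : ℕ} (hw : ∀ a α, a ≠ 0 → α ≠ 0 → (rk ρ a α).rank = w)
    (hw' : ∀ a α, a ≠ 0 → α ≠ 0 → (rk ρ' a α).rank = w) {e φ : Fin m → F} (he : e ≠ 0) (hφ : φ ≠ 0)
    (hmem : ∃ A, ρ' A = rk ρ e φ) : RLe ρ ρ' := by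
  obtain ⟨A, hA⟩ := hmem
  obtain ⟨a, α, rfl⟩ := exists_vecMulVec_of_rank_le (ρ := ρ') (w := w) (fun a α ha hα => (hw' a α ha hα).ge)
    (A := A) (by rw [hA, hw e φ he hφ])
  have hne : rk ρ' a α ≠ 0 := by
    intro h0
    have : rk ρ e φ = 0 := by rw [← hA]; exact h0
    exact rk_ne_zero ρ he hφ this
  have ha : a ≠ 0 := by rintro rfl; exact hne (rk_zero_left _ _)
  have hα : α ≠ 0 := by rintro rfl; exact hne (rk_zero_right _ _)
  exact h.range_le h' hm he hφ ha hα hA.symm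

/-- rank is at least additive for separated summands -/
theorem rank_add_of_sep {A B P Q : Matrix κ κ F} (hPA : P * A = A) (hPB : P * B = 0) (hAQ : A * Q = A)
    (hBQ : B * Q = 0) : A.rank + B.rank ≤ (A + B).rank := by
  have hdisj : Disjoint (LinearMap.range A.mulVecLin) (LinearMap.range B.mulVecLin) := by
    rw [Submodule.disjoint_def]
    rintro _ ⟨a, rfl⟩ ⟨b, hb⟩
    rw [mulVecLin_apply] at hb ⊢
    rw [mulVecLin_apply] at hb
    have h1 : P *ᵥ (A *ᵥ a) = A *ᵥ a := by rw [mulVec_mulVec, hPA]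
    rw [← h1, ← hb, mulVec_mulVec, hPB, zero_mulVec]
  have h1 : LinearMap.range A.mulVecLin ⊔ LinearMap.range B.mulVecLin ≤ LinearMap.range (A + B).mulVecLin := by
    refine sup_le ?_ ?_
    · rintro _ ⟨a, rfl⟩
      refine ⟨Q *ᵥ a, ?_⟩
      rw [mulVecLin_apply, mulVecLin_apply, mulVec_mulVec, add_mul, hAQ, hBQ, add_zero]
    · rintro _ ⟨a, rfl⟩
      refine ⟨(1 - Q) *ᵥ a, ?_⟩
      rw [mulVecLin_apply, mulVecLin_apply, mulVec_mulVec, add_mul, mul_sub, mul_sub, hAQ, hBQ, mul_one, mul_one,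
        sub_self, sub_zero, zero_add]
  have h2 := Submodule.finrank_mono h1
  have h3 := Submodule.finrank_sup_add_finrank_inf_eq (LinearMap.range A.mulVecLin) (LinearMap.range B.mulVecLin)
  rw [hdisj.eq_bot, finrank_bot, add_zero] at h3
  rw [h3] at h2
  exact h2

theorem rank_add_le' (A B : Matrix κ κ F) : (A + B).rank ≤ A.rank + B.rank := by
  have h1 : LinearMap.range (A + B).mulVecLin ≤ LinearMap.range A.mulVecLin ⊔ LinearMap.range B.mulVecLin := by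
    rintro _ ⟨v, rfl⟩
    rw [mulVecLin_apply, add_mulVec]
    exact Submodule.add_mem_sup ⟨v, rfl⟩ ⟨v, rfl⟩
  exact (Submodule.finrank_mono h1).trans (Submodule.finrank_add_le_finrank_add_finrank _ _)

/-- The case where an involution `T = 1 - 2 π` of `M` inverts: `|F| = 3`. -/
theorem GE.mem_range_of_three (h : GE M ρ) (hm : 3 ≤ m) (h3 : (3 : F) = 0) {e φ : Fin m → F} (he : e ≠ 0)
    (hφ : φ ≠ 0) (hφe : φ ⬝ᵥ e = 0) {T : GL κ F} (hT : T ∈ M) {ñ y π Y : Matrix κ κ F} (hs : Sl2 ñ y π)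
    (hTπ : (T : Matrix κ κ F) = 1 + π) (hTN : Commute (T : Matrix κ κ F) (rk ρ e φ))
    (hN0 : rk ρ e φ * π ≠ 0) {θ : Matrix κ κ F} (hñ : ∃ X, ñ = rk ρ e φ * π * X) (hNñ : rk ρ e φ * π = θ * ñ)
    (hYM : InM M Y) (hYc : Commute Y π) (hYy : Y * π = y) (hYw : Y.rank ≤ (rk ρ e φ).rank) : ∃ A, ρ A = Y := by
  have hπN : Commute π (rk ρ e φ) := by
    have : π = (T : Matrix κ κ F) - 1 := by rw [hTπ]; abel
    rw [this]; exact hTN.sub_left (Commute.one_left _)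
  have hππ := pi_pi hs
  obtain ⟨a, r, hr, hTar⟩ := exists_factor (by omega : 0 < m)
    (h.normalises hm hT he hφ (c := 1) one_ne_zero (by rw [one_smul]; exact conjA_eq_self hTN))
  -- `a e ⊗ φ = e ⊗ φ a`
  have h4 : rk ρ ((a : Matrix (Fin m) (Fin m) F) *ᵥ e) φ = rk ρ e (φ ᵥ* (a : Matrix (Fin m) (Fin m) F)) := by
    have h5 := hTN.eq
    rw [hTar, mul_assoc, ← hr.rk, ← mul_assoc, map_mul_rk, ← mul_assoc (rk ρ e φ), rk_mul_map] at h5
    have h6 := congrArg (· * ((r⁻¹ : GL κ F) : Matrix κ κ F)) h5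
    simpa [mul_assoc] using h6
  have h4' : vecMulVec ((a : Matrix (Fin m) (Fin m) F) *ᵥ e) φ = vecMulVec e (φ ᵥ* (a : Matrix (Fin m) (Fin m) F)) :=
    ρ_injective ρ h4
  obtain ⟨lam, hlam⟩ : ∃ lam : F, (a : Matrix (Fin m) (Fin m) F) *ᵥ e = lam • e := by
    obtain ⟨f, hf⟩ := exists_dot_one hφ
    refine ⟨(φ ᵥ* (a : Matrix (Fin m) (Fin m) F)) ⬝ᵥ f, ?_⟩
    have := congrArg (· *ᵥ f) h4'
    simp only [vecMulVec_mulVec, op_smul_eq_smul, hf, one_smul] at this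
    exact this
  have hlam' : φ ᵥ* (a : Matrix (Fin m) (Fin m) F) = lam • φ := by
    rw [hlam] at h4
    obtain ⟨ε, hε⟩ := exists_dot_one' he
    have h5 := congrArg (rk ρ e ε * ·) h4
    simp only [rk_mul_rk, dotProduct_smul, hε, one_smul, smul_eq_mul, mul_one] at h5
    have h6 : vecMulVec e (lam • φ) = vecMulVec e (φ ᵥ* (a : Matrix (Fin m) (Fin m) F)) := by
      apply ρ_injective ρ
      rw [← rk_smul_right] at h5
      exact h5
    have h7 := congrArg (ε ᵥ* ·) h6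
    simp only [vecMul_vecMulVec, hε, one_smul] at h7
    exact h7.symm
  have hlam0 : lam ≠ 0 := by
    rintro rfl
    rw [zero_smul] at hlam
    apply he
    have := congrArg (((a⁻¹ : GL (Fin m) F) : Matrix (Fin m) (Fin m) F) *ᵥ ·) hlam
    simpa [mulVec_mulVec] using this
  -- normalised factors
  obtain ⟨A, hA⟩ : ∃ A : Matrix (Fin m) (Fin m) F, A = lam⁻¹ • (a : Matrix (Fin m) (Fin m) F) := ⟨_, rfl⟩
  obtain ⟨R, hR⟩ : ∃ R : Matrix κ κ F, R = lam • (r : Matrix κ κ F) := ⟨_, rfl⟩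
  have hRc : Cen ρ R := by rw [hR]; exact hr.smul _
  have hTAR : (T : Matrix κ κ F) = ρ A * R := by
    rw [hTar, hA, hR, map_smul, smul_mul_smul_comm, inv_mul_cancel₀ hlam0, one_smul]
  have hAe : A *ᵥ e = e := by rw [hA, smul_mulVec, hlam, smul_smul, inv_mul_cancel₀ hlam0, one_smul]
  have hAφ : φ ᵥ* A = φ := by rw [hA, vecMul_smul, hlam', smul_smul, inv_mul_cancel₀ hlam0, one_smul]
  have h22 : (2 : F) ≠ 0 := by
    intro h2
    have : (1 : F) = 0 := by linear_combination h3 - h2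
    exact one_ne_zero this
  have hT2 : (T : Matrix κ κ F) * (T : Matrix κ κ F) = 1 := by
    rw [hTπ]
    have : (1 + π) * (1 + π) = 1 + (π + π + π * π) := by noncomm_ring
    rw [this, hππ]
    have : π + π + π = (3 : F) • π := by module
    rw [this, h3, zero_smul, add_zero]
  have hTrk : ∀ b β, (T : Matrix κ κ F) * rk ρ b β = rk ρ (A *ᵥ b) β * R := by
    intro b β
    rw [hTAR, mul_assoc, ← hRc.rk, ← mul_assoc, map_mul_rk]
  have hRR : R * R = 1 := by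
    have h5 : rk ρ e φ * (R * R - 1) = 0 := by
      have h6 : (T : Matrix κ κ F) * ((T : Matrix κ κ F) * rk ρ e φ) = rk ρ e φ * (R * R) := by
        rw [hTrk, hAe, ← mul_assoc, hTrk, hAe, mul_assoc]
      rw [← mul_assoc, hT2, one_mul] at h6
      rw [mul_sub, mul_one, ← h6, sub_self]
    exact sub_eq_zero.1 (Cen.eq_zero (ρ := ρ) ((hRc.mul hRc).sub (cen_one ρ)) he hφ h5)
  have hAA : A * A = 1 := by
    apply ρ_injective ρ
    rw [map_mul, map_one]
    have h5 : ρ A * R * (ρ A * R) = ρ A * ρ A := by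
      rw [mul_assoc, ← mul_assoc R, ← (hRc A).eq, mul_assoc (ρ A) R R, hRR, mul_one]
    rw [← h5, ← hTAR, hT2]
  -- s = R - 1 is idempotent
  have hπe : ∀ b β, A *ᵥ b = b → π * rk ρ b β = rk ρ b β * (R - 1) := by
    intro b β hb
    have : π = (T : Matrix κ κ F) - 1 := by rw [hTπ]; abel
    rw [this, sub_mul, one_mul, hTrk, hb, mul_sub, mul_one]
  have hsc : Cen ρ (R - 1) := hRc.sub (cen_one ρ)
  have hss : (R - 1) * (R - 1) = R - 1 := by
    have h5 : rk ρ e φ * ((R - 1) * (R - 1) - (R - 1)) = 0 := by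
      have h6 : π * (π * rk ρ e φ) = rk ρ e φ * ((R - 1) * (R - 1)) := by
        rw [hπe e φ hAe, ← mul_assoc, hπe e φ hAe, mul_assoc]
      rw [← mul_assoc, hππ, hπe e φ hAe] at h6
      rw [mul_sub, ← h6, sub_self]
    exact sub_eq_zero.1 (Cen.eq_zero (ρ := ρ) ((hsc.mul hsc).sub hsc) he hφ h5)
  -- the vector u₀
  obtain ⟨u, hu⟩ := exists_dot_one hφ
  obtain ⟨u₀, hu₀, hAu₀, hφu₀⟩ : ∃ u₀, u₀ = -(A *ᵥ u + u) ∧ A *ᵥ u₀ = u₀ ∧ φ ⬝ᵥ u₀ = 1 := by
    refine ⟨_, rfl, ?_, ?_⟩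
    · rw [mulVec_neg, mulVec_add, mulVec_mulVec, hAA, one_mulVec, add_comm]
    · rw [dotProduct_neg, dotProduct_add, dotProduct_mulVec, hAφ, hu]
      linear_combination -h3
  obtain ⟨ε, hεe, hεu⟩ : ∃ ε : Fin m → F, ε ⬝ᵥ e = 1 ∧ ε ⬝ᵥ u₀ = 0 := by
    obtain ⟨ε, hε⟩ := exists_dot_one' he
    refine ⟨ε - (ε ⬝ᵥ u₀) • φ, ?_, ?_⟩
    · rw [sub_dotProduct, smul_dotProduct, hε, hφe, smul_zero, sub_zero]
    · rw [sub_dotProduct, smul_dotProduct, hφu₀, smul_eq_mul, mul_one, sub_self]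
  have hu₀0 : u₀ ≠ 0 := by rintro h0; rw [h0, dotProduct_zero] at hφu₀; exact zero_ne_one hφu₀
  -- rank comparison
  set s := R - 1 with hsdef
  have hNs : rk ρ e φ * π = rk ρ e φ * s := by rw [← hπN.eq, hπe e φ hAe]
  have hr1 : π.rank ≤ (rk ρ e φ * s).rank + (rk ρ e φ * s).rank := by
    obtain ⟨X, hX⟩ := hñ
    have hñr : ñ.rank ≤ (rk ρ e φ * s).rank := by
      rw [hX, hNs]; exact rank_mul_le_left _ _
    rw [← hs.s]
    refine (rank_add_le' _ _).trans (Nat.add_le_add ?_ ?_)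
    · exact (rank_mul_le_left _ _).trans hñr
    · exact (rank_mul_le_right _ _).trans hñr
  have hr2 : (rk ρ e φ * s).rank + (rk ρ e φ * s).rank ≤ ((rk ρ e ε + rk ρ u₀ φ) * s).rank := by
    rw [add_mul]
    refine le_trans (Nat.add_le_add ?_ ?_) (rank_add_of_sep (P := rk ρ e ε) (Q := rk ρ e ε) ?_ ?_ ?_ ?_)
    · have : rk ρ e φ * s = (rk ρ e ε * s) * rk ρ e φ := by
        rw [mul_assoc, ← hsc.rk, ← mul_assoc, rk_mul_rk, hεe, one_smul]
      rw [this]; exact rank_mul_le_left _ _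
    · have : rk ρ e φ * s = rk ρ e φ * (rk ρ u₀ φ * s) := by
        rw [← mul_assoc, rk_mul_rk, hφu₀, one_smul]
      rw [this]; exact rank_mul_le_right _ _
    · rw [← mul_assoc, rk_mul_rk, hεe, one_smul]
    · rw [← mul_assoc, rk_mul_rk, hεu, zero_smul, zero_mul]
    · rw [mul_assoc, ← hsc.rk, ← mul_assoc, rk_mul_rk, hεe, one_smul]
    · rw [mul_assoc, ← hsc.rk, ← mul_assoc, rk_mul_rk, hφe, zero_smul, zero_mul]
  have hπQ : π * ((rk ρ e ε + rk ρ u₀ φ) * s) = (rk ρ e ε + rk ρ u₀ φ) * s := by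
    rw [← mul_assoc, mul_add, hπe e ε hAe, hπe u₀ φ hAu₀, ← add_mul, mul_assoc, hss]
  obtain ⟨χ, hχ0, hχe, hχu⟩ := exists_two (a := e) (b := u₀) hm
  have hχπ : ∀ g, rk ρ g χ * π = 0 := by
    intro g
    apply mul_eq_zero_of_rank (Z := (rk ρ e ε + rk ρ u₀ φ) * s)
    · rw [hπQ]; exact hr1.trans hr2
    · rw [hπQ, ← mul_assoc, mul_add, rk_mul_rk, rk_mul_rk, hχe, hχu, zero_smul, zero_smul, add_zero, zero_mul]
  -- R is scalar
  obtain ⟨b, hb⟩ := exists_dot_one hχ0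
  have hR1 : rk ρ e φ * ((χ ⬝ᵥ (A *ᵥ b)) • R - 1) = 0 := by
    have h5 : rk ρ e χ * π * rk ρ b φ = 0 := by rw [hχπ, zero_mul]
    have h6 : π = ρ A * R - 1 := by rw [← hTAR, hTπ]; abel
    rw [h6, mul_sub, mul_one, sub_mul, rk_mul_rk, hb, one_smul, ← mul_assoc, rk_mul_map, mul_assoc,
      ← hRc.rk, ← mul_assoc, rk_mul_rk, ← dotProduct_mulVec, smul_mul_assoc] at h5
    rw [mul_sub, mul_one, mul_smul_comm]
    exact h5
  have hR2 := Cen.eq_zero (ρ := ρ) ((hRc.smul _).sub (cen_one ρ)) he hφ hR1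
  obtain ⟨c, hc⟩ : ∃ c : F, R = c • (1 : Matrix κ κ F) := by
    have h7 : χ ⬝ᵥ (A *ᵥ b) ≠ 0 := by
      intro h8
      rw [h8, zero_smul, zero_sub, neg_eq_zero] at hR2
      exact one_ne_zero hR2
    refine ⟨(χ ⬝ᵥ (A *ᵥ b))⁻¹, ?_⟩
    rw [← sub_eq_zero.1 hR2, smul_smul, inv_mul_cancel₀ h7, one_smul]
  have hs1 : s = (c - 1) • (1 : Matrix κ κ F) := by rw [hsdef, hc, sub_smul, one_smul]
  have hcc : c - 1 = 1 := by
    have h5 : (c - 1) * (c - 1) = c - 1 := by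
      have h6 := hss
      rw [hs1, smul_mul_smul_comm, one_mul] at h6
      obtain ⟨i⟩ := ‹Nonempty κ›
      have h7 := congrFun (congrFun h6 i) i
      simpa using h7
    have h6 : c - 1 ≠ 0 := by
      intro h7
      rw [hNs, hs1, h7, zero_smul, mul_zero] at hN0
      exact hN0 rfl
    exact mul_left_cancel₀ h6 (by rw [h5, mul_one])
  have hNN : rk ρ e φ * π = rk ρ e φ := by rw [hNs, hs1, hcc, one_smul, mul_one]
  -- Y = π Y
  have hYπ : (1 - π) * Y = 0 := by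
    apply mul_eq_zero_of_rank (Z := π)
    · rw [hYy]
      refine hYw.trans ?_
      rw [← hNN, hNñ]
      refine (rank_mul_le_right _ _).trans ?_
      rw [← hs.nyn]
      exact (rank_mul_le_left _ _).trans (rank_mul_le_right _ _)
    · rw [hYy]
      have : π * y = y := by
        have := pi_io hs !![0, 0; 1, 0]
        rwa [io_e21] at this
      rw [sub_mul, one_mul, this, sub_self]
  have hYπ2 : Y = π * Y := by
    rw [sub_mul, one_mul, sub_eq_zero] at hYπ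
    exact hYπ
  -- π is in the image
  obtain ⟨Q, hQ⟩ : ∃ Q, ρ Q = π := by
    refine ⟨c • A - 1, ?_⟩
    have h6 : π = ρ A * R - 1 := by rw [← hTAR, hTπ]; abel
    rw [h6, hc, map_sub, map_smul, map_one, mul_smul_comm, mul_one]
  have hQQ : Q * Q = Q := by
    apply ρ_injective ρ
    rw [map_mul, hQ, hππ]
  have hχQ : χ ᵥ* Q = 0 := by
    have h5 := hχπ e
    rw [← hQ, rk_mul_map] at h5
    exact (rk_eq_zero ρ h5).resolve_left he
  apply h.block hm (f := b - Q *ᵥ b) (ε := χ) (by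
    rw [dotProduct_sub, hb, dotProduct_mulVec, hχQ, zero_dotProduct, sub_zero]) hYM
  · intro γ
    rw [hYπ2, ← hYc.eq, mul_assoc, ← hQ, map_mul_rk, mulVec_sub, mulVec_mulVec, hQQ, sub_self, rk_zero_left, mul_zero]
  · intro g
    rw [hYπ2, ← mul_assoc, hχπ, zero_mul]

end Pieces

end Cfsg.Agent.H873.Wr
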