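import Cfsg.Agent.H873.WrRG

/-!
Cutting `RG N Y` by an idempotent, and `SL_2` inside it.
-/

set_option autoImplicit false
set_option linter.unusedSectionVars false

namespace Cfsg.Agent.H873.Wr

open Matrix

variable {κ : Type} [Fintype κ] [DecidableEq κ] {F : Type*} [Field F]

/-! ### cutting -/

section Cut

variable {N Y π : Matrix κ κ F}

theorem cut_mul {x y π : Matrix κ κ F} (hπ : π * π = π) (hy : Commute y π) :
    (x * π + (1 - π)) * (y * π + (1 - π)) = x * y * π + (1 - π) := by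
  have h1 : x * π * (y * π) = x * y * π := by
    rw [mul_assoc x π, ← mul_assoc π y, ← hy.eq, mul_assoc y π π, hπ, mul_assoc x y]
  have h2 : x * π * (1 - π) = 0 := by rw [mul_sub, mul_one, mul_assoc, hπ, sub_self]
  have h3 : (1 - π) * (y * π) = 0 := by rw [hy.eq, ← mul_assoc, sub_mul, one_mul, hπ, sub_self, zero_mul]
  have h4 : (1 - π) * (1 - π) = 1 - π := by rw [mul_sub, mul_one, sub_mul, one_mul, hπ, sub_self, sub_zero]
  rw [add_mul, mul_add, mul_add, h1, h2, h3, h4, add_zero, zero_add]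

theorem cut_gen {X π : Matrix κ κ F} (c : F) : (1 + c • X) * π + (1 - π) = 1 + c • (X * π) := by
  rw [add_mul, one_mul, smul_mul_assoc]; abel

theorem inv_of_coe_mul {u v : GL κ F} {X : Matrix κ κ F} (h : (u : Matrix κ κ F) * X = 1) (hv : (v : Matrix κ κ F) = X) :
    v = u⁻¹ := by
  rw [eq_comm, inv_eq_iff_mul_eq_one]
  apply Units.ext
  rw [Units.val_mul, hv, h, Units.val_one]

theorem cut_RG (hπ : π * π = π) (hN : Commute N π) (hY : Commute Y π) {x : GL κ F} (hx : x ∈ RG N Y) :
    ∃ u ∈ RG (N * π) (Y * π), (u : Matrix κ κ F) = (x : Matrix κ κ F) * π + (1 - π) := by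
  induction hx using Subgroup.closure_induction with
  | mem g hg =>
    obtain ⟨c, hg | hg⟩ := hg
    · let u : GL κ F :=
        { val := (g : Matrix κ κ F) * π + (1 - π)
          inv := ((g⁻¹ : GL κ F) : Matrix κ κ F) * π + (1 - π)
          val_inv := by
            have hgc : Commute (g : Matrix κ κ F) π := by
              rw [hg]; exact (Commute.one_left _).add_left (hN.smul_left c)
            rw [cut_mul hπ hgc.units_inv_left, Units.mul_inv, one_mul]; abel
          inv_val := by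
            have hgc : Commute (g : Matrix κ κ F) π := by
              rw [hg]; exact (Commute.one_left _).add_left (hN.smul_left c)
            rw [cut_mul hπ hgc, Units.inv_mul, one_mul]; abel }
      refine ⟨u, Subgroup.subset_closure ⟨c, Or.inl ?_⟩, rfl⟩
      change (g : Matrix κ κ F) * π + (1 - π) = _
      rw [hg, cut_gen]
    · let u : GL κ F :=
        { val := (g : Matrix κ κ F) * π + (1 - π)
          inv := ((g⁻¹ : GL κ F) : Matrix κ κ F) * π + (1 - π)
          val_inv := by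
            have hgc : Commute (g : Matrix κ κ F) π := by
              rw [hg]; exact (Commute.one_left _).add_left (hY.smul_left c)
            rw [cut_mul hπ hgc.units_inv_left, Units.mul_inv, one_mul]; abel
          inv_val := by
            have hgc : Commute (g : Matrix κ κ F) π := by
              rw [hg]; exact (Commute.one_left _).add_left (hY.smul_left c)
            rw [cut_mul hπ hgc, Units.inv_mul, one_mul]; abel }
      refine ⟨u, Subgroup.subset_closure ⟨c, Or.inr ?_⟩, rfl⟩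
      change (g : Matrix κ κ F) * π + (1 - π) = _
      rw [hg, cut_gen]
  | one => exact ⟨1, Subgroup.one_mem _, by rw [Units.val_one, one_mul]; abel⟩
  | mul x y hx' hy' hx hy =>
    obtain ⟨u, hu, he⟩ := hx
    obtain ⟨v, hv, he'⟩ := hy
    refine ⟨u * v, Subgroup.mul_mem _ hu hv, ?_⟩
    rw [Units.val_mul, he, he', Units.val_mul, cut_mul hπ (RG_commute hN hY hy')]
  | inv x hx' hx =>
    obtain ⟨u, hu, he⟩ := hx
    refine ⟨u⁻¹, Subgroup.inv_mem _ hu, ?_⟩
    have h1 : (u : Matrix κ κ F) * (((x⁻¹ : GL κ F) : Matrix κ κ F) * π + (1 - π)) = 1 := by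
      rw [he, cut_mul hπ (RG_commute hN hY hx').units_inv_left, Units.mul_inv, one_mul]; abel
    calc ((u⁻¹ : GL κ F) : Matrix κ κ F)
        = ((u⁻¹ : GL κ F) : Matrix κ κ F) * ((u : Matrix κ κ F) * (((x⁻¹ : GL κ F) : Matrix κ κ F) * π + (1 - π))) := by
          rw [h1, mul_one]
      _ = _ := by rw [← mul_assoc, Units.inv_mul, one_mul]

theorem lift_RG (hNN : N * N = 0) (hYY : Y * Y = 0) (hπ : π * π = π) (hN : Commute N π) (hY : Commute Y π)
    {u : GL κ F} (hu : u ∈ RG (N * π) (Y * π)) :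
    ∃ x ∈ RG N Y, (u : Matrix κ κ F) = (x : Matrix κ κ F) * π + (1 - π) := by
  induction hu using Subgroup.closure_induction with
  | mem g hg =>
    obtain ⟨c, hg | hg⟩ := hg
    · exact ⟨_, un_mem_RG_left hNN c, by rw [coe_un, cut_gen, hg]⟩
    · exact ⟨_, un_mem_RG_right hYY c, by rw [coe_un, cut_gen, hg]⟩
  | one => exact ⟨1, Subgroup.one_mem _, by rw [Units.val_one, one_mul]; abel⟩
  | mul x y hx' hy' hx hy =>
    obtain ⟨u, hu, he⟩ := hx
    obtain ⟨v, hv, he'⟩ := hy
    refine ⟨u * v, Subgroup.mul_mem _ hu hv, ?_⟩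
    rw [Units.val_mul, he, he', Units.val_mul, cut_mul hπ (RG_commute hN hY hv)]
  | inv x hx' hx =>
    obtain ⟨u, hu, he⟩ := hx
    refine ⟨u⁻¹, Subgroup.inv_mem _ hu, ?_⟩
    have h1 : (x : Matrix κ κ F) * (((u⁻¹ : GL κ F) : Matrix κ κ F) * π + (1 - π)) = 1 := by
      rw [he, cut_mul hπ (RG_commute hN hY hu).units_inv_left, Units.mul_inv, one_mul]; abel
    calc ((x⁻¹ : GL κ F) : Matrix κ κ F)
        = ((x⁻¹ : GL κ F) : Matrix κ κ F) * ((x : Matrix κ κ F) * (((u⁻¹ : GL κ F) : Matrix κ κ F) * π + (1 - π))) := by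
          rw [h1, mul_one]
      _ = _ := by rw [← mul_assoc, Units.inv_mul, one_mul]

end Cut

/-! ### `SL_2` -/

/-- an `sl_2`-pair in the corner of the idempotent `π` -/
structure Sl2 (n y π : Matrix κ κ F) : Prop where
  nn : n * n = 0
  yy : y * y = 0
  nyn : n * y * n = n
  yny : y * n * y = y
  s : n * y + y * n = π

section Sl2

variable {n y π : Matrix κ κ F}

/-- the embedding of `M_2(F)` in the corner -/
def io (n y : Matrix κ κ F) (A : Matrix (Fin 2) (Fin 2) F) : Matrix κ κ F :=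
  A 0 0 • (n * y) + A 0 1 • n + A 1 0 • y + A 1 1 • (y * n)

theorem io_mul (h : Sl2 n y π) (A B : Matrix (Fin 2) (Fin 2) F) : io n y A * io n y B = io n y (A * B) := by
  have e1 : n * y * (n * y) = n * y := by rw [← mul_assoc, h.nyn]
  have e2 : n * y * n = n := h.nyn
  have e3 : n * y * y = 0 := by rw [mul_assoc, h.yy, mul_zero]
  have e4 : n * y * (y * n) = 0 := by rw [← mul_assoc, e3, zero_mul]
  have e5 : n * (n * y) = 0 := by rw [← mul_assoc, h.nn, zero_mul]
  have e6 : n * (y * n) = n := by rw [← mul_assoc, h.nyn]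
  have e7 : y * (n * y) = y := by rw [← mul_assoc, h.yny]
  have e8 : y * (y * n) = 0 := by rw [← mul_assoc, h.yy, zero_mul]
  have e9 : y * n * (n * y) = 0 := by rw [mul_assoc, e5, mul_zero]
  have e10 : y * n * n = 0 := by rw [mul_assoc, h.nn, mul_zero]
  have e11 : y * n * y = y := h.yny
  have e12 : y * n * (y * n) = y * n := by rw [← mul_assoc, h.yny]
  simp only [io, add_mul, mul_add, smul_mul_smul_comm, e1, e2, e3, e4, e5, e6, e7, e8, e9, e10, e11, e12,
    h.nn, h.yy, smul_zero, add_zero, zero_add, Matrix.mul_apply, Fin.sum_univ_two]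
  module

theorem io_one (h : Sl2 n y π) : io n y 1 = π := by
  simp [io, h.s]

theorem pi_io (h : Sl2 n y π) (A : Matrix (Fin 2) (Fin 2) F) : π * io n y A = io n y A := by
  rw [← io_one h, io_mul h, one_mul]

theorem io_pi (h : Sl2 n y π) (A : Matrix (Fin 2) (Fin 2) F) : io n y A * π = io n y A := by
  rw [← io_one h, io_mul h, mul_one]

theorem pi_pi (h : Sl2 n y π) : π * π = π := by
  rw [← io_one h, io_mul h, mul_one]

theorem io_e12 (n y : Matrix κ κ F) : io n y !![0, 1; 0, 0] = n := by simp [io]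

theorem io_e21 (n y : Matrix κ κ F) : io n y !![0, 0; 1, 0] = y := by simp [io]

theorem io_smul (n y : Matrix κ κ F) (c : F) (A : Matrix (Fin 2) (Fin 2) F) : io n y (c • A) = c • io n y A := by
  simp only [io, Matrix.smul_apply, smul_eq_mul]
  module

theorem io_add (n y : Matrix κ κ F) (A B : Matrix (Fin 2) (Fin 2) F) : io n y (A + B) = io n y A + io n y B := by
  simp only [io, Matrix.add_apply]
  module

/-- the monoid homomorphism `A ↦ io A + (1 - π)` -/
def J (h : Sl2 n y π) : Matrix (Fin 2) (Fin 2) F →* Matrix κ κ F where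
  toFun A := io n y A + (1 - π)
  map_one' := by rw [io_one h]; abel
  map_mul' A B := by
    have h1 : io n y A * (1 - π) = 0 := by rw [mul_sub, mul_one, io_pi h, sub_self]
    have h2 : (1 - π) * io n y B = 0 := by rw [sub_mul, one_mul, pi_io h, sub_self]
    have h3 : (1 - π) * (1 - π) = 1 - π := by rw [mul_sub, mul_one, sub_mul, one_mul, pi_pi h, sub_self, sub_zero]
    rw [add_mul, mul_add, mul_add, io_mul h, h1, h2, h3, add_zero, zero_add]

theorem J_apply (h : Sl2 n y π) (A : Matrix (Fin 2) (Fin 2) F) : J h A = io n y A + (1 - π) := rfl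

/-- on units -/
def JH (h : Sl2 n y π) : GL (Fin 2) F →* GL κ F := Units.map (J h)

theorem coe_JH (h : Sl2 n y π) (A : GL (Fin 2) F) :
    (JH h A : Matrix κ κ F) = io n y (A : Matrix (Fin 2) (Fin 2) F) + (1 - π) := rfl

theorem JH_conj (h : Sl2 n y π) {z : Matrix κ κ F} (hzn : Commute z n) (hzy : Commute z y)
    (A : GL (Fin 2) F) (B : Matrix (Fin 2) (Fin 2) F) :
    (JH h A : Matrix κ κ F) * (z * io n y B) * ((JH h A)⁻¹ : GL κ F) =
      z * io n y ((A : Matrix (Fin 2) (Fin 2) F) * B * ((A⁻¹ : GL (Fin 2) F) : Matrix (Fin 2) (Fin 2) F)) := by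
  have h1 : ((JH h A)⁻¹ : GL κ F) = JH h A⁻¹ := (map_inv _ _).symm
  have hzio : ∀ C, Commute z (io n y C) := by
    intro C
    simp only [io]
    exact ((((hzn.mul_right hzy).smul_right _).add_right (hzn.smul_right _)).add_right
      (hzy.smul_right _)).add_right ((hzy.mul_right hzn).smul_right _)
  have h2 : ∀ C D, (io n y C + (1 - π)) * io n y D = io n y (C * D) := by
    intro C D
    rw [add_mul, io_mul h, sub_mul, one_mul, pi_io h, sub_self, add_zero]
  have h3 : ∀ C D, io n y C * (io n y D + (1 - π)) = io n y (C * D) := by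
    intro C D
    rw [mul_add, io_mul h, mul_sub, mul_one, io_pi h, sub_self, add_zero]
  have hzJ : Commute z (JH h A : Matrix κ κ F) := by
    rw [coe_JH, ← io_one h]
    exact (hzio _).add_right ((Commute.one_right _).sub_right (hzio _))
  rw [h1, ← mul_assoc, ← hzJ.eq, mul_assoc, mul_assoc, coe_JH, coe_JH, ← mul_assoc (_ + _), h2, h3]

/-- upper unitriangular -/
def up (μ : F) : GL (Fin 2) F where
  val := !![1, μ; 0, 1]
  inv := !![1, -μ; 0, 1]
  val_inv := by ext i j; fin_cases i <;> fin_cases j <;> simp [Matrix.mul_apply, Fin.sum_univ_two]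
  inv_val := by ext i j; fin_cases i <;> fin_cases j <;> simp [Matrix.mul_apply, Fin.sum_univ_two]

/-- lower unitriangular -/
def lo (μ : F) : GL (Fin 2) F where
  val := !![1, 0; μ, 1]
  inv := !![1, 0; -μ, 1]
  val_inv := by ext i j; fin_cases i <;> fin_cases j <;> simp [Matrix.mul_apply, Fin.sum_univ_two]
  inv_val := by ext i j; fin_cases i <;> fin_cases j <;> simp [Matrix.mul_apply, Fin.sum_univ_two]

/-- diagonal -/
def di (a b : F) (ha : a ≠ 0) (hb : b ≠ 0) : GL (Fin 2) F where
  val := !![a, 0; 0, b]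
  inv := !![a⁻¹, 0; 0, b⁻¹]
  val_inv := by ext i j; fin_cases i <;> fin_cases j <;> simp [Matrix.mul_apply, Fin.sum_univ_two, ha, hb]
  inv_val := by ext i j; fin_cases i <;> fin_cases j <;> simp [Matrix.mul_apply, Fin.sum_univ_two, ha, hb]

theorem coe_JH_lo (h : Sl2 n y π) (b : F) : (JH h (lo b) : Matrix κ κ F) = 1 + b • y := by
  rw [coe_JH]
  simp only [lo, io, Matrix.of_apply, Matrix.cons_val', Matrix.cons_val_zero, Matrix.cons_val_one,
    Matrix.cons_val_fin_one, one_smul, zero_smul, add_zero]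
  rw [← h.s]; abel

theorem coe_JH_up (h : Sl2 n y π) (b : F) : (JH h (up b) : Matrix κ κ F) = 1 + b • n := by
  rw [coe_JH]
  simp only [up, io, Matrix.of_apply, Matrix.cons_val', Matrix.cons_val_zero, Matrix.cons_val_one,
    Matrix.cons_val_fin_one, one_smul, zero_smul, add_zero]
  rw [← h.s]; abel

/-- `g` normalises `D`. -/
def Nz (D : Subgroup (GL κ F)) (g : GL κ F) : Prop := ∀ u ∈ D, g * u * g⁻¹ ∈ D

theorem Nz.mul {D : Subgroup (GL κ F)} {g h : GL κ F} (hg : Nz D g) (hh : Nz D h) : Nz D (g * h) := by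
  intro u hu
  have := hg _ (hh u hu)
  have e : g * h * u * (g * h)⁻¹ = g * (h * u * h⁻¹) * g⁻¹ := by group
  rw [e]; exact this

theorem nz_of_mem {D : Subgroup (GL κ F)} {g : GL κ F} (hg : g ∈ D) : Nz D g :=
  fun _ hu => D.mul_mem (D.mul_mem hg hu) (D.inv_mem hg)

theorem nz_RG {N Y : Matrix κ κ F} (hNN : N * N = 0) (hYY : Y * Y = 0) {g : GL κ F} {a b : F}
    (hN : (g : Matrix κ κ F) * N * ((g⁻¹ : GL κ F) : Matrix κ κ F) = a • N)
    (hY : (g : Matrix κ κ F) * Y * ((g⁻¹ : GL κ F) : Matrix κ κ F) = b • Y) : Nz (RG N Y) g := by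
  intro u hu
  induction hu using Subgroup.closure_induction with
  | mem u hu =>
    obtain ⟨c, hu | hu⟩ := hu
    · have : g * u * g⁻¹ = un ((c * a) • N) (smul_sq hNN _) := by
        apply Units.ext
        rw [Units.val_mul, Units.val_mul, hu, coe_un, mul_add, add_mul, mul_one, Units.mul_inv,
          mul_smul_comm, smul_mul_assoc, hN, smul_smul]
      rw [this]; exact un_mem_RG_left hNN _
    · have : g * u * g⁻¹ = un ((c * b) • Y) (smul_sq hYY _) := by
        apply Units.ext
        rw [Units.val_mul, Units.val_mul, hu, coe_un, mul_add, add_mul, mul_one, Units.mul_inv,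
          mul_smul_comm, smul_mul_assoc, hY, smul_smul]
      rw [this]; exact un_mem_RG_right hYY _
  | one => rw [mul_one, mul_inv_cancel]; exact Subgroup.one_mem _
  | mul x y _ _ hx hy =>
    have e : g * (x * y) * g⁻¹ = (g * x * g⁻¹) * (g * y * g⁻¹) := by group
    rw [e]; exact Subgroup.mul_mem _ hx hy
  | inv x _ hx =>
    have e : g * x⁻¹ * g⁻¹ = (g * x * g⁻¹)⁻¹ := by group
    rw [e]; exact Subgroup.inv_mem _ hx

/-- The key step: if `RG (θ n) (θ n^h) = RG (θ n) y` for all `h = 1 + b y`, then `RG (θ n) y` contains the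
torus of `SL_2(F)`. -/
theorem torus_mem (h : Sl2 n y π) {θ : Matrix κ κ F} (hθn : Commute θ n) (hθy : Commute θ y)
    (hF : ∃ c : F, c ≠ 0 ∧ c ≠ 1)
    (hmin : ∀ b : F, b ≠ 0 → RG (θ * n) (θ * io n y !![-b, 1; -b ^ 2, b]) = RG (θ * n) y)
    (c : F) (hc : c ≠ 0) :
    JH h (di c c⁻¹ hc (inv_ne_zero hc)) ∈ RG (θ * n) y := by
  obtain ⟨d, hd0, hd1⟩ := hF
  set D := RG (θ * n) y with hD
  have hnn : θ * n * (θ * n) = 0 := by
    rw [mul_assoc, ← mul_assoc n θ n, ← hθn.eq, mul_assoc θ n n, h.nn, mul_zero, mul_zero]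
  -- diagonal elements normalise
  have hT : ∀ d : F, ∀ hd : d ≠ 0, Nz D (JH h (di 1 d one_ne_zero hd)) := by
    intro d hd
    apply nz_RG (a := d⁻¹) (b := d) hnn h.yy
    · have e := JH_conj h hθn hθy (di 1 d one_ne_zero hd) !![0, 1; 0, 0]
      rw [io_e12] at e
      rw [e]
      have e2 : ((di 1 d one_ne_zero hd : GL (Fin 2) F) : Matrix (Fin 2) (Fin 2) F) * !![0, 1; 0, 0] *
          (((di 1 d one_ne_zero hd)⁻¹ : GL (Fin 2) F) : Matrix (Fin 2) (Fin 2) F) = d⁻¹ • !![0, 1; 0, 0] := by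
        change !![(1 : F), 0; 0, d] * !![0, 1; 0, 0] * !![(1 : F)⁻¹, 0; 0, d⁻¹] = _
        ext i j; fin_cases i <;> fin_cases j <;> simp
      rw [e2, io_smul, io_e12, mul_smul_comm]
    · have e := JH_conj h (Commute.one_left n) (Commute.one_left y) (di 1 d one_ne_zero hd) !![0, 0; 1, 0]
      rw [io_e21, one_mul, one_mul] at e
      rw [e]
      have e2 : ((di 1 d one_ne_zero hd : GL (Fin 2) F) : Matrix (Fin 2) (Fin 2) F) * !![0, 0; 1, 0] *
          (((di 1 d one_ne_zero hd)⁻¹ : GL (Fin 2) F) : Matrix (Fin 2) (Fin 2) F) = d • !![0, 0; 1, 0] := by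
        change !![(1 : F), 0; 0, d] * !![0, 0; 1, 0] * !![(1 : F)⁻¹, 0; 0, d⁻¹] = _
        ext i j; fin_cases i <;> fin_cases j <;> simp
      rw [e2, io_smul, io_e21]
  -- unipotent elements normalise
  have hE : ∀ μ : F, Nz D (JH h (up μ)) := by
    intro μ
    by_cases hμ : μ = 0
    · subst hμ
      have : up (0 : F) = 1 := by
        apply Units.ext
        change !![(1 : F), 0; 0, 1] = 1
        ext i j; fin_cases i <;> fin_cases j <;> simp
      rw [this, map_one]
      exact nz_of_mem (Subgroup.one_mem _)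
    obtain ⟨b, hb, hbe⟩ : ∃ b : F, b ≠ 0 ∧ b * (d * μ) = d - 1 :=
      ⟨(d - 1) * (d * μ)⁻¹, mul_ne_zero (sub_ne_zero.2 hd1) (inv_ne_zero (mul_ne_zero hd0 hμ)), by
        rw [mul_assoc, inv_mul_cancel₀ (mul_ne_zero hd0 hμ), mul_one]⟩
    have hED : Nz D (JH h (up μ * di 1 d one_ne_zero hd0)) := by
      rw [← hmin _ hb]
      have hBB : (θ * io n y !![-b, 1; -b ^ 2, b]) *
          (θ * io n y !![-b, 1; -b ^ 2, b]) = 0 := by
        have hzio : ∀ C, Commute θ (io n y C) := by
          intro C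
          simp only [io]
          exact ((((hθn.mul_right hθy).smul_right _).add_right (hθn.smul_right _)).add_right
            (hθy.smul_right _)).add_right ((hθy.mul_right hθn).smul_right _)
        rw [mul_assoc, ← mul_assoc (io n y _) θ, ← (hzio _).eq, mul_assoc θ (io n y _), io_mul h]
        have : !![-b, 1; -b ^ 2, b] *
            !![-b, 1; -b ^ 2, b] = 0 := by
          ext i j; fin_cases i <;> fin_cases j <;> simp <;> ring
        rw [this]
        simp [io]
      apply nz_RG (a := d⁻¹) (b := d) hnn hBB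
      · have e := JH_conj h hθn hθy (up μ * di 1 d one_ne_zero hd0) !![0, 1; 0, 0]
        rw [io_e12] at e
        rw [e]
        have e2 : ((up μ * di 1 d one_ne_zero hd0 : GL (Fin 2) F) : Matrix (Fin 2) (Fin 2) F) * !![0, 1; 0, 0] *
            (((up μ * di 1 d one_ne_zero hd0)⁻¹ : GL (Fin 2) F) : Matrix (Fin 2) (Fin 2) F) = d⁻¹ • !![0, 1; 0, 0] := by
          rw [_root_.mul_inv_rev, Units.val_mul, Units.val_mul]
          change (!![(1 : F), μ; 0, 1] * !![(1 : F), 0; 0, d]) * !![0, 1; 0, 0] * (!![(1 : F)⁻¹, 0; 0, d⁻¹] * !![(1 : F), -μ; 0, 1]) = _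
          ext i j; fin_cases i <;> fin_cases j <;> simp
        rw [e2, io_smul, io_e12, mul_smul_comm]
      · have e := JH_conj h hθn hθy (up μ * di 1 d one_ne_zero hd0)
          !![-b, 1; -b ^ 2, b]
        rw [e]
        have e2 : ((up μ * di 1 d one_ne_zero hd0 : GL (Fin 2) F) : Matrix (Fin 2) (Fin 2) F) *
            !![-b, 1; -b ^ 2, b] *
            (((up μ * di 1 d one_ne_zero hd0)⁻¹ : GL (Fin 2) F) : Matrix (Fin 2) (Fin 2) F) =
            d • !![-b, 1; -b ^ 2, b] := by
          rw [_root_.mul_inv_rev, Units.val_mul, Units.val_mul]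
          change (!![(1 : F), μ; 0, 1] * !![(1 : F), 0; 0, d]) *
            !![-b, 1; -b ^ 2, b] *
              (!![(1 : F)⁻¹, 0; 0, d⁻¹] * !![(1 : F), -μ; 0, 1]) = _
          have e3 : (!![(1 : F), μ; 0, 1] * !![(1 : F), 0; 0, d]) * !![-b, 1; -b ^ 2, b] *
              (!![(1 : F)⁻¹, 0; 0, d⁻¹] * !![(1 : F), -μ; 0, 1]) =
              !![-b - μ * d * b ^ 2, (b + μ * d * b ^ 2) * μ + (1 + μ * d * b) * d⁻¹;
                -d * b ^ 2, d * b ^ 2 * μ + d * b * d⁻¹] := by
            ext i j; fin_cases i <;> fin_cases j <;> simp <;> ring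
          rw [e3]
          ext i j
          fin_cases i <;> fin_cases j
          · simp; linear_combination -b * hbe
          · simp; field_simp; linear_combination (1 + d * μ * b + d) * hbe
          · simp
          · simp; field_simp; linear_combination hbe
        rw [e2, io_smul, mul_smul_comm]
    have hTi := hT d⁻¹ (inv_ne_zero hd0)
    have e : JH h (up μ) = JH h (up μ * di 1 d one_ne_zero hd0) * JH h (di 1 d⁻¹ one_ne_zero (inv_ne_zero hd0)) := by
      rw [← map_mul]
      congr 1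
      apply Units.ext
      rw [Units.val_mul, Units.val_mul]
      change !![(1 : F), μ; 0, 1] = (!![(1 : F), μ; 0, 1] * !![(1 : F), 0; 0, d]) * !![(1 : F), 0; 0, d⁻¹]
      ext i j; fin_cases i <;> fin_cases j <;> simp [hd0]
    rw [e]
    exact hED.mul hTi
  have hlo : ∀ b : F, JH h (lo b) ∈ D := fun b => Subgroup.subset_closure ⟨b, Or.inr (coe_JH_lo h b)⟩
  have hup : ∀ b : F, JH h (up b) ∈ D := by
    intro b
    have hw : Nz D (JH h (up 1) * JH h (lo (-1)) * JH h (up 1)) :=
      ((hE 1).mul (nz_of_mem (hlo (-1)))).mul (hE 1)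
    have := hw _ (hlo (-b))
    have e : JH h (up 1) * JH h (lo (-1)) * JH h (up 1) * JH h (lo (-b)) *
        (JH h (up 1) * JH h (lo (-1)) * JH h (up 1))⁻¹ = JH h (up b) := by
      rw [← map_mul, ← map_mul, ← map_inv, ← map_mul, ← map_mul]
      congr 1
      rw [mul_inv_eq_iff_eq_mul]
      apply Units.ext
      simp only [Units.val_mul]
      change !![(1 : F), 1; 0, 1] * !![(1 : F), 0; -1, 1] * !![(1 : F), 1; 0, 1] * !![(1 : F), 0; -b, 1] =
        !![(1 : F), b; 0, 1] * (!![(1 : F), 1; 0, 1] * !![(1 : F), 0; -1, 1] * !![(1 : F), 1; 0, 1])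
      ext i j; fin_cases i <;> fin_cases j <;> simp
    rw [e] at this
    exact this
  have e : di c c⁻¹ hc (inv_ne_zero hc) = up c * lo (-c⁻¹) * up c * (up (-1) * lo 1 * up (-1)) := by
    apply Units.ext
    simp only [Units.val_mul]
    change !![c, 0; 0, c⁻¹] = !![(1 : F), c; 0, 1] * !![(1 : F), 0; -c⁻¹, 1] * !![(1 : F), c; 0, 1] *
      (!![(1 : F), -1; 0, 1] * !![(1 : F), 0; 1, 1] * !![(1 : F), -1; 0, 1])
    ext i j; fin_cases i <;> fin_cases j <;> simp [hc]
  rw [e]
  simp only [map_mul]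
  exact D.mul_mem (D.mul_mem (D.mul_mem (hup _) (hlo _)) (hup _)) (D.mul_mem (D.mul_mem (hup _) (hlo _)) (hup _))

end Sl2

end Cfsg.Agent.H873.Wr
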