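import Cfsg.Agent.H873.WrPair2
import Cfsg.Agent.H919.AschWreath

/-!
The slots of a tensor power: every proper overgroup `M < SL` of the determinant one part of the tensor wreath
subgroup is *good* at every slot (`GE M (slotEmb i)`).
-/

set_option autoImplicit false
set_option linter.unusedSectionVars false
set_option linter.unusedSimpArgs false

namespace Cfsg.Agent.H873.Wr

open Matrix Cfsg.Agent.H919 Cfsg.Geo

variable {F : Type*} [Field F] {t m : ℕ}

/-- the slot as a homomorphism of general linear groups -/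
def slotGL (i : Fin t) : GL (Fin m) F →* GL (Fin t → Fin m) F :=
  Units.map (slotEmb (F := F) (m := m) i).toRingHom.toMonoidHom

theorem slotGL_val (i : Fin t) (a : GL (Fin m) F) :
    (slotGL i a : Matrix (Fin t → Fin m) (Fin t → Fin m) F) = slotEmb i (a : Matrix (Fin m) (Fin m) F) := rfl

theorem slotGL_mem (i : Fin t) (a : GL (Fin m) F) : slotGL i a ∈ tensorWreathStandard m t F := by
  have : slotGL i a = pureGL (Function.update (fun _ => 1) i a) := by
    apply Units.ext
    rw [slotGL_val, pureGL_val, slotEmb_apply, slotMat]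
    congr 1
    funext j
    by_cases h : j = i
    · subst h; simp
    · simp [Function.update_of_ne h]
  rw [this]
  exact pureGL_mem _

/-- the determinant one part of the standard tensor wreath subgroup -/
def HS (m t : ℕ) (F : Type*) [Field F] : Subgroup (GL (Fin t → Fin m) F) :=
  tensorWreathStandard m t F ⊓ specialLinear (Fin t → Fin m) F

theorem tv_commutator {a α b β : Fin m → F} (h : α ⬝ᵥ a = 0) (h1 : α ⬝ᵥ b = 0) (h2 : β ⬝ᵥ a = 0)
    (h3 : β ⬝ᵥ b = 1) : tv a β h2 * tv b α h1 * (tv a β h2)⁻¹ * (tv b α h1)⁻¹ = tv a α h := by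
  apply Units.ext
  change (1 + vecMulVec a β) * (1 + vecMulVec b α) * (1 - vecMulVec a β) * (1 - vecMulVec b α) = 1 + vecMulVec a α
  have e1 : vecMulVec a β * vecMulVec b α = vecMulVec a α := by
    rw [vecMulVec_mul_vecMulVec, h3, one_smul]
  have e2 : vecMulVec b α * vecMulVec a β = 0 := by
    rw [vecMulVec_mul_vecMulVec, h, zero_smul, vecMulVec_zero]
  have e3 : vecMulVec a β * vecMulVec a β = 0 := by
    rw [vecMulVec_mul_vecMulVec, h2, zero_smul, vecMulVec_zero]
  have e4 : vecMulVec b α * vecMulVec b α = 0 := by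
    rw [vecMulVec_mul_vecMulVec, h1, zero_smul, vecMulVec_zero]
  have e5 : vecMulVec a α * vecMulVec a β = 0 := by
    rw [vecMulVec_mul_vecMulVec, h, zero_smul, vecMulVec_zero]
  have e6 : vecMulVec a α * vecMulVec b α = 0 := by
    rw [vecMulVec_mul_vecMulVec, h1, zero_smul, vecMulVec_zero]
  simp only [add_mul, mul_sub, mul_add, sub_mul, one_mul, mul_one, e1, e2, e3, e4, e5, e6, zero_mul]
  abel

theorem root_mem_HS (hm : 3 ≤ m) (i : Fin t) {a α : Fin m → F} (h : α ⬝ᵥ a = 0) :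
    InM (HS m t F) (rk (slotEmb i) a α) := by
  obtain ⟨b, β, h1, h2, h3⟩ := exists_bridge a α hm
  refine ⟨slotGL i (tv a α h), ⟨slotGL_mem _ _, ?_⟩, ?_⟩
  · rw [← tv_commutator h h1 h2 h3]
    change _ ∈ MonoidHom.ker _
    simp only [MonoidHom.mem_ker, map_mul, map_inv]
    rw [mul_comm (GeneralLinearGroup.det (slotGL i (tv a β h2))), mul_inv_cancel_right, mul_inv_cancel]
  · rw [slotGL_val, coe_tv, map_add, map_one]
    rfl

theorem sl_slot {M : Subgroup (GL (Fin t → Fin m) F)} (hHM : HS m t F ≤ M) (hm : 3 ≤ m) (i : Fin t)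
    (A : Matrix (Fin m) (Fin m) F) (hA : A.det = 1) :
    ∃ g ∈ M, (g : Matrix (Fin t → Fin m) (Fin t → Fin m) F) = slotEmb i A := by
  have : Nontrivial (Fin m) := Fin.nontrivial_iff_two_le.2 (by omega)
  have h1 : specialLinear (Fin m) F ≤ M.comap (slotGL i) := by
    apply specialLinear_le_of_hasTv
    intro k l hkl c
    have h0 : (Pi.single l 1 : Fin m → F) ⬝ᵥ (c • Pi.single k 1) = 0 := by
      rw [dotProduct_smul, single_dotProduct, one_mul, Pi.single_eq_of_ne hkl.symm, smul_zero]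
    rw [hasTv_iff]
    refine ⟨h0, ?_⟩
    rw [Subgroup.mem_comap]
    obtain ⟨g, hg, he⟩ := root_mem_HS (t := t) hm i h0
    have : slotGL i (tv _ _ h0) = g := by
      apply Units.ext
      rw [he, slotGL_val, coe_tv, map_add, map_one]
      rfl
    rw [this]
    exact hHM hg
  have hu : IsUnit A := by rw [isUnit_iff_isUnit_det, hA]; exact isUnit_one
  obtain ⟨u, rfl⟩ := hu
  have h2 : u ∈ M.comap (slotGL i) := h1 ((mem_specialLinear_iff u).2 hA)
  exact ⟨slotGL i u, h2, rfl⟩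

/-! ### Permutations of the factors -/

theorem facPerm_mul (σ τ : Equiv.Perm (Fin t)) : facPerm F m (σ * τ) = facPerm F m σ * facPerm F m τ := by
  apply Units.ext
  ext x z
  rw [Units.val_mul, mul_apply, Finset.sum_eq_single (x ∘ σ), facPerm_val, facPerm_val, facPerm_val, if_pos rfl,
    one_mul]
  · rfl
  · intro y _ hy
    rw [facPerm_val, if_neg hy, zero_mul]
  · intro h; exact absurd (Finset.mem_univ _) h

theorem facPerm_one : facPerm F m (1 : Equiv.Perm (Fin t)) = 1 := by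
  apply Units.ext
  ext x z
  rw [facPerm_val, Units.val_one, one_apply]
  simp only [Equiv.Perm.coe_one, Function.comp_id, eq_comm]

theorem det_swap_sq (a b : Fin t) :
    GeneralLinearGroup.det (facPerm F m (Equiv.swap a b)) * GeneralLinearGroup.det (facPerm F m (Equiv.swap a b)) = 1 := by
  rw [← map_mul, ← facPerm_mul, Equiv.swap_mul_self, facPerm_one, map_one]

/-- the three-cycle `a → b → c → a` -/
def cyc (a b c : Fin t) : Equiv.Perm (Fin t) :=
  (Equiv.swap a b * Equiv.swap a c) * (Equiv.swap a b * Equiv.swap a c)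

theorem cyc_mem_HS (a b c : Fin t) : facPerm F m (cyc a b c) ∈ HS m t F := by
  refine ⟨facPerm_mem _, ?_⟩
  change _ ∈ MonoidHom.ker _
  rw [MonoidHom.mem_ker, cyc, facPerm_mul, facPerm_mul, map_mul, map_mul]
  have h1 := det_swap_sq (F := F) (m := m) a b
  have h2 := det_swap_sq (F := F) (m := m) a c
  rw [mul_mul_mul_comm, h1, h2, one_mul]

theorem cyc_apply_a {a b c : Fin t} (hac : a ≠ c) (hbc : b ≠ c) : cyc a b c a = b := by
  simp only [cyc, Equiv.Perm.mul_apply, Equiv.swap_apply_left]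
  rw [Equiv.swap_apply_of_ne_of_ne hac.symm hbc.symm, Equiv.swap_apply_right, Equiv.swap_apply_left]

theorem cyc_apply_b {a b c : Fin t} (hab : a ≠ b) (hac : a ≠ c) (hbc : b ≠ c) : cyc a b c b = c := by
  simp only [cyc, Equiv.Perm.mul_apply]
  rw [Equiv.swap_apply_of_ne_of_ne hab.symm hbc, Equiv.swap_apply_right, Equiv.swap_apply_left,
    Equiv.swap_apply_of_ne_of_ne hac.symm hbc.symm]

/-! ### Products of rank one matrices over a set of slots -/

/-- `⊗_{j ∈ J} u_j φ_jᵀ` -/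
def XJ (J : Finset (Fin t)) (u φ : Fin t → Fin m → F) : Matrix (Fin t → Fin m) (Fin t → Fin m) F :=
  pureMat (fun j => if j ∈ J then vecMulVec (u j) (φ j) else 1)

theorem pureMat_zero {x : Fin t → Matrix (Fin m) (Fin m) F} (i : Fin t) (h : x i = 0) : pureMat x = 0 := by
  ext a b
  rw [pureMat_apply, Matrix.zero_apply]
  exact Finset.prod_eq_zero (Finset.mem_univ i) (by rw [h, Matrix.zero_apply])

theorem XJ_insert {J : Finset (Fin t)} {j : Fin t} (hj : j ∉ J) (u φ : Fin t → Fin m → F) :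
    XJ (insert j J) u φ = rk (slotEmb j) (u j) (φ j) * XJ J u φ := by
  rw [rk, slotEmb_apply, slotMat, XJ, XJ, pureMat_mul]
  congr 1
  funext k
  by_cases h : k = j
  · subst h; simp [hj]
  · simp [Function.update_of_ne h, h]

theorem cen_XJ {J : Finset (Fin t)} {j : Fin t} (hj : j ∉ J) (u φ : Fin t → Fin m → F) :
    Cen (slotEmb j) (XJ J u φ) := by
  intro A
  unfold Commute SemiconjBy
  rw [slotEmb_apply, slotMat, XJ, pureMat_mul, pureMat_mul]
  congr 1
  funext k
  by_cases h : k = j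
  · subst h; simp [hj]
  · simp [Function.update_of_ne h]

theorem XJ_commute {J : Finset (Fin t)} {r : Matrix (Fin t → Fin m) (Fin t → Fin m) F}
    (hr : ∀ j ∈ J, Cen (slotEmb j) r) (u φ : Fin t → Fin m → F) : Commute (XJ J u φ) r := by
  rw [XJ, pureMat_eq_prod]
  apply Commute.list_prod_left
  intro y hy
  rw [List.mem_ofFn] at hy
  obtain ⟨i, rfl⟩ := hy
  by_cases h : i ∈ J
  · simp only [h, if_true]
    exact hr i h _
  · simp only [h, if_false]
    rw [slotMat_one]
    exact Commute.one_left _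

theorem XJ_sq {J : Finset (Fin t)} {j : Fin t} (hj : j ∈ J) {u φ : Fin t → Fin m → F}
    (h : φ j ⬝ᵥ u j = 0) : XJ J u φ * XJ J u φ = 0 := by
  rw [XJ, pureMat_mul]
  apply pureMat_zero j
  simp only [hj, if_true]
  rw [vecMulVec_mul_vecMulVec, h, zero_smul, vecMulVec_zero]

theorem XJ_smul {J : Finset (Fin t)} {j : Fin t} (hj : j ∈ J) (u φ : Fin t → Fin m → F) (c : F) :
    XJ J (Function.update u j (c • u j)) φ = c • XJ J u φ := by
  ext a b
  rw [Matrix.smul_apply, XJ, XJ, pureMat_apply, pureMat_apply, smul_eq_mul,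
    ← Finset.mul_prod_erase _ _ (Finset.mem_univ j), ← Finset.mul_prod_erase _ _ (Finset.mem_univ j), ← mul_assoc]
  congr 1
  · simp only [hj, if_true, Function.update_self, vecMulVec_apply, Pi.smul_apply, smul_eq_mul, mul_assoc]
  · refine Finset.prod_congr rfl fun k hk => ?_
    rw [Function.update_of_ne (Finset.ne_of_mem_erase hk)]

/-! ### Spreading -/

section Spread

variable {κ : Type} [Fintype κ] [DecidableEq κ] {M : Subgroup (GL κ F)}
  {ρ : Matrix (Fin m) (Fin m) F →ₐ[F] Matrix κ κ F}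

theorem spread_left (hroot : ∀ c γ : Fin m → F, γ ⬝ᵥ c = 0 → InM M (rk ρ c γ)) {r : Matrix κ κ F} (hr : Cen ρ r)
    {b β c γ : Fin m → F} (h : InM M (rk ρ b β * r)) (h0 : β ⬝ᵥ b = 0) (h1 : β ⬝ᵥ c = 0) (h2 : γ ⬝ᵥ c = 0)
    (h3 : γ ⬝ᵥ b = 1) : InM M (rk ρ c β * r) := by
  have h4 := h.comm_l (hroot c γ h2) (by
    rw [mul_assoc, ← mul_assoc r, ← hr.rk, ← mul_assoc, ← mul_assoc, rk_mul_rk, h0, zero_smul, zero_mul, zero_mul])
    (by rw [mul_assoc, ← hr.rk, ← mul_assoc, rk_mul_rk, h1, zero_smul, zero_mul])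
  rwa [← mul_assoc, rk_mul_rk, h3, one_smul] at h4

theorem spread_right (hroot : ∀ c γ : Fin m → F, γ ⬝ᵥ c = 0 → InM M (rk ρ c γ)) {r : Matrix κ κ F} (hr : Cen ρ r)
    {b β c γ : Fin m → F} (h : InM M (rk ρ b β * r)) (h0 : β ⬝ᵥ b = 0) (h1 : γ ⬝ᵥ b = 0) (h2 : γ ⬝ᵥ c = 0)
    (h3 : β ⬝ᵥ c = 1) : InM M (rk ρ b γ * r) := by
  have h4 := h.comm_r (hroot c γ h2) (by
    rw [mul_assoc, ← mul_assoc r, ← hr.rk, ← mul_assoc, ← mul_assoc, rk_mul_rk, h0, zero_smul, zero_mul, zero_mul])
    (by rw [← mul_assoc, rk_mul_rk, h1, zero_smul, zero_mul])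
  rwa [mul_assoc, ← hr.rk, ← mul_assoc, rk_mul_rk, h3, one_smul] at h4

theorem spread_left' (hm : 3 ≤ m) (hroot : ∀ c γ : Fin m → F, γ ⬝ᵥ c = 0 → InM M (rk ρ c γ)) {r : Matrix κ κ F}
    (hr : Cen ρ r) {b β c : Fin m → F} (hb : b ≠ 0) (h : InM M (rk ρ b β * r)) (h0 : β ⬝ᵥ b = 0)
    (h1 : β ⬝ᵥ c = 0) : InM M (rk ρ c β * r) := by
  obtain ⟨c', γ, g1, g2, g3⟩ := exists_bridge b β hm
  obtain ⟨δ, hδ⟩ := exists_dot_one' hb
  set δ' := δ - (δ ⬝ᵥ c') • γ with hδ'
  have d1 : δ' ⬝ᵥ b = 1 := by rw [hδ', sub_dotProduct, smul_dotProduct, g2, hδ, smul_zero, sub_zero]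
  have d2 : δ' ⬝ᵥ c' = 0 := by rw [hδ', sub_dotProduct, smul_dotProduct, g3, smul_eq_mul, mul_one, sub_self]
  set d := δ' ⬝ᵥ c with hd
  have e1 := spread_left (c := c - (d • b + c')) (γ := δ') hroot hr h h0
    (by rw [dotProduct_sub, dotProduct_add, dotProduct_smul, h0, g1, h1]; simp)
    (by rw [dotProduct_sub, dotProduct_add, dotProduct_smul, d1, d2, ← hd]; simp) d1
  have e2 := spread_left (c := d • b + c') (γ := δ' - d • γ) hroot hr h h0
    (by rw [dotProduct_add, dotProduct_smul, h0, g1]; simp)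
    (by rw [sub_dotProduct, dotProduct_add, dotProduct_smul, d1, d2, smul_dotProduct, dotProduct_add,
      dotProduct_smul, g2, g3]; simp)
    (by rw [sub_dotProduct, smul_dotProduct, g2, d1]; simp)
  have e3 := e1.add e2 (by
    rw [mul_assoc, ← mul_assoc r, ← hr.rk, ← mul_assoc, ← mul_assoc, rk_mul_rk, dotProduct_add, dotProduct_smul,
      h0, g1, smul_zero, add_zero, zero_smul, zero_mul, zero_mul])
  rwa [← add_mul, ← rk_add_left, sub_add_cancel] at e3

theorem spread_right' (hm : 3 ≤ m) (hroot : ∀ c γ : Fin m → F, γ ⬝ᵥ c = 0 → InM M (rk ρ c γ)) {r : Matrix κ κ F}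
    (hr : Cen ρ r) {b β γ : Fin m → F} (hβ : β ≠ 0) (h : InM M (rk ρ b β * r)) (h0 : β ⬝ᵥ b = 0)
    (h1 : γ ⬝ᵥ b = 0) : InM M (rk ρ b γ * r) := by
  obtain ⟨b', β', g1, g2, g3⟩ := exists_bridge b β hm
  obtain ⟨a0, ha0⟩ := exists_dot_one hβ
  set a' := a0 - (β' ⬝ᵥ a0) • b' with ha'
  have d1 : β ⬝ᵥ a' = 1 := by rw [ha', dotProduct_sub, dotProduct_smul, g1, ha0, smul_zero, sub_zero]
  have d2 : β' ⬝ᵥ a' = 0 := by rw [ha', dotProduct_sub, dotProduct_smul, g3, smul_eq_mul, mul_one, sub_self]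
  set e := γ ⬝ᵥ a' with he
  have e1 := spread_right (γ := γ - (e • β + β')) (c := a') hroot hr h h0
    (by rw [sub_dotProduct, add_dotProduct, smul_dotProduct, h0, g2, h1]; simp)
    (by rw [sub_dotProduct, add_dotProduct, smul_dotProduct, d1, d2, ← he]; simp) d1
  have e2 := spread_right (γ := e • β + β') (c := a' - e • b') hroot hr h h0
    (by rw [add_dotProduct, smul_dotProduct, h0, g2]; simp)
    (by rw [dotProduct_sub, add_dotProduct, smul_dotProduct, d1, d2, dotProduct_smul, add_dotProduct,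
      smul_dotProduct, g1, g3]; simp)
    (by rw [dotProduct_sub, dotProduct_smul, g1, d1]; simp)
  have e3 := e1.add e2 (by
    rw [mul_assoc, ← mul_assoc r, ← hr.rk, ← mul_assoc, ← mul_assoc, rk_mul_rk, sub_dotProduct, add_dotProduct,
      smul_dotProduct, h0, g2, h1, smul_zero, add_zero, sub_zero, zero_smul, zero_mul, zero_mul])
  rwa [← add_mul, ← rk_add_right, sub_add_cancel] at e3

theorem spread (hm : 3 ≤ m) (hroot : ∀ c γ : Fin m → F, γ ⬝ᵥ c = 0 → InM M (rk ρ c γ)) {r : Matrix κ κ F}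
    (hr : Cen ρ r) {a α : Fin m → F} (ha : a ≠ 0) (hα : α ≠ 0) (h0 : α ⬝ᵥ a = 0) (h : InM M (rk ρ a α * r))
    {b β : Fin m → F} (hβ : β ⬝ᵥ b = 0) : InM M (rk ρ b β * r) := by
  obtain ⟨c, hc0, hc1, hc2⟩ := exists_two' (α := α) (β := β) hm
  have h1 := spread_left' hm hroot hr ha h h0 hc1
  have h2 := spread_right' hm hroot hr hα h1 hc1 hc2
  exact spread_left' hm hroot hr hc0 h2 hc2 hβ

/-- if the coefficients at orthogonal pairs vanish, the matrix centralises -/
theorem cen_of_co (hm : 3 ≤ m) {r : Matrix κ κ F} (h : ∀ α b : Fin m → F, α ⬝ᵥ b = 0 → co ρ α b r = 0) : Cen ρ r := by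
  have : Nonempty (Fin m) := ⟨⟨0, by omega⟩⟩
  obtain ⟨i0⟩ := this
  have h1 : ∀ i, co ρ (Pi.single i 1) (Pi.single i 1) r = co ρ (Pi.single i0 1) (Pi.single i0 1) r := by
    intro i
    by_cases hi : i = i0
    · rw [hi]
    have hi' : i0 ≠ i := fun h => hi h.symm
    have e1 := h (Pi.single i 1 - Pi.single i0 1) (Pi.single i 1 + Pi.single i0 1) (by
      rw [sub_dotProduct, dotProduct_add, dotProduct_add, single_dotProduct, single_dotProduct, single_dotProduct,
        single_dotProduct, Pi.single_eq_same, Pi.single_eq_same, Pi.single_eq_of_ne hi, Pi.single_eq_of_ne hi']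
      ring)
    have e2 := h (Pi.single i 1) (Pi.single i0 1) (by
      rw [single_dotProduct, Pi.single_eq_of_ne hi, mul_zero])
    have e3 := h (Pi.single i0 1) (Pi.single i 1) (by
      rw [single_dotProduct, Pi.single_eq_of_ne hi', mul_zero])
    have e4 : co ρ (-Pi.single i0 1) (Pi.single i 1 + Pi.single i0 1) r =
        - co ρ (Pi.single i0 1) (Pi.single i 1 + Pi.single i0 1) r := by
      have := co_smul_left ρ (-1) (Pi.single i0 1) (Pi.single i 1 + Pi.single i0 1) r
      rw [neg_smul, one_smul, neg_smul, one_smul] at this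
      exact this
    rw [sub_eq_add_neg, co_add_left, e4, co_add_right, co_add_right, e2, e3, add_zero, zero_add, add_neg_eq_zero] at e1
    exact e1
  have h2 : r = co ρ (Pi.single i0 1) (Pi.single i0 1) r := by
    conv_lhs => rw [eq_sum_co ρ r]
    have : ∀ i, ∑ j, rk ρ (Pi.single i 1) (Pi.single j 1) * co ρ (Pi.single i 1) (Pi.single j 1) r =
        rk ρ (Pi.single i 1) (Pi.single i 1) * co ρ (Pi.single i0 1) (Pi.single i0 1) r := by
      intro i
      rw [Finset.sum_eq_single i, h1]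
      · intro j _ hj
        rw [h _ _ (by rw [single_dotProduct, Pi.single_eq_of_ne hj.symm, mul_zero]), mul_zero]
      · intro h; exact absurd (Finset.mem_univ _) h
    rw [Finset.sum_congr rfl fun i _ => this i, ← Finset.sum_mul, sum_rk_one, one_mul]
  rw [h2]
  exact cen_co ρ _ _ _

/-- conjugating by `1 + E` -/
theorem InM.shift {Y s E : Matrix κ κ F} (hYs : InM M (Y * s)) (hE : InM M E) (hEE : E * E = 0) (hYY : Y * Y = 0)
    (hc : Commute Y s) (hc' : Commute Y E) : InM M (Y * (E * s - s * E - E * s * E)) := by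
  rw [inM_iff_un hEE] at hE
  have h1 := hYs.conj hE
  have h2 : ((un E hEE : GL κ F) : Matrix κ κ F) = 1 + E := rfl
  have h3 : (((un E hEE)⁻¹ : GL κ F) : Matrix κ κ F) = 1 - E := rfl
  have hsub := h1.sub hYs (by rw [mul_assoc, ← mul_assoc s, ← hc.eq, ← mul_assoc, ← mul_assoc, hYY, zero_mul, zero_mul]) (by
    rw [h2, h3]
    have hc2 : Commute Y (1 - E) := (Commute.one_right Y).sub_right hc'
    calc (1 + E) * (Y * s) * (1 - E) * (Y * s) = (1 + E) * ((Y * s) * ((1 - E) * Y) * s) := by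
          simp only [mul_assoc]
      _ = 0 := by
        rw [← hc2.eq, hc.eq, mul_assoc s, ← mul_assoc Y Y, hYY, zero_mul, mul_zero, zero_mul, mul_zero])
  have h4 : (1 + E) * (Y * s) * (1 - E) - Y * s = Y * (E * s - s * E - E * s * E) := by
    have h5 : E * (Y * s) = Y * (E * s) := by rw [← mul_assoc, ← hc'.eq, mul_assoc]
    rw [add_mul, one_mul, h5, ← mul_add, mul_assoc, mul_sub, mul_one, ← mul_sub, add_mul]
    congr 1
    abel
  rwa [h2, h3, h4] at hsub

theorem InM.quad [Nonempty κ] {Y r : Matrix κ κ F} (hYr : InM M (Y * r)) (hYY : Y * Y = 0) (hc : Commute Y r)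
    (hroot : ∀ c γ : Fin m → F, γ ⬝ᵥ c = 0 → InM M (rk ρ c γ)) (hYc : Cen ρ Y) {b α : Fin m → F}
    (hαb : α ⬝ᵥ b = 0) (hm : 3 ≤ m) : InM M (Y * (rk ρ b α * co ρ α b r)) := by
  obtain ⟨c, γ, h1, h2, h3⟩ := exists_bridge b α hm
  -- α c = 0, γ b = 0, γ c = 1
  · have hE : ∀ x : Matrix κ κ F, ∀ a β, Commute Y x → Commute Y (rk ρ a β * x - x * rk ρ a β - rk ρ a β * x * rk ρ a β) := by
      intro x a β hx
      have hy : Commute Y (rk ρ a β) := (hYc _).symm
      exact ((hy.mul_right hx).sub_right (hx.mul_right hy)).sub_right ((hy.mul_right hx).mul_right hy)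
    have s1 := hYr.shift (hroot b α hαb) (rk_sq hαb) hYY hc (hYc _).symm
    have c1 := hE r b α hc
    have s2 := s1.shift (hroot b γ h2) (rk_sq h2) hYY c1 (hYc _).symm
    have c2 := hE _ b γ c1
    have s3 := s2.shift (hroot c α h1) (rk_sq h1) hYY c2 (hYc _).symm
    rw [rk_mul_co]
    convert s3 using 2
    have p : ∀ a β a' β' (x : Matrix κ κ F), rk ρ a β * (rk ρ a' β' * x) = (β ⬝ᵥ a') • (rk ρ a β' * x) := by
      intro a β a' β' x
      rw [← mul_assoc, rk_mul_rk, smul_mul_assoc]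
    simp only [mul_sub, sub_mul, mul_assoc, p, rk_mul_rk, hαb, h1, h2, h3, zero_smul, one_smul, mul_zero, sub_zero,
      zero_sub, smul_zero, neg_zero, sub_neg_eq_add, mul_neg, neg_mul, neg_neg, sub_self, zero_add, zero_mul,
      add_zero]

end Spread

end Cfsg.Agent.H873.Wr
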