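import Cfsg.Agent.H873.WrSlot

/-!
A bad slot forces `SL ≤ M`.
-/

set_option autoImplicit false
set_option linter.unusedSectionVars false
set_option linter.unusedSimpArgs false

namespace Cfsg.Agent.H873.Wr

open Matrix Cfsg.Agent.H919 Cfsg.Geo

variable {F : Type*} [Field F] {t m : ℕ}

/-- the induction predicate -/
def PJ (M : Subgroup (GL (Fin t → Fin m) F)) (J : Finset (Fin t)) (r : Matrix (Fin t → Fin m) (Fin t → Fin m) F) :
    Prop :=
  r ≠ 0 ∧ (∀ j ∈ J, Cen (slotEmb j) r) ∧
    ∀ u φ : Fin t → Fin m → F, (∀ j ∈ J, φ j ⬝ᵥ u j = 0) → InM M (XJ J u φ * r)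

theorem PJ.step {M : Subgroup (GL (Fin t → Fin m) F)} (hHM : HS m t F ≤ M) (hm : 3 ≤ m) {J : Finset (Fin t)}
    {r : Matrix (Fin t → Fin m) (Fin t → Fin m) F} (h : PJ M J r) (hJ : J.Nonempty)
    (hr : ¬ ∃ c : F, r = c • (1 : Matrix (Fin t → Fin m) (Fin t → Fin m) F)) :
    ∃ j, j ∉ J ∧ ∃ r1, PJ M (insert j J) r1 := by
  have hne : Nonempty (Fin t → Fin m) := ⟨fun _ => ⟨0, by omega⟩⟩
  obtain ⟨hr0, hcen, hall⟩ := h
  -- a slot which `r` does not centralise
  obtain ⟨j, hj⟩ : ∃ j, ¬ Cen (slotEmb (F := F) (m := m) j) r := by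
    by_contra hcon
    push Not at hcon
    apply hr
    exact scalar_of_commute_slots fun i x => ((hcon i) x).eq.symm
  have hjJ : j ∉ J := fun h => hj (hcen j h)
  obtain ⟨α, b, hαb, hco⟩ : ∃ α b : Fin m → F, α ⬝ᵥ b = 0 ∧ co (slotEmb j) α b r ≠ 0 := by
    by_contra hcon
    push Not at hcon
    exact hj (cen_of_co hm hcon)
  have hb : b ≠ 0 := by rintro rfl; exact hco (co_zero_right _ _ _)
  have hα : α ≠ 0 := by rintro rfl; exact hco (co_zero_left _ _ _)
  refine ⟨j, hjJ, co (slotEmb j) α b r, hco, ?_, ?_⟩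
  · intro k hk
    rw [Finset.mem_insert] at hk
    rcases hk with rfl | hk
    · exact cen_co _ _ _ _
    · have hkj : k ≠ j := fun h => hjJ (h ▸ hk)
      intro A
      unfold co
      apply Commute.sum_right
      intro l _
      exact ((slotMat_commute hkj _ _ : Commute (slotEmb k A) (rk (slotEmb j) _ _)).mul_right (hcen k hk A)).mul_right
        (slotMat_commute hkj _ _)
  · intro u φ huφ
    obtain ⟨j0, hj0⟩ := hJ
    have h1 := hall u φ fun k hk => huφ k (Finset.mem_insert_of_mem hk)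
    have hroot : ∀ c γ : Fin m → F, γ ⬝ᵥ c = 0 → InM M (rk (slotEmb j) c γ) := fun c γ h => (root_mem_HS hm j h).mono hHM
    have h2 := InM.quad (ρ := slotEmb j) h1 (XJ_sq hj0 (huφ j0 (Finset.mem_insert_of_mem hj0)))
      (XJ_commute hcen u φ) hroot (cen_XJ hjJ u φ) hαb hm
    have h3 : XJ J u φ * (rk (slotEmb j) b α * co (slotEmb j) α b r) =
        rk (slotEmb j) b α * (XJ J u φ * co (slotEmb j) α b r) := by
      rw [← mul_assoc, ← (cen_XJ hjJ u φ).rk b α, mul_assoc]
    rw [h3] at h2
    have h4 := spread hm hroot ((cen_XJ hjJ u φ).mul (cen_co _ _ _ _)) hb hα hαb h2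
      (huφ j (Finset.mem_insert_self _ _))
    rwa [XJ_insert hjJ, mul_assoc]

/-- all products of nilpotent rank one matrices over `J` -/
def AllJ (M : Subgroup (GL (Fin t → Fin m) F)) (J : Finset (Fin t)) : Prop :=
  ∀ u φ : Fin t → Fin m → F, (∀ j ∈ J, φ j ⬝ᵥ u j = 0) → InM M (XJ J u φ)

theorem PJ.exists_all {M : Subgroup (GL (Fin t → Fin m) F)} (hHM : HS m t F ≤ M) (hm : 3 ≤ m) :
    ∀ (n : ℕ) {J : Finset (Fin t)} {r : Matrix (Fin t → Fin m) (Fin t → Fin m) F}, t - J.card ≤ n → PJ M J r →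
    J.Nonempty → ∃ J', J ⊆ J' ∧ AllJ M J' := by
  intro n
  induction n with
  | zero =>
    intro J r hn h hJ
    have hJu : J = Finset.univ := by
      apply Finset.eq_univ_of_card
      rw [Fintype.card_fin]
      have := Finset.card_le_univ J
      rw [Fintype.card_fin] at this
      omega
    by_cases hr : ∃ c : F, r = c • (1 : Matrix (Fin t → Fin m) (Fin t → Fin m) F)
    · obtain ⟨c, rfl⟩ := hr
      obtain ⟨hr0, hcen, hall⟩ := h
      have hc : c ≠ 0 := by rintro rfl; exact hr0 (zero_smul _ _)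
      obtain ⟨j0, hj0⟩ := hJ
      refine ⟨J, subset_rfl, fun u φ huφ => ?_⟩
      have h1 := hall (Function.update u j0 (c⁻¹ • u j0)) φ (by
        intro j hj
        by_cases hjj : j = j0
        · subst hjj; rw [Function.update_self, dotProduct_smul, huφ j hj, smul_zero]
        · rw [Function.update_of_ne hjj, huφ j hj])
      rwa [XJ_smul hj0, smul_mul_smul_comm, mul_one, inv_mul_cancel₀ hc, one_smul] at h1
    · obtain ⟨j, hj, -⟩ := h.step hHM hm hJ hr
      rw [hJu] at hj
      exact absurd (Finset.mem_univ _) hj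
  | succ n ih =>
    intro J r hn h hJ
    by_cases hr : ∃ c : F, r = c • (1 : Matrix (Fin t → Fin m) (Fin t → Fin m) F)
    · obtain ⟨c, rfl⟩ := hr
      obtain ⟨hr0, hcen, hall⟩ := h
      have hc : c ≠ 0 := by rintro rfl; exact hr0 (zero_smul _ _)
      obtain ⟨j0, hj0⟩ := hJ
      refine ⟨J, subset_rfl, fun u φ huφ => ?_⟩
      have h1 := hall (Function.update u j0 (c⁻¹ • u j0)) φ (by
        intro j hj
        by_cases hjj : j = j0
        · subst hjj; rw [Function.update_self, dotProduct_smul, huφ j hj, smul_zero]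
        · rw [Function.update_of_ne hjj, huφ j hj])
      rwa [XJ_smul hj0, smul_mul_smul_comm, mul_one, inv_mul_cancel₀ hc, one_smul] at h1
    · obtain ⟨j, hj, r1, h1⟩ := h.step hHM hm hJ hr
      obtain ⟨J', h2, h3⟩ := ih (by rw [Finset.card_insert_of_notMem hj]; omega) h1 (Finset.insert_nonempty _ _)
      exact ⟨J', (Finset.subset_insert _ _).trans h2, h3⟩

theorem AllJ.union {M : Subgroup (GL (Fin t → Fin m) F)} (hm : 3 ≤ m) {J J' : Finset (Fin t)} {k : Fin t}
    (h : AllJ M J) (h' : AllJ M J') (hk : k ∈ J) (hk' : k ∈ J') : AllJ M (J ∪ J') := by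
  intro v ψ hvψ
  choose b β hb1 hb2 hb3 using fun j => exists_bridge (v j) (ψ j) hm
  -- X = (v, β) on the intersection, (v, ψ) outside; Y = (b, ψ) on the intersection
  let φ1 : Fin t → Fin m → F := fun j => if j ∈ J' then β j else ψ j
  let u2 : Fin t → Fin m → F := fun j => if j ∈ J then b j else v j
  have hX := h v φ1 (by
    intro j hj
    by_cases hj' : j ∈ J'
    · simp only [φ1, hj', if_true, hb2]
    · simp only [φ1, hj', if_false, hvψ j (Finset.mem_union_left _ hj)])
  have hY := h' u2 ψ (by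
    intro j hj'
    by_cases hj : j ∈ J
    · simp only [u2, hj, if_true, hb1]
    · simp only [u2, hj, if_false, hvψ j (Finset.mem_union_right _ hj')])
  have h1 := hX.comm_r hY (XJ_sq hk (by simp only [φ1, hk', if_true, hb2])) (by
    rw [XJ, XJ, pureMat_mul]
    apply pureMat_zero k
    simp only [hk, hk', if_true, u2]
    rw [vecMulVec_mul_vecMulVec, hvψ k (Finset.mem_union_left _ hk), zero_smul, vecMulVec_zero])
  have h2 : XJ J v φ1 * XJ J' u2 ψ = XJ (J ∪ J') v ψ := by
    rw [XJ, XJ, XJ, pureMat_mul]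
    congr 1
    funext j
    by_cases hj : j ∈ J <;> by_cases hj' : j ∈ J'
    · simp only [hj, hj', if_true, φ1, u2, Finset.mem_union, true_or, or_true]
      rw [vecMulVec_mul_vecMulVec, hb3, one_smul]
    · simp only [hj, hj', if_true, if_false, φ1, u2, Finset.mem_union, true_or, or_true, mul_one]
    · simp only [hj, hj', if_true, if_false, φ1, u2, Finset.mem_union, true_or, or_true, one_mul]
    · simp only [hj, hj', if_true, if_false, φ1, u2, Finset.mem_union, or_false, one_mul]
  rwa [h2] at h1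

theorem AllJ.perm {M : Subgroup (GL (Fin t → Fin m) F)} {J : Finset (Fin t)} {σ : Equiv.Perm (Fin t)}
    (h : AllJ M J) (hσ : facPerm F m σ ∈ M) : AllJ M (J.image σ) := by
  intro v ψ hvψ
  have h1 := (h (fun i => v (σ i)) (fun i => ψ (σ i)) (fun j hj => hvψ _ (Finset.mem_image_of_mem _ hj))).conj hσ
  rw [XJ, facPerm_conj] at h1
  convert h1 using 1
  rw [XJ]
  congr 1
  funext j
  by_cases hj : σ.symm j ∈ J
  · have : j ∈ J.image σ := Finset.mem_image.2 ⟨_, hj, by simp⟩
    simp [this, hj]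
  · have : j ∉ J.image σ := by
      intro h
      obtain ⟨k, hk, rfl⟩ := Finset.mem_image.1 h
      apply hj
      simpa using hk
    simp only [this, hj, if_false]

theorem AllJ.univ {M : Subgroup (GL (Fin t → Fin m) F)} (hHM : HS m t F ≤ M) (hm : 3 ≤ m) {J : Finset (Fin t)}
    (h : AllJ M J) (h2 : 2 ≤ J.card) : AllJ M Finset.univ := by
  classical
  obtain ⟨K, hK, hmax⟩ := Finset.exists_max_image
    (Finset.univ.filter fun K : Finset (Fin t) => AllJ M K ∧ 2 ≤ K.card) Finset.card
    ⟨J, by simp [h, h2]⟩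
  simp only [Finset.mem_filter, Finset.mem_univ, true_and] at hK hmax
  have hKu : K = Finset.univ := by
    by_contra hne
    obtain ⟨c, hc⟩ : ∃ c, c ∉ K := by
      by_contra hcon
      push Not at hcon
      exact hne (Finset.eq_univ_of_forall hcon)
    obtain ⟨a, ha, b, hb, hab⟩ := Finset.one_lt_card.1 hK.2
    have hac : a ≠ c := fun h => hc (h ▸ ha)
    have hbc : b ≠ c := fun h => hc (h ▸ hb)
    have h3 := hK.1.perm (hHM (cyc_mem_HS a b c))
    have hb' : b ∈ K.image (cyc a b c) := Finset.mem_image.2 ⟨a, ha, cyc_apply_a hac hbc⟩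
    have hc' : c ∈ K.image (cyc a b c) := Finset.mem_image.2 ⟨b, hb, cyc_apply_b hab hac hbc⟩
    have h4 := hK.1.union hm h3 hb hb'
    have h5 := hmax _ ⟨h4, hK.2.trans (Finset.card_le_card Finset.subset_union_left)⟩
    have h6 : K ⊂ K ∪ K.image (cyc a b c) := by
      refine ⟨Finset.subset_union_left, fun h => hc (h (Finset.mem_union_right _ hc'))⟩
    have := Finset.card_lt_card h6
    omega
  rw [← hKu]
  exact hK.1

/-- the pure tensor of vectors -/
def pv (u : Fin t → Fin m → F) : (Fin t → Fin m) → F := fun x => ∏ i, u i (x i)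

theorem pureMat_vmv (u φ : Fin t → Fin m → F) :
    pureMat (fun j => vecMulVec (u j) (φ j)) = vecMulVec (pv u) (pv φ) := by
  ext a b
  rw [pureMat_apply, vecMulVec_apply, pv, pv, ← Finset.prod_mul_distrib]
  rfl

theorem pv_dot (φ u : Fin t → Fin m → F) : pv φ ⬝ᵥ pv u = ∏ i, φ i ⬝ᵥ u i := by
  simp only [dotProduct, pv]
  rw [Finset.prod_univ_sum, Fintype.piFinset_univ]
  refine Finset.sum_congr rfl fun x _ => ?_
  rw [Finset.prod_mul_distrib]

theorem pv_single (f : Fin t → Fin m) :
    pv (fun i => (Pi.single (f i) 1 : Fin m → F)) = Pi.single f 1 := by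
  funext x
  rw [pv]
  by_cases h : x = f
  · subst h; simp
  · rw [Pi.single_eq_of_ne h]
    obtain ⟨i, hi⟩ := Function.ne_iff.1 h
    exact Finset.prod_eq_zero (Finset.mem_univ i) (Pi.single_eq_of_ne hi _)

theorem pv_update_smul (u : Fin t → Fin m → F) (i : Fin t) (c : F) :
    pv (Function.update u i (c • u i)) = c • pv u := by
  funext x
  rw [pv, Pi.smul_apply, pv, smul_eq_mul, ← Finset.mul_prod_erase _ _ (Finset.mem_univ i),
    ← Finset.mul_prod_erase _ _ (Finset.mem_univ i), ← mul_assoc, Function.update_self, Pi.smul_apply, smul_eq_mul]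
  congr 1
  refine Finset.prod_congr rfl fun k hk => ?_
  rw [Function.update_of_ne (Finset.ne_of_mem_erase hk)]

theorem AllJ.sl {M : Subgroup (GL (Fin t → Fin m) F)} (hm : 3 ≤ m) (ht : 0 < t)
    (h : AllJ M Finset.univ) : specialLinear (Fin t → Fin m) F ≤ M := by
  have : Nonempty (Fin t) := ⟨⟨0, ht⟩⟩
  have : Nontrivial (Fin m) := Fin.nontrivial_iff_two_le.2 (by omega)
  have i0 : Fin t := ⟨0, ht⟩
  -- entries differing in all coordinates
  have h1 : ∀ (f g : Fin t → Fin m), (∀ i, f i ≠ g i) → ∀ c : F, HasTv M (c • Pi.single f 1) (Pi.single g 1) := by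
    intro f g hfg c
    have hd : (Pi.single g 1 : (Fin t → Fin m) → F) ⬝ᵥ (c • Pi.single f 1) = 0 := by
      rw [dotProduct_smul, single_dotProduct, Pi.single_eq_of_ne, mul_zero, smul_zero]
      intro h
      exact hfg i0 (congrFun h.symm i0)
    refine ⟨hd, ?_⟩
    have h2 := h (Function.update (fun i => Pi.single (f i) 1) i0 (c • Pi.single (f i0) 1)) (fun i => Pi.single (g i) 1) (by
      intro j _
      by_cases hj : j = i0
      · subst hj
        rw [Function.update_self, dotProduct_smul, single_dotProduct, Pi.single_eq_of_ne (hfg j).symm, mul_zero,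
          smul_zero]
      · rw [Function.update_of_ne hj, single_dotProduct, Pi.single_eq_of_ne (hfg j).symm, mul_zero])
    obtain ⟨g', hg', he⟩ := h2
    refine ⟨g', hg', ?_⟩
    rw [he]
    congr 1
    rw [XJ]
    simp only [Finset.mem_univ, if_true]
    rw [pureMat_vmv, pv_single, pv_update_smul (fun i => (Pi.single (f i) 1 : Fin m → F)) i0 c, pv_single]
  apply specialLinear_le_of_hasTv
  intro f g hfg c
  -- a third function
  have h3 : ∀ i, ∃ k : Fin m, k ≠ f i ∧ k ≠ g i := by
    intro i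
    by_contra hcon
    push Not at hcon
    have : (Finset.univ : Finset (Fin m)) ⊆ {f i, g i} := by
      intro k _
      by_cases hk : k = f i
      · simp [hk]
      · simp [hcon k hk]
    have h4 := Finset.card_le_card this
    have h5 := Finset.card_le_two (a := f i) (b := g i)
    rw [Finset.card_univ, Fintype.card_fin] at h4
    omega
  choose k hk1 hk2 using h3
  have h4 := h1 f k (fun i => (hk1 i).symm) c
  have h5 := h1 k g hk2 1
  -- commutator
  have h6 := h5.comm h4 (by
    rw [dotProduct_smul, single_dotProduct, Pi.single_eq_of_ne hfg.symm, mul_zero, smul_zero])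
  rw [dotProduct_smul, single_dotProduct, Pi.single_eq_same, mul_one, smul_eq_mul, mul_one, one_smul] at h6
  exact h6

/-- **A bad slot forces `SL ≤ M`.** -/
theorem sl_le_of_bad {M : Subgroup (GL (Fin t → Fin m) F)} (hHM : HS m t F ≤ M) (hm : 3 ≤ m) {i : Fin t}
    {a α : Fin m → F} (ha : a ≠ 0) (hα : α ≠ 0) (h0 : α ⬝ᵥ a = 0) {r : Matrix (Fin t → Fin m) (Fin t → Fin m) F}
    (hr : Cen (slotEmb i) r) (hM : InM M (rk (slotEmb i) a α * r))
    (hns : ¬ ∃ c : F, r = c • (1 : Matrix (Fin t → Fin m) (Fin t → Fin m) F)) :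
    specialLinear (Fin t → Fin m) F ≤ M := by
  have hroot : ∀ c γ : Fin m → F, γ ⬝ᵥ c = 0 → InM M (rk (slotEmb i) c γ) := fun c γ h => (root_mem_HS hm i h).mono hHM
  have h1 : PJ M {i} r := by
    refine ⟨?_, ?_, ?_⟩
    · rintro rfl
      exact hns ⟨0, (zero_smul _ _).symm⟩
    · intro j hj
      rw [Finset.mem_singleton] at hj
      rw [hj]; exact hr
    · intro u φ huφ
      have h2 := spread hm hroot hr ha hα h0 hM (huφ i (Finset.mem_singleton_self i))
      have h3 : XJ {i} u φ = rk (slotEmb i) (u i) (φ i) := by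
        rw [XJ, rk, slotEmb_apply, slotMat]
        congr 1
        funext j
        by_cases hj : j = i
        · subst hj; simp
        · simp [hj]
      rwa [h3]
  obtain ⟨j, hj, r1, h2⟩ := h1.step hHM hm (Finset.singleton_nonempty _) hns
  obtain ⟨J', h3, h4⟩ := h2.exists_all hHM hm t (Nat.sub_le _ _) (Finset.insert_nonempty _ _)
  have h5 : 2 ≤ J'.card := by
    have := Finset.card_le_card h3
    rw [Finset.card_insert_of_notMem hj, Finset.card_singleton] at this
    exact this
  exact (h4.univ hHM hm h5).sl hm (lt_of_le_of_lt (Nat.zero_le _) i.2)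

/-- every proper overgroup is good at every slot -/
theorem ge_slot {M : Subgroup (GL (Fin t → Fin m) F)} (hHM : HS m t F ≤ M) (hm : 3 ≤ m)
    (hM : ¬ specialLinear (Fin t → Fin m) F ≤ M) (i : Fin t) : GE M (slotEmb (F := F) (m := m) i) where
  sl := sl_slot hHM hm i
  nt a α r ha hα h0 hr hMr := by
    by_contra hns
    exact hM (sl_le_of_bad hHM hm ha hα h0 hr hMr hns)

end Cfsg.Agent.H873.Wr
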