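import Cfsg.Agent.H873.WrSlot2

/-!
The elements of the standard tensor wreath subgroup; pure vectors; root subgroups of the wreath subgroup lie in slots
(fields with more than two elements).
-/

set_option autoImplicit false
set_option linter.unusedSectionVars false
set_option linter.unusedSimpArgs false

namespace Cfsg.Agent.H873.Wr

open Matrix Cfsg.Agent.H919 Cfsg.Geo

variable {F : Type*} [Field F] {t m : ℕ}

theorem pureGL_mul (g h : Fin t → GL (Fin m) F) : pureGL g * pureGL h = pureGL (fun i => g i * h i) := by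
  apply Units.ext
  rw [Units.val_mul, pureGL_val, pureGL_val, pureGL_val, pureMat_mul]
  rfl

theorem pureGL_one : pureGL (fun _ : Fin t => (1 : GL (Fin m) F)) = 1 := by
  apply Units.ext
  rw [pureGL_val]
  exact pureMat_one

theorem pureGL_inv (g : Fin t → GL (Fin m) F) : (pureGL g)⁻¹ = pureGL (fun i => (g i)⁻¹) := by
  rw [inv_eq_iff_mul_eq_one, pureGL_mul]
  simp only [mul_inv_cancel]
  exact pureGL_one

theorem facPerm_inv (σ : Equiv.Perm (Fin t)) : (facPerm F m σ)⁻¹ = facPerm F m σ⁻¹ := by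
  rw [inv_eq_iff_mul_eq_one, ← facPerm_mul, mul_inv_cancel, facPerm_one]

theorem facPerm_pureGL (σ : Equiv.Perm (Fin t)) (g : Fin t → GL (Fin m) F) :
    facPerm F m σ * pureGL g = pureGL (fun i => g (σ.symm i)) * facPerm F m σ := by
  rw [← mul_inv_eq_iff_eq_mul]
  apply Units.ext
  rw [Units.val_mul, Units.val_mul, pureGL_val, facPerm_conj, pureGL_val]

/-- every element of the standard wreath subgroup is a pure tensor times a permutation of the factors -/
theorem mem_std {h : GL (Fin t → Fin m) F} (hh : h ∈ tensorWreathStandard m t F) :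
    ∃ (g : Fin t → GL (Fin m) F) (σ : Equiv.Perm (Fin t)), h = pureGL g * facPerm F m σ := by
  unfold tensorWreathStandard at hh
  induction hh using Subgroup.closure_induction with
  | mem x hx =>
    rcases hx with ⟨gs, hgs⟩ | ⟨σ, hσ⟩
    · refine ⟨gs, 1, ?_⟩
      rw [facPerm_one, mul_one]
      apply Units.ext
      ext a b
      rw [hgs, pureGL_val, pureMat_apply]
    · refine ⟨fun _ => 1, σ, ?_⟩
      rw [pureGL_one, one_mul]
      apply Units.ext
      ext a b
      rw [hσ, facPerm_val]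
  | one => exact ⟨fun _ => 1, 1, by rw [pureGL_one, facPerm_one, one_mul]⟩
  | mul x y _ _ hx hy =>
    obtain ⟨g, σ, rfl⟩ := hx
    obtain ⟨g', σ', rfl⟩ := hy
    refine ⟨fun i => g i * g' (σ.symm i), σ * σ', ?_⟩
    rw [facPerm_mul, ← pureGL_mul, mul_assoc, ← mul_assoc (facPerm F m σ), facPerm_pureGL]
    simp only [mul_assoc]
  | inv x _ hx =>
    obtain ⟨g, σ, rfl⟩ := hx
    refine ⟨fun i => (g (σ⁻¹.symm i))⁻¹, σ⁻¹, ?_⟩
    rw [_root_.mul_inv_rev, pureGL_inv, facPerm_inv, facPerm_pureGL]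

theorem pureMat_mulVec_pv (x : Fin t → Matrix (Fin m) (Fin m) F) (u : Fin t → Fin m → F) :
    pureMat x *ᵥ pv u = pv (fun i => x i *ᵥ u i) := by
  funext a
  change ∑ b, pureMat x a b * pv u b = pv (fun i => x i *ᵥ u i) a
  simp only [pv, pureMat_apply, mulVec, dotProduct]
  rw [Finset.prod_univ_sum, Fintype.piFinset_univ]
  refine Finset.sum_congr rfl fun b _ => ?_
  rw [Finset.prod_mul_distrib]

theorem facPerm_mulVec (σ : Equiv.Perm (Fin t)) (v : (Fin t → Fin m) → F) (x : Fin t → Fin m) :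
    ((facPerm F m σ : GL (Fin t → Fin m) F) : Matrix (Fin t → Fin m) (Fin t → Fin m) F).mulVec v x = v (x ∘ σ) := by
  rw [mulVec, dotProduct, Finset.sum_eq_single (x ∘ σ)]
  · rw [facPerm_val, if_pos rfl, one_mul]
  · intro y _ hy
    rw [facPerm_val, if_neg hy, zero_mul]
  · intro h; exact absurd (Finset.mem_univ _) h

theorem facPerm_mulVec_pv (σ : Equiv.Perm (Fin t)) (u : Fin t → Fin m → F) :
    ((facPerm F m σ : GL (Fin t → Fin m) F) : Matrix (Fin t → Fin m) (Fin t → Fin m) F) *ᵥ pv u =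
      pv (fun i => u (σ.symm i)) := by
  funext x
  rw [facPerm_mulVec, pv, pv]
  rw [← Equiv.prod_comp σ (fun i => u (σ.symm i) (x i))]
  simp

theorem std_mulVec_pv (g : Fin t → GL (Fin m) F) (σ : Equiv.Perm (Fin t)) (u : Fin t → Fin m → F) :
    ((pureGL g * facPerm F m σ : GL (Fin t → Fin m) F) : Matrix (Fin t → Fin m) (Fin t → Fin m) F) *ᵥ pv u =
      pv (fun i => (g i : Matrix (Fin m) (Fin m) F) *ᵥ u (σ.symm i)) := by
  rw [Units.val_mul, ← mulVec_mulVec, facPerm_mulVec_pv, pureGL_val, pureMat_mulVec_pv]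

/-- a functional not killing two given non-zero vectors -/
theorem exists_dot_ne {p q : Fin m → F} (hp : p ≠ 0) (hq : q ≠ 0) : ∃ φ : Fin m → F, φ ⬝ᵥ p ≠ 0 ∧ φ ⬝ᵥ q ≠ 0 := by
  obtain ⟨φ, hφ⟩ := exists_dot_one' hp
  obtain ⟨ψ, hψ⟩ := exists_dot_one' hq
  by_cases h1 : φ ⬝ᵥ q = 0
  · by_cases h2 : ψ ⬝ᵥ p = 0
    · refine ⟨φ + ψ, ?_, ?_⟩
      · rw [add_dotProduct, hφ, h2, add_zero]; exact one_ne_zero
      · rw [add_dotProduct, hψ, h1, zero_add]; exact one_ne_zero
    · exact ⟨ψ, h2, by rw [hψ]; exact one_ne_zero⟩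
  · exact ⟨φ, by rw [hφ]; exact one_ne_zero, h1⟩

/-- dual basis of two independent vectors -/
theorem exists_dual {p q : Fin m → F} (hp : p ≠ 0) (hq : ∀ c : F, q ≠ c • p) :
    ∃ α β : Fin m → F, α ⬝ᵥ p = 1 ∧ α ⬝ᵥ q = 0 ∧ β ⬝ᵥ p = 0 ∧ β ⬝ᵥ q = 1 := by
  obtain ⟨φ, hφ⟩ := exists_dot_one' hp
  have h1 : q - (φ ⬝ᵥ q) • p ≠ 0 := fun h => hq _ (sub_eq_zero.1 h)
  obtain ⟨ψ, hψ⟩ := exists_dot_one' h1
  -- β := ψ - (ψ p) φ
  refine ⟨φ - (φ ⬝ᵥ q) • (ψ - (ψ ⬝ᵥ p) • φ), ψ - (ψ ⬝ᵥ p) • φ, ?_, ?_, ?_, ?_⟩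
  · rw [sub_dotProduct, smul_dotProduct, sub_dotProduct, smul_dotProduct, hφ]; simp
  · have : (ψ - (ψ ⬝ᵥ p) • φ) ⬝ᵥ q = 1 := by
      rw [sub_dotProduct, smul_dotProduct, ← hψ, dotProduct_sub, dotProduct_smul, smul_eq_mul, smul_eq_mul]; ring
    rw [sub_dotProduct, smul_dotProduct, this, smul_eq_mul, mul_one, sub_self]
  · rw [sub_dotProduct, smul_dotProduct, hφ]; simp
  · rw [sub_dotProduct, smul_dotProduct, ← hψ, dotProduct_sub, dotProduct_smul, smul_eq_mul, smul_eq_mul]; ring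

/-- a combination of two pure vectors independent in two slots is not pure -/
theorem pure_comb {u u' u'' : Fin t → Fin m → F} (hu : ∀ i, u i ≠ 0) (hu' : ∀ i, u' i ≠ 0) {i j : Fin t}
    (hij : i ≠ j) (hi : ∀ c : F, u' i ≠ c • u i) (hj : ∀ c : F, u' j ≠ c • u j) {a b : F}
    (h : a • pv u + b • pv u' = pv u'') : a * b = 0 := by
  choose φ hφ hφ' using fun k => exists_dot_ne (hu k) (hu' k)
  obtain ⟨α, β, h1, h2, h3, h4⟩ := exists_dual (hu i) hi
  obtain ⟨α', β', h1', h2', h3', h4'⟩ := exists_dual (hu j) hj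
  have key : ∀ (x y : Fin m → F) (w : Fin t → Fin m → F),
      pv (Function.update (Function.update φ i x) j y) ⬝ᵥ pv w =
        (x ⬝ᵥ w i) * (y ⬝ᵥ w j) * ∏ k ∈ (Finset.univ.erase i).erase j, φ k ⬝ᵥ w k := by
    intro x y w
    rw [pv_dot, ← Finset.mul_prod_erase _ _ (Finset.mem_univ i),
      ← Finset.mul_prod_erase (Finset.univ.erase i) _ (Finset.mem_erase.2 ⟨hij.symm, Finset.mem_univ j⟩),
      Function.update_of_ne hij, Function.update_self, Function.update_self, ← mul_assoc]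
    congr 1
    refine Finset.prod_congr rfl fun k hk => ?_
    rw [Finset.mem_erase, Finset.mem_erase] at hk
    rw [Function.update_of_ne hk.1, Function.update_of_ne hk.2.1]
  set A := ∏ k ∈ (Finset.univ.erase i).erase j, φ k ⬝ᵥ u k with hA
  set B := ∏ k ∈ (Finset.univ.erase i).erase j, φ k ⬝ᵥ u' k with hB
  set C := ∏ k ∈ (Finset.univ.erase i).erase j, φ k ⬝ᵥ u'' k with hC
  have hA0 : A ≠ 0 := Finset.prod_ne_zero_iff.2 fun k _ => hφ k
  have hB0 : B ≠ 0 := Finset.prod_ne_zero_iff.2 fun k _ => hφ' k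
  have e : ∀ x y : Fin m → F, a * ((x ⬝ᵥ u i) * (y ⬝ᵥ u j) * A) + b * ((x ⬝ᵥ u' i) * (y ⬝ᵥ u' j) * B) =
      (x ⬝ᵥ u'' i) * (y ⬝ᵥ u'' j) * C := by
    intro x y
    rw [hA, hB, hC, ← key x y u, ← key x y u', ← key x y u'', ← h, dotProduct_add, dotProduct_smul, dotProduct_smul,
      smul_eq_mul, smul_eq_mul]
  have e1 := e α α'
  have e2 := e β β'
  have e3 := e α β'
  have e4 := e β α'
  rw [h1, h1', h2, h2'] at e1
  rw [h3, h3', h4, h4'] at e2
  rw [h1, h2, h3', h4'] at e3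
  rw [h3, h4, h1', h2'] at e4
  simp only [mul_zero, zero_mul, one_mul, mul_one, add_zero, zero_add] at e1 e2 e3 e4
  have e5 : (a * A) * (b * B) = 0 := by
    rw [e1, e2]
    have : (α ⬝ᵥ u'' i * α' ⬝ᵥ u'' j * C) * (β ⬝ᵥ u'' i * β' ⬝ᵥ u'' j * C) =
      (α ⬝ᵥ u'' i * β' ⬝ᵥ u'' j * C) * (β ⬝ᵥ u'' i * α' ⬝ᵥ u'' j * C) := by ring
    rw [this, ← e3, zero_mul]
  have e6 : (a * b) * (A * B) = 0 := by rw [← e5]; ring
  rcases mul_eq_zero.1 e6 with h | h
  · exact h
  · exact absurd h (mul_ne_zero hA0 hB0)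

theorem exists_avoid (p q : Fin m → F) (hm : 3 ≤ m) :
    ∃ y : Fin m → F, (∀ c : F, y ≠ c • p) ∧ (∀ c : F, y ≠ c • q) := by
  obtain ⟨β, h0, h1, h2⟩ := exists_two (a := p) (b := q) hm
  obtain ⟨y, hy⟩ := exists_dot_one h0
  refine ⟨y, ?_, ?_⟩
  · rintro c rfl
    rw [dotProduct_smul, h1, smul_zero] at hy
    exact zero_ne_one hy
  · rintro c rfl
    rw [dotProduct_smul, h2, smul_zero] at hy
    exact zero_ne_one hy

theorem gl_mulVec_ne_zero (g : GL (Fin m) F) {x : Fin m → F} (hx : x ≠ 0) : (g : Matrix (Fin m) (Fin m) F) *ᵥ x ≠ 0 := by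
  intro h
  apply hx
  have : ((g⁻¹ : GL (Fin m) F) : Matrix (Fin m) (Fin m) F) *ᵥ ((g : Matrix (Fin m) (Fin m) F) *ᵥ x) = 0 := by
    rw [h, mulVec_zero]
  rwa [mulVec_mulVec, Units.inv_mul, one_mulVec] at this

theorem exists_ne_zero_vec (hm : 3 ≤ m) : ∃ x : Fin m → F, x ≠ 0 := by
  obtain ⟨b, hb, -⟩ := exists_two' (α := (0 : Fin m → F)) (β := 0) hm
  exact ⟨b, hb⟩

/-- an element whose powers-like family `1 + cY` lies in the wreath subgroup does not permute the slots -/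
theorem perm_eq_one (hm : 3 ≤ m) (hF : ∃ c : F, c ≠ 0 ∧ c ≠ 1) {Y : Matrix (Fin t → Fin m) (Fin t → Fin m) F}
    (hY : ∀ c : F, InM (tensorWreathStandard m t F) (c • Y)) {g : Fin t → GL (Fin m) F} {σ : Equiv.Perm (Fin t)}
    (h : ((pureGL g * facPerm F m σ : GL (Fin t → Fin m) F) : Matrix (Fin t → Fin m) (Fin t → Fin m) F) = 1 + Y) :
    σ = 1 := by
  by_contra hσ
  obtain ⟨i, hi⟩ : ∃ i, σ i ≠ i := by
    by_contra hcon
    push Not at hcon
    exact hσ (Equiv.ext hcon)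
  obtain ⟨x, hx⟩ := exists_ne_zero_vec (F := F) hm
  obtain ⟨y, hy1, hy2⟩ := exists_avoid (((g i)⁻¹ : GL (Fin m) F).1 *ᵥ x) ((g (σ i) : Matrix (Fin m) (Fin m) F) *ᵥ x) hm
  have hy0 : y ≠ 0 := by
    have := hy1 0
    rwa [zero_smul] at this
  let u : Fin t → Fin m → F := Function.update (fun _ => y) i x
  have hu : ∀ k, u k ≠ 0 := by
    intro k
    by_cases hk : k = i
    · subst hk; simp only [u, Function.update_self]; exact hx
    · simp only [u, Function.update_of_ne hk]; exact hy0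
  let u' : Fin t → Fin m → F := fun k => (g k : Matrix (Fin m) (Fin m) F) *ᵥ u (σ.symm k)
  have hu' : ∀ k, u' k ≠ 0 := fun k => gl_mulVec_ne_zero _ (hu _)
  have h1 : pv u + Y *ᵥ pv u = pv u' := by
    have := std_mulVec_pv g σ u
    rwa [h, add_mulVec, one_mulVec] at this
  obtain ⟨c, hc0, hc1⟩ := hF
  obtain ⟨k, hk, hkc⟩ := hY c
  obtain ⟨g', σ', rfl⟩ := mem_std hk
  have h2 := std_mulVec_pv g' σ' u
  rw [hkc, add_mulVec, one_mulVec, smul_mulVec] at h2
  have h3 : (1 - c) • pv u + c • pv u' = pv (fun i => (g' i : Matrix (Fin m) (Fin m) F) *ᵥ u (σ'.symm i)) := by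
    rw [← h2, ← h1, smul_add, sub_smul, one_smul]
    abel
  have hσi : σ.symm i ≠ i := by
    intro h
    apply hi
    conv_lhs => rw [← h]
    simp
  have h4 := pure_comb hu hu' (i := i) (j := σ i) (fun h => hi h.symm) (by
    intro d
    simp only [u', u, Function.update_of_ne hσi, Function.update_self]
    intro h5
    by_cases hd : d = 0
    · rw [hd, zero_smul] at h5
      exact gl_mulVec_ne_zero _ hy0 h5
    apply hy1 d
    have := congrArg (fun z => (((g i)⁻¹ : GL (Fin m) F) : Matrix (Fin m) (Fin m) F) *ᵥ z) h5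
    simp only [mulVec_mulVec, Units.inv_mul, one_mulVec, mulVec_smul] at this
    exact this) (by
    intro d
    simp only [u', u, Equiv.symm_apply_apply, Function.update_self, Function.update_of_ne hi]
    intro h5
    have hd : d ≠ 0 := by
      rintro rfl
      rw [zero_smul] at h5
      exact gl_mulVec_ne_zero _ hx h5
    apply hy2 d⁻¹
    rw [h5, smul_smul, inv_mul_cancel₀ hd, one_smul]) h3
  rcases mul_eq_zero.1 h4 with h5 | h5
  · exact hc1 (sub_eq_zero.1 h5).symm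
  · exact hc0 h5

/-- `pureGL g` factors as slot `j` times an element centralising slot `j` -/
theorem pureGL_factor (g : Fin t → GL (Fin m) F) (j : Fin t) :
    (pureGL g : Matrix (Fin t → Fin m) (Fin t → Fin m) F) =
      slotEmb j (g j : Matrix (Fin m) (Fin m) F) *
        ((pureGL (Function.update g j 1) : GL (Fin t → Fin m) F) : Matrix (Fin t → Fin m) (Fin t → Fin m) F) := by
  rw [pureGL_val, pureGL_val, slotEmb_apply, slotMat, pureMat_mul]
  congr 1
  funext k
  by_cases h : k = j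
  · subst h; simp
  · simp [Function.update_of_ne h]

theorem cen_pureGL (g : Fin t → GL (Fin m) F) (j : Fin t) :
    Cen (slotEmb j) ((pureGL (Function.update g j 1) : GL (Fin t → Fin m) F) :
      Matrix (Fin t → Fin m) (Fin t → Fin m) F) := by
  intro A
  unfold Commute SemiconjBy
  rw [slotEmb_apply, slotMat, pureGL_val, pureMat_mul, pureMat_mul]
  congr 1
  funext k
  by_cases h : k = j
  · subst h; simp
  · simp [Function.update_of_ne h]

/-- rank of the slots -/
theorem slot_rank_eq [Nonempty (Fin t → Fin m)] {w : ℕ} {i : Fin t} (h : ∀ a α : Fin m → F, a ≠ 0 → α ≠ 0 → (rk (slotEmb i) a α).rank = w)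
    (j : Fin t) (a α : Fin m → F) (ha : a ≠ 0) (hα : α ≠ 0) : (rk (slotEmb j) a α).rank = w := by
  have h1 : rk (slotEmb j) a α = conjA (facPerm F m (Equiv.swap i j)) (rk (slotEmb i) a α) := by
    rw [conjA_apply, rk, rk, slotEmb_apply, slotEmb_apply, slotMat_apply_facPerm, Equiv.swap_apply_left]
  rw [h1, rank_conjA, h a α ha hα]

theorem mem_range_of_scalar (i : Fin t) (c : F) :
    ∃ A, slotEmb (F := F) (m := m) i A = c • (1 : Matrix (Fin t → Fin m) (Fin t → Fin m) F) :=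
  ⟨c • 1, by rw [map_smul, map_one]⟩

/-- **Root subgroups of the wreath subgroup lie in slots.** -/
theorem slot_of_root (hm : 3 ≤ m) (ht : 0 < t) (hF : ∃ c : F, c ≠ 0 ∧ c ≠ 1) {w : ℕ}
    (hw : ∀ (i : Fin t) (a α : Fin m → F), a ≠ 0 → α ≠ 0 → (rk (slotEmb i) a α).rank = w)
    {Y : Matrix (Fin t → Fin m) (Fin t → Fin m) F}
    (hY : ∀ c : F, InM (tensorWreathStandard m t F) (c • Y)) (hr : Y.rank ≤ w) :
    ∃ j : Fin t, ∃ A, slotEmb j A = Y := by
  have hne : Nonempty (Fin t → Fin m) := ⟨fun _ => ⟨0, by omega⟩⟩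
  have h1 := hY 1
  rw [one_smul] at h1
  obtain ⟨h, hh, he⟩ := h1
  obtain ⟨g, σ, rfl⟩ := mem_std hh
  have hσ := perm_eq_one hm hF hY he
  subst hσ
  rw [facPerm_one, mul_one] at he
  by_cases hs : ∃ j, ¬ ∃ c : F, (g j : Matrix (Fin m) (Fin m) F) = c • (1 : Matrix (Fin m) (Fin m) F)
  · obtain ⟨j, hj⟩ := hs
    have h2 := pureGL_factor g j
    obtain ⟨c, hc⟩ := scalar_of_rank_le (ρ := slotEmb j) hm (w := w) (fun a α ha hα => (hw j a α ha hα).ge)
      (cen_pureGL g j) (by rw [← h2, he, add_sub_cancel_left]; exact hr) hj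
    refine ⟨j, c • (g j : Matrix (Fin m) (Fin m) F) - 1, ?_⟩
    have h3 : Y = (pureGL g : Matrix (Fin t → Fin m) (Fin t → Fin m) F) - 1 := by rw [he, add_sub_cancel_left]
    rw [h3, h2, hc, mul_smul_comm, mul_one, map_sub, map_smul, map_one]
  · push Not at hs
    choose c hc using hs
    refine ⟨⟨0, ht⟩, ?_⟩
    have h3 : Y = (pureGL g : Matrix (Fin t → Fin m) (Fin t → Fin m) F) - 1 := by rw [he, add_sub_cancel_left]
    have h4 : (pureGL g : Matrix (Fin t → Fin m) (Fin t → Fin m) F) = (∏ i, c i) • 1 := by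
      rw [pureGL_val]
      simp only [hc]
      rw [← pureMat_one]
      ext a b
      rw [pureMat_apply, Matrix.smul_apply, pureMat_apply, smul_eq_mul, ← Finset.prod_mul_distrib]
      rfl
    refine ⟨(∏ i, c i) • 1 - 1, ?_⟩
    rw [h3, h4, map_sub, map_smul, map_one]

/-- the wreath subgroup does not contain `SL` -/
theorem not_sl_le (hm : 3 ≤ m) (ht : 2 ≤ t) : ¬ specialLinear (Fin t → Fin m) F ≤ tensorWreathStandard m t F := by
  intro h
  let f : Fin t → Fin m := fun _ => ⟨0, by omega⟩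
  let g : Fin t → Fin m := fun _ => ⟨1, by omega⟩
  have hne : (⟨0, by omega⟩ : Fin m) ≠ ⟨1, by omega⟩ := by simp
  have hfg : (Pi.single g 1 : (Fin t → Fin m) → F) ⬝ᵥ Pi.single f 1 = 0 := by
    rw [single_dotProduct, Pi.single_eq_of_ne, mul_zero]
    intro h
    exact hne (congrFun h.symm ⟨0, by omega⟩)
  have h1 := h (tv_mem_specialLinear (Pi.single f 1) (Pi.single g 1) hfg)
  obtain ⟨x, σ, hx⟩ := mem_std h1
  have h2 := tv_mulVec (Pi.single f 1) (Pi.single g 1) hfg (Pi.single g 1 : (Fin t → Fin m) → F)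
  have h3 : (Pi.single g 1 : (Fin t → Fin m) → F) ⬝ᵥ Pi.single g 1 = 1 := by
    rw [single_dotProduct, Pi.single_eq_same, mul_one]
  rw [h3, one_smul, hx, ← pv_single, ← pv_single, std_mulVec_pv] at h2
  have h4 := pure_comb (F := F) (a := 1) (b := 1) (i := ⟨0, by omega⟩) (j := ⟨1, by omega⟩)
    (u := fun i => Pi.single (g i) 1) (u' := fun i => Pi.single (f i) 1)
    (fun i => by simp) (fun i => by simp) (by simp) (by
      intro c hc
      have := congrFun hc ⟨0, by omega⟩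
      simp [f, g] at this) (by
      intro c hc
      have := congrFun hc ⟨0, by omega⟩
      simp [f, g] at this) (by rw [one_smul, one_smul]; exact h2.symm)
  rw [one_mul] at h4
  exact one_ne_zero h4

/-- an element conjugating slots into slots is in the wreath subgroup -/
theorem mem_std_of_permutes (hm : 3 ≤ m) (ht : 0 < t) {x : GL (Fin t → Fin m) F}
    (h : ∀ i, ∃ j, RLe (cj x (slotEmb (F := F) (m := m) i)) (slotEmb j)) : x ∈ tensorWreathStandard m t F := by
  have hne : Nonempty (Fin t → Fin m) := ⟨fun _ => ⟨0, by omega⟩⟩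
  choose s hs using h
  have hinj : Function.Injective s := by
    intro i k hik
    by_contra hne'
    -- the image of slot `s i` commutes with itself
    have h1 := (hs i).symm
    have h2 := (hs k).symm
    rw [hik] at h1
    have h3 : ∀ A B, Commute (slotEmb (F := F) (s k) A) (slotEmb (m := m) (s k) B) := by
      intro A B
      obtain ⟨A', hA'⟩ := h1 A
      obtain ⟨B', hB'⟩ := h2 B
      rw [← hA', ← hB', cj_apply, cj_apply]
      exact (slotMat_commute hne' A' B' : Commute (slotEmb i A') (slotEmb k B')).map (conjA x)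
    have h4 := h3 (vecMulVec (Pi.single ⟨0, by omega⟩ 1) (Pi.single ⟨1, by omega⟩ 1))
      (vecMulVec (Pi.single ⟨1, by omega⟩ 1) (Pi.single ⟨0, by omega⟩ 1))
    have h5 : rk (slotEmb (F := F) (m := m) (s k)) (Pi.single ⟨0, by omega⟩ 1) (Pi.single ⟨1, by omega⟩ 1) *
        rk (slotEmb (s k)) (Pi.single ⟨1, by omega⟩ 1) (Pi.single ⟨0, by omega⟩ 1) =
        rk (slotEmb (s k)) (Pi.single ⟨1, by omega⟩ 1) (Pi.single ⟨0, by omega⟩ 1) *
        rk (slotEmb (s k)) (Pi.single ⟨0, by omega⟩ 1) (Pi.single ⟨1, by omega⟩ 1) := h4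
    rw [rk_mul_rk, rk_mul_rk, single_dotProduct, single_dotProduct, Pi.single_eq_same, Pi.single_eq_same, mul_one,
      one_smul, one_smul] at h5
    have h6 := ρ_injective (slotEmb (F := F) (m := m) (s k)) h5
    have h7 := congrFun (congrFun h6 ⟨0, by omega⟩) ⟨0, by omega⟩
    simp [vecMulVec_apply] at h7
  apply mem_tensorWreathStandard ht (by omega) x (Equiv.ofBijective s (Finite.injective_iff_bijective.1 hinj))
  intro i A
  obtain ⟨B, hB⟩ := hs i A
  exact ⟨B, hB.symm⟩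

end Cfsg.Agent.H873.Wr
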