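import Cfsg.Agent.H873.WrTail
import Cfsg.Agent.H880.TI

/-!
Two-element fields: trivial intersection properties in a counterexample.
-/

set_option autoImplicit false
set_option linter.unusedSectionVars false
set_option linter.unusedSimpArgs false
set_option linter.unusedVariables false

namespace Cfsg.Agent.H873.Wr

open Matrix Cfsg.Agent.H919 Cfsg.Geo

/-! ### Dihedral groups -/

section Dihedral

variable {G : Type*} [Group G] {x y : G}

theorem inv_of_zpowers (hx : x * x = 1) (hy : y * y = 1) {c : G} (hc : c ∈ Subgroup.zpowers (x * y)) :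
    x * c * x = c⁻¹ ∧ y * c * y = c⁻¹ := by
  have hxi : x⁻¹ = x := by rw [inv_eq_iff_mul_eq_one, hx]
  have hyi : y⁻¹ = y := by rw [inv_eq_iff_mul_eq_one, hy]
  obtain ⟨k, rfl⟩ := hc
  have h1 : x * (x * y) * x⁻¹ = (x * y)⁻¹ := by
    rw [_root_.mul_inv_rev, ← mul_assoc, hx, one_mul, hxi, hyi]
  have h2 : y * (x * y) * y⁻¹ = (x * y)⁻¹ := by
    rw [_root_.mul_inv_rev, hxi, hyi, mul_assoc, mul_assoc, hy, mul_one]
  have h3 : x * (x * y) ^ k * x⁻¹ = ((x * y) ^ k)⁻¹ := by
    rw [← conj_zpow, h1, _root_.inv_zpow]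
  have h4 : y * (x * y) ^ k * y⁻¹ = ((x * y) ^ k)⁻¹ := by
    rw [← conj_zpow, h2, _root_.inv_zpow]
  rw [hxi] at h3
  rw [hyi] at h4
  exact ⟨h3, h4⟩

theorem mem_or (hx : x * x = 1) (hy : y * y = 1) {l : G} (hl : l ∈ Subgroup.closure {x, y}) :
    l ∈ Subgroup.zpowers (x * y) ∨ x * l ∈ Subgroup.zpowers (x * y) := by
  have hxi : x⁻¹ = x := by rw [inv_eq_iff_mul_eq_one, hx]
  have hmem : ∀ {c : G}, c ∈ Subgroup.zpowers (x * y) → x * c * x ∈ Subgroup.zpowers (x * y) := by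
    intro c hc
    rw [(inv_of_zpowers hx hy hc).1]
    exact Subgroup.inv_mem _ hc
  induction hl using Subgroup.closure_induction with
  | mem l hl =>
    rcases hl with rfl | hl
    · right; rw [hx]; exact Subgroup.one_mem _
    · rw [Set.mem_singleton_iff] at hl
      subst hl
      right; exact Subgroup.mem_zpowers _
  | one => left; exact Subgroup.one_mem _
  | mul a b _ _ ha hb =>
    rcases ha with ha | ha <;> rcases hb with hb | hb
    · left; exact Subgroup.mul_mem _ ha hb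
    · right
      have : x * (a * b) = (x * a * x) * (x * b) := by
        rw [mul_assoc (x * a), ← mul_assoc x x b, hx, one_mul, mul_assoc]
      rw [this]
      exact Subgroup.mul_mem _ (hmem ha) hb
    · right
      rw [← mul_assoc]
      exact Subgroup.mul_mem _ ha hb
    · left
      have : a * b = (x * (x * a) * x) * (x * b) := by
        rw [← mul_assoc x x a, hx, one_mul, mul_assoc a, ← mul_assoc x x b, hx, one_mul]
      rw [this]
      exact Subgroup.mul_mem _ (hmem ha) hb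
  | inv a _ ha =>
    rcases ha with ha | ha
    · left; exact Subgroup.inv_mem _ ha
    · right
      have : x * a⁻¹ = x * (x * a)⁻¹ * x := by
        rw [_root_.mul_inv_rev, hxi, mul_assoc, mul_assoc a⁻¹, hx, mul_one]
      rw [this]
      exact hmem (Subgroup.inv_mem _ ha)

theorem prod_mem (hx : x * x = 1) (hy : y * y = 1) {l : G} (hl : l ∈ Subgroup.closure {x, y}) :
    x * (l⁻¹ * y * l) ∈ Subgroup.zpowers (x * y) := by
  have hxi : x⁻¹ = x := by rw [inv_eq_iff_mul_eq_one, hx]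
  have hyi : y⁻¹ = y := by rw [inv_eq_iff_mul_eq_one, hy]
  rcases mem_or hx hy hl with h | h
  · have h1 := (inv_of_zpowers hx hy (Subgroup.inv_mem _ h)).1
    rw [inv_inv] at h1
    have : x * (l⁻¹ * y * l) = (x * l⁻¹ * x) * (x * y) * l := by
      calc x * (l⁻¹ * y * l) = x * l⁻¹ * y * l := by simp only [mul_assoc]
        _ = x * l⁻¹ * ((x * x) * y) * l := by rw [hx, one_mul]
        _ = _ := by simp only [mul_assoc]
    rw [this, h1]
    exact Subgroup.mul_mem _ (Subgroup.mul_mem _ h (Subgroup.mem_zpowers _)) h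
  · obtain ⟨c, hc⟩ : ∃ c, c = x * l := ⟨_, rfl⟩
    rw [← hc] at h
    have hl' : l = x * c := by rw [hc, ← mul_assoc, hx, one_mul]
    have h1 := (inv_of_zpowers hx hy (Subgroup.inv_mem _ h)).1
    rw [inv_inv] at h1
    have : x * (l⁻¹ * y * l) = (x * c⁻¹ * x) * (x * y)⁻¹ * c := by
      rw [hl', _root_.mul_inv_rev, _root_.mul_inv_rev, hxi, hyi]
      simp only [mul_assoc]
    rw [this, h1]
    exact Subgroup.mul_mem _ (Subgroup.mul_mem _ h (Subgroup.inv_mem _ (Subgroup.mem_zpowers _))) h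

/-- the key fact on dihedral groups -/
theorem dihedral (hx : x * x = 1) (hy : y * y = 1) {l y' : G} (hl : l ∈ Subgroup.closure {x, y}) (hy' : y' = l⁻¹ * y * l)
    {n : ℕ} {z : G} (hz : (x * y') ^ n = z) (hzz : z * z = 1) : y * z * y⁻¹ = z := by
  have hyi : y⁻¹ = y := by rw [inv_eq_iff_mul_eq_one, hy]
  have h1 : z ∈ Subgroup.zpowers (x * y) := by
    rw [← hz, hy']
    exact Subgroup.pow_mem _ (prod_mem hx hy hl) _
  rw [hyi, (inv_of_zpowers hx hy h1).2, inv_eq_iff_mul_eq_one, hzz]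

end Dihedral

variable {F : Type*} [Field F] {t m : ℕ}

/-- a root of slot `i` -/
def IsRt (i : Fin t) (s : GL (Fin t → Fin m) F) : Prop :=
  ∃ a α : Fin m → F, a ≠ 0 ∧ α ≠ 0 ∧ α ⬝ᵥ a = 0 ∧
    (s : Matrix (Fin t → Fin m) (Fin t → Fin m) F) = 1 + rk (slotEmb i) a α

/-- an element of slot `i` -/
def InL (i : Fin t) (s : GL (Fin t → Fin m) F) : Prop :=
  ∃ A, (s : Matrix (Fin t → Fin m) (Fin t → Fin m) F) = slotEmb i A

theorem IsRt.inL {i : Fin t} {s : GL (Fin t → Fin m) F} (h : IsRt i s) : InL i s := by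
  obtain ⟨a, α, -, -, -, he⟩ := h
  exact ⟨1 + vecMulVec a α, by rw [he, map_add, map_one]; rfl⟩

theorem IsRt.sq [Nonempty (Fin t → Fin m)] (hT : Two F) {i : Fin t} {s : GL (Fin t → Fin m) F} (h : IsRt i s) : s * s = 1 := by
  obtain ⟨a, α, -, -, h0, he⟩ := h
  apply Units.ext
  rw [Units.val_mul, he, mul_add, add_mul, add_mul, rk_sq h0, mul_one, one_mul, mul_one, add_zero, add_assoc,
    hT.add_self, add_zero, Units.val_one]

theorem InL.mul {i : Fin t} {s r : GL (Fin t → Fin m) F} (hs : InL i s) (hr : InL i r) : InL i (s * r) := by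
  obtain ⟨A, hA⟩ := hs
  obtain ⟨B, hB⟩ := hr
  exact ⟨A * B, by rw [Units.val_mul, hA, hB, map_mul]⟩

theorem InL.cen {i j : Fin t} (hij : i ≠ j) {s : GL (Fin t → Fin m) F} (hs : InL i s) :
    s ∈ CenG (slotEmb (F := F) (m := m) j) := by
  obtain ⟨A, hA⟩ := hs
  intro B
  rw [hA]
  exact slotMat_commute hij.symm _ _

theorem InL.inv [Nonempty (Fin t → Fin m)] [Nonempty (Fin m)] {i : Fin t} {s : GL (Fin t → Fin m) F} (hs : InL i s) : InL i s⁻¹ := by
  obtain ⟨A, hA⟩ := hs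
  have hinj : Function.Injective (slotEmb (F := F) (m := m) i) := (slotEmb (F := F) (m := m) i).toRingHom.injective
  have h1 : IsUnit A := by
    rw [isUnit_iff_isUnit_det]
    by_contra hcon
    rw [isUnit_iff_ne_zero, not_not] at hcon
    obtain ⟨v, hv, hv0⟩ := exists_mulVec_eq_zero_iff.2 hcon
    have h2 : (s : Matrix (Fin t → Fin m) (Fin t → Fin m) F) * rk (slotEmb i) v v = 0 := by
      rw [hA, map_mul_rk, hv0, rk_zero_left]
    have h3 := congrArg (fun Z => ((s⁻¹ : GL (Fin t → Fin m) F) : Matrix (Fin t → Fin m) (Fin t → Fin m) F) * Z) h2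
    simp only [← mul_assoc, Units.inv_mul, one_mul, mul_zero] at h3
    exact rk_ne_zero _ hv hv h3
  obtain ⟨u, rfl⟩ := h1
  refine ⟨((u⁻¹ : GL (Fin m) F) : Matrix (Fin m) (Fin m) F), ?_⟩
  have h2 : s = slotGL i u := Units.ext hA
  rw [h2]
  rfl

theorem comm_of_ne {i j : Fin t} (hij : i ≠ j) {s r : GL (Fin t → Fin m) F} (hs : InL i s) (hr : InL j r) :
    s * r = r * s := by
  obtain ⟨A, hA⟩ := hs
  obtain ⟨B, hB⟩ := hr
  apply Units.ext
  rw [Units.val_mul, Units.val_mul, hA, hB]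
  exact slotMat_commute hij _ _

/-- an element of slot `i` centralising slot `i` is trivial -/
theorem eq_one_of_cen (hT : Two F) (hm : 3 ≤ m) {i : Fin t} {s : GL (Fin t → Fin m) F} (hs : InL i s)
    (hc : s ∈ CenG (slotEmb (F := F) (m := m) i)) : s = 1 := by
  have hne : Nonempty (Fin t → Fin m) := ⟨fun _ => ⟨0, by omega⟩⟩
  obtain ⟨A, hA⟩ := hs
  obtain ⟨c, hc⟩ := scalar_of_commute_slots (M := (s : Matrix (Fin t → Fin m) (Fin t → Fin m) F)) (by
    intro j x
    by_cases h : i = j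
    · subst h
      exact (hc x).eq.symm
    · rw [hA]
      exact slotMat_commute h _ _)
  apply Units.ext
  have hc0 : c ≠ 0 := by
    rintro rfl
    rw [zero_smul] at hc
    exact s.ne_zero hc
  rw [hc, hT.eq_one hc0, one_smul, Units.val_one]

/-- the action of an element of the wreath subgroup on the slots -/
def Acts [Nonempty (Fin t → Fin m)] (x : GL (Fin t → Fin m) F) (σ : Equiv.Perm (Fin t)) : Prop :=
  ∀ i A, ∃ B, conjA x (slotEmb i A) = slotEmb (σ i) B

theorem exists_acts [Nonempty (Fin t → Fin m)] (hm : 3 ≤ m) {x : GL (Fin t → Fin m) F} (hx : x ∈ tensorWreathStandard m t F) :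
    ∃ σ, Acts (F := F) (m := m) x σ := by
  obtain ⟨σ, hσ⟩ := std_cj hx
  refine ⟨σ, fun i A => ?_⟩
  obtain ⟨B, hB⟩ := hσ i A
  exact ⟨B, hB.symm⟩

theorem Acts.mul [Nonempty (Fin t → Fin m)] {x y : GL (Fin t → Fin m) F} {σ τ : Equiv.Perm (Fin t)} (hx : Acts x σ) (hy : Acts y τ) :
    Acts (x * y) (σ * τ) := by
  intro i A
  obtain ⟨B, hB⟩ := hy i A
  obtain ⟨C, hC⟩ := hx (τ i) B
  refine ⟨C, ?_⟩
  rw [Equiv.Perm.mul_apply, ← hC, ← hB, conjA_mul]

theorem Acts.conj [Nonempty (Fin t → Fin m)] {x s : GL (Fin t → Fin m) F} {σ : Equiv.Perm (Fin t)} (hx : Acts x σ) {i : Fin t} (hs : InL i s) :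
    InL (σ i) (x * s * x⁻¹) := by
  obtain ⟨A, hA⟩ := hs
  obtain ⟨B, hB⟩ := hx i A
  refine ⟨B, ?_⟩
  rw [← hB, conjA_apply, Units.val_mul, Units.val_mul, hA]

/-- an element in two different slots is trivial -/
theorem slot_unique (hT : Two F) (hm : 3 ≤ m) {i j : Fin t} {s : GL (Fin t → Fin m) F} (hi : InL i s) (hj : InL j s)
    (hs : s ≠ 1) : i = j := by
  by_contra hij
  exact hs (eq_one_of_cen hT hm hi (hj.cen fun h => hij h.symm))

theorem IsRt.ne_one (hm : 3 ≤ m) {i : Fin t} {s : GL (Fin t → Fin m) F} (h : IsRt i s) : s ≠ 1 := by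
  have hne : Nonempty (Fin t → Fin m) := ⟨fun _ => ⟨0, by omega⟩⟩
  obtain ⟨a, α, ha, hα, -, he⟩ := h
  rintro rfl
  rw [Units.val_one, left_eq_add] at he
  exact rk_ne_zero _ ha hα he

theorem Acts.unique [Nonempty (Fin t → Fin m)] (hT : Two F) (hm : 3 ≤ m) {x : GL (Fin t → Fin m) F}
    {σ τ : Equiv.Perm (Fin t)} (h : Acts x σ) (h' : Acts x τ) : σ = τ := by
  obtain ⟨a, ha⟩ := exists_ne_zero_vec (F := F) hm
  obtain ⟨φ, hφ, hφa, -⟩ := exists_two (a := a) (b := a) hm
  apply Equiv.ext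
  intro i
  have hs : IsRt i (un (rk (slotEmb (F := F) (m := m) i) a φ) (rk_sq hφa)) := ⟨a, φ, ha, hφ, hφa, rfl⟩
  apply slot_unique hT hm (h.conj hs.inL) (h'.conj hs.inL)
  intro h1
  apply hs.ne_one hm
  rw [mul_inv_eq_one] at h1
  exact mul_eq_left.1 h1

/-- context: a counterexample over the field of two elements -/
structure Ctx (M : Subgroup (GL (Fin t → Fin m) F)) : Prop where
  two : Two F
  hm : 3 ≤ m
  ht : 2 ≤ t
  hHM : tensorWreathStandard m t F ≤ M
  hM : ¬ specialLinear (Fin t → Fin m) F ≤ M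
  norm : ∀ n ∈ M, ∀ i j, RLe (cj n (slotEmb (F := F) (m := m) i)) (slotEmb j) → n ∈ tensorWreathStandard m t F

variable {M : Subgroup (GL (Fin t → Fin m) F)}

theorem Ctx.hHS (h : Ctx M) : HS m t F ≤ M := by rw [h.two.HS_eq]; exact h.hHM

theorem Ctx.ne (h : Ctx M) : Nonempty (Fin t → Fin m) := ⟨fun _ => ⟨0, by have := h.hm; omega⟩⟩

theorem IsRt.mem (h : Ctx M) {i : Fin t} {s : GL (Fin t → Fin m) F} (hs : IsRt i s) :
    s ∈ tensorWreathStandard m t F := by
  obtain ⟨A, hA⟩ := hs.inL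
  obtain ⟨a, α, -, -, h0, he⟩ := hs
  have : s = slotGL i (tv a α h0) := by
    apply Units.ext
    rw [he, slotGL_val, coe_tv, map_add, map_one]
    rfl
  rw [this]
  exact slotGL_mem _ _

theorem InL.mem (h : Ctx M) {i : Fin t} {s : GL (Fin t → Fin m) F} (hs : InL i s) :
    s ∈ tensorWreathStandard m t F := by
  have hne := h.ne
  apply mem_std_of_permutes h.hm (by have := h.ht; omega)
  intro j
  obtain ⟨A, hA⟩ := hs
  obtain ⟨C, hC⟩ : InL i s⁻¹ := by
    have : Nonempty (Fin m) := ⟨⟨0, by have := h.hm; omega⟩⟩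
    exact InL.inv ⟨A, hA⟩
  by_cases hij : i = j
  · subst hij
    refine ⟨i, fun B => ⟨A * B * C, ?_⟩⟩
    rw [cj_apply, conjA_apply, map_mul, map_mul, ← hA, ← hC]
  · refine ⟨j, fun B => ⟨B, ?_⟩⟩
    rw [cj_apply, conjA_eq_self]
    rw [hA]
    exact slotMat_commute hij _ _

/-- **TI for roots.** -/
theorem Ctx.ti (h : Ctx M) {i : Fin t} {s g : GL (Fin t → Fin m) F} (hs : IsRt i s) (hg : g ∈ M)
    (hgs : g * s * g⁻¹ ∈ tensorWreathStandard m t F) :
    g ∈ tensorWreathStandard m t F ∧ ∃ j, IsRt j (g * s * g⁻¹) := by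
  have hne := h.ne
  obtain ⟨a, α, ha, hα, h0, he⟩ := hs
  have h1 : ((g * s * g⁻¹ : GL (Fin t → Fin m) F) : Matrix (Fin t → Fin m) (Fin t → Fin m) F) =
      1 + conjA g (rk (slotEmb i) a α) := by
    rw [Units.val_mul, Units.val_mul, he, mul_add, add_mul, mul_one, Units.mul_inv]
    rfl
  obtain ⟨j, b, β, hb, hβ, h0', he'⟩ := root_of_conj h.two h.hm h.hHS h.hM ha hα h0 hg ⟨_, hgs, h1⟩
  refine ⟨?_, j, b, β, hb, hβ, h0', by rw [h1, he']⟩
  exact h.norm g hg i j (((ge_slot h.hHS h.hm h.hM i).cj hg).range_le (ge_slot h.hHS h.hm h.hM j) h.hm ha hα hb hβ he')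

/-- the strong elements -/
def Str (M : Subgroup (GL (Fin t → Fin m) F)) : Set (GL (Fin t → Fin m) F) :=
  {s | s ∈ tensorWreathStandard m t F ∧ s * s = 1 ∧
    ∀ g ∈ M, g * s * g⁻¹ ∈ tensorWreathStandard m t F → g ∈ tensorWreathStandard m t F}

theorem IsRt.str (h : Ctx M) {i : Fin t} {s : GL (Fin t → Fin m) F} (hs : IsRt i s) : s ∈ Str M :=
  ⟨hs.mem h, (have := h.ne; hs.sq h.two), fun g hg hgs => (h.ti hs hg hgs).1⟩

theorem Ctx.transfer [Finite F] (h : Ctx M) (L : Subgroup (GL (Fin t → Fin m) F)) {s s' g : GL (Fin t → Fin m) F}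
    (hs : s ∈ Str M) (hs' : s' ∈ Str M) (hg : g ∈ M) (h1 : s ∈ L) (h2 : g * s' * g⁻¹ ∈ L) :
    ∃ l ∈ L, ∃ k ∈ tensorWreathStandard m t F, g = l * k := by
  have : Finite (Matrix (Fin t → Fin m) (Fin t → Fin m) F) := inferInstance
  have : Finite (GL (Fin t → Fin m) F) := inferInstance
  exact H880.ti_transfer_one (p := 2) Nat.prime_two M (tensorWreathStandard m t F) h.hHM (Str M)
    (fun s hs => ⟨hs.1, 1, by rw [pow_one, pow_two, hs.2.1]⟩) (fun s hs g hg hgs => hs.2.2 g hg hgs) L hs hs' hg h1 h2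

theorem str_cent {s g : GL (Fin t → Fin m) F} (hs : s ∈ Str M) (hg : g ∈ M) (hgs : g * s * g⁻¹ = s) :
    g ∈ tensorWreathStandard m t F := hs.2.2 g hg (by rw [hgs]; exact hs.1)

/-- support of a product of two slot elements -/
theorem Ctx.support [Nonempty (Fin t → Fin m)] (h : Ctx M) {i j : Fin t} (hij : i ≠ j) {u v k : GL (Fin t → Fin m) F} (hu : InL i u)
    (hv : InL j v) (hu1 : u ≠ 1) (hv1 : v ≠ 1) {σ : Equiv.Perm (Fin t)} (hσ : Acts k σ)
    (hk : k * (u * v) * k⁻¹ = u * v) :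
    (σ i = i ∧ k * u * k⁻¹ = u) ∨ (σ i = j ∧ k * u * k⁻¹ = v) := by
  have hnm : Nonempty (Fin m) := ⟨⟨0, by have := h.hm; omega⟩⟩
  set v1 := k * u * k⁻¹ with hv1d
  set v2 := k * v * k⁻¹ with hv2d
  have h1 : InL (σ i) v1 := hσ.conj hu
  have h2 : InL (σ j) v2 := hσ.conj hv
  have h12 : v1 * v2 = u * v := by rw [← hk, hv1d, hv2d]; group
  have hσij : σ i ≠ σ j := fun h => hij (σ.injective h)
  have hv1ne : v1 ≠ 1 := by
    intro h3
    apply hu1
    rw [hv1d, mul_inv_eq_one] at h3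
    exact mul_eq_left.1 h3
  by_cases hi : σ i = i
  · left
    refine ⟨hi, ?_⟩
    rw [hi] at h1 hσij
    have h3 : v1⁻¹ * u = v2 * v⁻¹ := by
      rw [inv_mul_eq_iff_eq_mul, ← mul_assoc, h12, mul_inv_cancel_right]
    have h4 : v1⁻¹ * u = 1 := by
      apply eq_one_of_cen h.two h.hm (h1.inv.mul hu)
      rw [h3]
      exact Subgroup.mul_mem _ (h2.cen hσij.symm) (hv.inv.cen hij.symm)
    exact (inv_mul_eq_one.1 h4)
  · by_cases hj : σ i = j
    · right
      refine ⟨hj, ?_⟩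
      rw [hj] at h1 hσij
      have h3 : v1⁻¹ * v = v2 * u⁻¹ := by
        rw [inv_mul_eq_iff_eq_mul, ← mul_assoc, h12, comm_of_ne hij hu hv, mul_inv_cancel_right]
      have h4 : v1⁻¹ * v = 1 := by
        apply eq_one_of_cen h.two h.hm (h1.inv.mul hv)
        rw [h3]
        exact Subgroup.mul_mem _ (h2.cen hσij.symm) (hu.inv.cen hij)
      exact (inv_mul_eq_one.1 h4)
    · exfalso
      apply hv1ne
      apply eq_one_of_cen h.two h.hm h1
      have h3 : v1 = u * v * v2⁻¹ := by rw [← h12, mul_inv_cancel_right]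
      rw [h3]
      exact Subgroup.mul_mem _ (Subgroup.mul_mem _ (hu.cen (Ne.symm hi)) (hv.cen (Ne.symm hj))) (h2.inv.cen hσij.symm)

/-- a further root with the same centre -/
theorem IsRt.partner [Nonempty (Fin t → Fin m)] (hT : Two F) (hm : 3 ≤ m) {i : Fin t} {u : GL (Fin t → Fin m) F} (hu : IsRt i u) :
    ∃ x, IsRt i x ∧ IsRt i (x * u) := by
  obtain ⟨a, α, ha, hα, h0, he⟩ := hu
  obtain ⟨b, β, h1, h2, h3⟩ := exists_bridge a α hm
  have hβ : β ≠ 0 := by rintro rfl; rw [zero_dotProduct] at h3; exact zero_ne_one h3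
  refine ⟨un (rk (slotEmb i) a β) (rk_sq h2), ⟨a, β, ha, hβ, h2, rfl⟩, a, β + α, ha, ?_, ?_, ?_⟩
  · intro h4
    have := congrArg (fun z => z ⬝ᵥ b) h4
    simp only [add_dotProduct, h3, h1, add_zero, zero_dotProduct] at this
    exact one_ne_zero this
  · rw [add_dotProduct, h2, h0, add_zero]
  · rw [Units.val_mul, he, coe_un, rk_add_right, mul_add, mul_one, add_mul, one_mul, rk_mul_rk, h2, zero_smul, add_zero,
      add_assoc]

/-- **The centraliser of a product of two roots in different slots.** -/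
theorem Ctx.cent_pair [Finite F] (h : Ctx M) {i j : Fin t} (hij : i ≠ j) {u v g : GL (Fin t → Fin m) F}
    (hu : IsRt i u) (hv : IsRt j v) (hg : g ∈ M) (hgc : g * (u * v) * g⁻¹ = u * v) :
    g ∈ tensorWreathStandard m t F := by
  have hne := h.ne
  by_contra hgH
  obtain ⟨x, hx, hxu⟩ := hu.partner h.two h.hm
  have hxx := hx.sq h.two
  have huu := hu.sq h.two
  have hvv := hv.sq h.two
  set x' := g * u * g⁻¹ with hx'
  have hx'x' : x' * x' = 1 := by
    rw [hx']
    calc g * u * g⁻¹ * (g * u * g⁻¹) = g * (u * u) * g⁻¹ := by group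
      _ = 1 := by rw [huu]; group
  obtain ⟨l, hl, k, hk, hgl⟩ := h.transfer (Subgroup.closure {x, x'}) (hx.str h) (hu.str h) hg
    (Subgroup.subset_closure (by simp)) (Subgroup.subset_closure (by simp [hx']))
  have huv := comm_of_ne hij hu.inL hv.inL
  have hxv := comm_of_ne hij hx.inL hv.inL
  -- x commutes with u
  have hxu' : x * u = u * x := by
    have h1 := hxu.sq h.two
    calc x * u = x * u * (x * u * (x * u)) := by rw [h1, mul_one]
      _ = x * (u * (x * u) * (x * u)) := by simp only [mul_assoc]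
      _ = _ := by
        have h2 : x * u * x * u = 1 := by rw [← h1]; simp only [mul_assoc]
        have h3 : x * u * x = u := by
          calc x * u * x = x * u * x * (u * u) := by rw [huu, mul_one]
            _ = (x * u * x * u) * u := by simp only [mul_assoc]
            _ = u := by rw [h2, one_mul]
        calc x * (u * (x * u) * (x * u)) = x * u * (x * (u * x)) * u := by simp only [mul_assoc]
          _ = x * u * (x * u * x) * u := by simp only [mul_assoc]
          _ = x * (u * u) * u := by rw [h3]; simp only [mul_assoc]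
          _ = x * u := by rw [huu, mul_one]
          _ = x * u * (x * x) := by rw [hxx, mul_one]
          _ = (x * u * x) * x := by simp only [mul_assoc]
          _ = u * x := by rw [h3]
  -- the elements of the dihedral group commute with `u v`
  have hL : Subgroup.closure {x, x'} ≤ Subgroup.centralizer {u * v} := by
    rw [Subgroup.closure_le]
    rintro y (rfl | hy)
    · rw [SetLike.mem_coe, Subgroup.mem_centralizer_singleton_iff]
      rw [← mul_assoc, hxu', mul_assoc, hxv, ← mul_assoc]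
    · rw [Set.mem_singleton_iff] at hy
      subst hy
      rw [SetLike.mem_coe, Subgroup.mem_centralizer_singleton_iff]
      have h1 : g * u * g⁻¹ * (g * (u * v) * g⁻¹) = (g * (u * v) * g⁻¹) * (g * u * g⁻¹) := by
        calc g * u * g⁻¹ * (g * (u * v) * g⁻¹) = g * (u * (u * v)) * g⁻¹ := by group
          _ = g * (u * v * u) * g⁻¹ := by rw [mul_assoc u v u, ← huv]
          _ = _ := by group
      rwa [hgc] at h1
  have hlc : l * (u * v) = (u * v) * l := Subgroup.mem_centralizer_singleton_iff.1 (hL hl)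
  have hkc : k * (u * v) * k⁻¹ = u * v := by
    have hk' : k = l⁻¹ * g := by rw [hgl]; group
    calc k * (u * v) * k⁻¹ = l⁻¹ * (g * (u * v) * g⁻¹) * l := by rw [hk']; group
      _ = l⁻¹ * ((u * v) * l) := by rw [hgc, mul_assoc]
      _ = u * v := by rw [← hlc]; group
  obtain ⟨σ, hσ⟩ := exists_acts h.hm hk
  have hy' : k * u * k⁻¹ = l⁻¹ * x' * l := by
    rw [hx', hgl]; group
  have hfin : x' * (x * u) * x'⁻¹ = x * u → False := by
    intro h1
    have h2 : x' ∈ tensorWreathStandard m t F := by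
      apply str_cent (hxu.str h) _ h1
      exact M.mul_mem (M.mul_mem hg (h.hHM (hu.mem h))) (M.inv_mem hg)
    exact hgH (h.ti hu hg h2).1
  rcases h.support hij hu.inL hv.inL (hu.ne_one h.hm) (hv.ne_one h.hm) hσ hkc with ⟨-, h1⟩ | ⟨-, h1⟩
  · rw [h1] at hy'
    apply hfin
    exact dihedral hxx hx'x' hl hy' (n := 1) (by rw [pow_one]) (hxu.sq h.two)
  · rw [h1] at hy'
    apply hfin
    have hzz : (x * v) * (x * v) = 1 := by
      rw [mul_assoc, ← mul_assoc v, ← hxv, mul_assoc x v v, hvv, mul_one, hxx]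
    have h2 := dihedral hxx hx'x' hl hy' (n := 1) (by rw [pow_one]) hzz
    have h3 : x' * (u * v) * x'⁻¹ = u * v := by
      have h4 := Subgroup.mem_centralizer_singleton_iff.1 (hL (Subgroup.subset_closure (show x' ∈ ({x, x'} : Set _) by simp)))
      rw [h4, mul_inv_cancel_right]
    have h5 : x * u = (x * v) * (u * v) := by
      rw [huv, mul_assoc x v, ← mul_assoc v v, hvv, one_mul]
    calc x' * (x * u) * x'⁻¹ = (x' * (x * v) * x'⁻¹) * (x' * (u * v) * x'⁻¹) := by rw [h5]; group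
      _ = x * u := by rw [h2, h3, ← h5]

/-- **Centralisers of involutions of a slot.** -/
theorem Ctx.cent_inv (h : Ctx M) {i : Fin t} {y g : GL (Fin t → Fin m) F} (hy : InL i y) (hyy : y * y = 1)
    (hy1 : y ≠ 1) (hg : g ∈ M) (hgy : g * y * g⁻¹ = y) : g ∈ tensorWreathStandard m t F := by
  have hne := h.ne
  obtain ⟨A0, hA0⟩ := hy
  set A := A0 - 1 with hA
  have hy' : (y : Matrix (Fin t → Fin m) (Fin t → Fin m) F) = 1 + slotEmb i A := by
    rw [hA0, hA, map_sub, map_one]; abel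
  have hinj := ρ_injective (slotEmb (F := F) (m := m) i)
  have hAA : A * A = 0 := by
    apply hinj
    have h1 : (y : Matrix (Fin t → Fin m) (Fin t → Fin m) F) * (y : Matrix (Fin t → Fin m) (Fin t → Fin m) F) = 1 := by
      rw [← Units.val_mul, hyy, Units.val_one]
    rw [hy', mul_add, add_mul, add_mul, mul_one, one_mul, mul_one, ← map_mul, add_assoc, ← add_assoc (slotEmb i A),
      h.two.add_self, zero_add, add_eq_left] at h1
    rw [h1, map_zero]
  have hA0' : A ≠ 0 := by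
    intro h1
    apply hy1
    apply Units.ext
    rw [hy', h1, map_zero, add_zero, Units.val_one]
  obtain ⟨u, hu⟩ : ∃ u, A *ᵥ u ≠ 0 := by
    by_contra hcon
    push Not at hcon
    apply hA0'
    exact Matrix.mulVec_injective (funext fun v => by rw [hcon, zero_mulVec])
  obtain ⟨ψ, hψ⟩ : ∃ ψ, ψ ᵥ* A ≠ 0 := by
    by_contra hcon
    push Not at hcon
    apply hA0'
    ext i' j'
    have := congrFun (hcon (Pi.single i' 1)) j'
    simpa using this
  have h0 : (ψ ᵥ* A) ⬝ᵥ (A *ᵥ u) = 0 := by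
    rw [← dotProduct_mulVec, mulVec_mulVec, hAA, zero_mulVec, dotProduct_zero]
  set X := rk (slotEmb i) (A *ᵥ u) (ψ ᵥ* A) with hX
  have hXe : X = slotEmb i A * rk (slotEmb i) u ψ * slotEmb i A := by
    rw [map_mul_rk, rk_mul_map]
  have hgA : conjA g (slotEmb i A) = slotEmb i A := by
    have h1 : slotEmb i A = (y : Matrix (Fin t → Fin m) (Fin t → Fin m) F) - 1 := by rw [hy']; abel
    rw [h1, map_sub, map_one, conjA_apply, ← Units.val_mul, ← Units.val_mul, hgy]
  have hgX : conjA g X = slotEmb i A * conjA g (rk (slotEmb i) u ψ) * slotEmb i A := by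
    rw [hXe, map_mul, map_mul, hgA]
  have hge := ge_slot h.hHS h.hm h.hM i
  obtain ⟨C, hC⟩ := hge.pz h.hm hAA ((hge.root h0).conjA hg) hgX
  have hw : ∀ b β, b ≠ 0 → β ≠ 0 → (rk (slotEmb i) b β).rank = X.rank := fun b β hb hβ => rank_rk_eq hb hβ hu hψ
  exact h.norm g hg i i ((hge.cj hg).rle_of_mem hge h.hm (w := X.rank) (fun b β hb hβ => by
    rw [rk_cj, rank_conjA, hw b β hb hβ]) hw hu hψ ⟨C, hC⟩)

/-- an involution fixing a slot commutes with a root of the slot -/
theorem Ctx.exists_root_comm [Nonempty (Fin t → Fin m)] (h : Ctx M) {c : GL (Fin t → Fin m) F} (hcc : c * c = 1) {σ : Equiv.Perm (Fin t)}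
    (hσ : Acts c σ) {k : Fin t} (hk : σ k = k) : ∃ r, IsRt k r ∧ c * r * c⁻¹ = r := by
  have hm := h.hm
  have hle : RLe (cj c (slotEmb (F := F) (m := m) k)) (slotEmb k) := by
    intro A
    obtain ⟨B, hB⟩ := hσ k A
    rw [hk] at hB
    exact ⟨B, hB.symm⟩
  obtain ⟨a, b, hb, he⟩ := exists_factor (by omega) hle
  have hcom : (UG (slotEmb (F := F) (m := m) k) a) * b = b * UG (slotEmb (F := F) (m := m) k) a := by
    apply Units.ext
    rw [Units.val_mul, Units.val_mul]
    exact hb _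
  have hc' : c = UG (slotEmb (F := F) (m := m) k) a * b := Units.ext he
  have haa : a * a = 1 := by
    have h1 : UG (slotEmb (F := F) (m := m) k) (a * a) = (b * b)⁻¹ := by
      rw [eq_inv_iff_mul_eq_one, map_mul, ← hcc, hc']
      calc UG (slotEmb (F := F) (m := m) k) a * UG (slotEmb k) a * (b * b) =
          UG (slotEmb (F := F) (m := m) k) a * (UG (slotEmb k) a * b) * b := by simp only [mul_assoc]
        _ = UG (slotEmb (F := F) (m := m) k) a * (b * UG (slotEmb k) a) * b := by rw [hcom]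
        _ = _ := by simp only [mul_assoc]
    have h2 : UG (slotEmb (F := F) (m := m) k) (a * a) = 1 := by
      apply eq_one_of_cen h.two h.hm (i := k) ⟨_, rfl⟩
      rw [h1]
      exact Subgroup.inv_mem _ (Subgroup.mul_mem _ hb hb)
    apply Units.ext
    apply ρ_injective (slotEmb (F := F) (m := m) k)
    have h3 := congrArg (fun z : GL (Fin t → Fin m) F => (z : Matrix (Fin t → Fin m) (Fin t → Fin m) F)) h2
    change slotEmb k ((a * a : GL (Fin m) F) : Matrix (Fin m) (Fin m) F) = 1 at h3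
    rw [h3, Units.val_one, map_one]
  set A := (a : Matrix (Fin m) (Fin m) F) - 1 with hA
  have ha' : (a : Matrix (Fin m) (Fin m) F) = 1 + A := by rw [hA]; abel
  have hAA : A * A = 0 := by
    have h1 : (a : Matrix (Fin m) (Fin m) F) * (a : Matrix (Fin m) (Fin m) F) = 1 := by
      rw [← Units.val_mul, haa, Units.val_one]
    rw [ha', mul_add, add_mul, add_mul, mul_one, one_mul, mul_one, add_assoc, ← add_assoc A, h.two.add_self, zero_add,
      add_eq_left] at h1
    exact h1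
  -- the root
  obtain ⟨e, φ, he0, hφ0, hφe, hAe, hφA⟩ : ∃ e φ : Fin m → F, e ≠ 0 ∧ φ ≠ 0 ∧ φ ⬝ᵥ e = 0 ∧ A *ᵥ e = 0 ∧ φ ᵥ* A = 0 := by
    by_cases hA0 : A = 0
    · obtain ⟨e, he0⟩ := exists_ne_zero_vec (F := F) hm
      obtain ⟨φ, hφ, hφe, -⟩ := exists_two (a := e) (b := e) hm
      exact ⟨e, φ, he0, hφ, hφe, by rw [hA0, zero_mulVec], by rw [hA0, vecMul_zero]⟩
    · obtain ⟨u, hu⟩ : ∃ u, A *ᵥ u ≠ 0 := by
        by_contra hcon
        push Not at hcon
        apply hA0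
        exact Matrix.mulVec_injective (funext fun v => by rw [hcon, zero_mulVec])
      obtain ⟨ψ, hψ⟩ : ∃ ψ, ψ ᵥ* A ≠ 0 := by
        by_contra hcon
        push Not at hcon
        apply hA0
        ext i' j'
        have := congrFun (hcon (Pi.single i' 1)) j'
        simpa using this
      refine ⟨A *ᵥ u, ψ ᵥ* A, hu, hψ, ?_, ?_, ?_⟩
      · rw [← dotProduct_mulVec, mulVec_mulVec, hAA, zero_mulVec, dotProduct_zero]
      · rw [mulVec_mulVec, hAA, zero_mulVec]
      · rw [vecMul_vecMul, hAA, vecMul_zero]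
  refine ⟨un (rk (slotEmb k) e φ) (rk_sq hφe), ⟨e, φ, he0, hφ0, hφe, rfl⟩, ?_⟩
  rw [mul_inv_eq_iff_eq_mul]
  apply Units.ext
  rw [Units.val_mul, Units.val_mul, coe_un, mul_add, add_mul, mul_one, one_mul, he, ha', map_add, map_one]
  congr 1
  rw [add_mul, add_mul, one_mul, mul_assoc, ← hb.rk, ← mul_assoc, map_mul_rk, hAe, rk_zero_left, zero_mul, add_zero,
    mul_add, ← mul_assoc (rk (slotEmb k) e φ), rk_mul_map, hφA, rk_zero_right, zero_mul, add_zero]

/-- **Strong involutions.** -/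
theorem Ctx.strong [Nonempty (Fin t → Fin m)] [Finite F] (h : Ctx M) {y : GL (Fin t → Fin m) F} (hy : y ∈ tensorWreathStandard m t F)
    (hyy : y * y = 1) (hcent : ∀ g ∈ M, g * y * g⁻¹ = y → g ∈ tensorWreathStandard m t F) {i0 j0 : Fin t}
    (hsup : ∀ s ∈ tensorWreathStandard m t F, s * y * s⁻¹ = y → ∀ σ, Acts (F := F) (m := m) s σ →
      (σ i0 = i0 ∨ σ i0 = j0) ∧ (σ j0 = i0 ∨ σ j0 = j0)) : y ∈ Str M := by
  have hm := h.hm
  have ht := h.ht
  refine ⟨hy, hyy, ?_⟩
  intro g hg hc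
  by_contra hgH
  set c := g * y * g⁻¹ with hcd
  have hcc : c * c = 1 := by
    calc c * c = g * (y * y) * g⁻¹ := by rw [hcd]; group
      _ = 1 := by rw [hyy]; group
  have hcM : c ∈ M := h.hHM hc
  obtain ⟨σ, hσ⟩ := exists_acts hm hc
  -- elements commuting with `c`
  have hback : ∀ s ∈ M, c * s * c⁻¹ = s → g⁻¹ * s * g ∈ tensorWreathStandard m t F ∧
      (g⁻¹ * s * g) * y * (g⁻¹ * s * g)⁻¹ = y := by
    intro s hs hcs
    have h1 : (g⁻¹ * s * g) * y * (g⁻¹ * s * g)⁻¹ = y := by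
      have h2 : s * c * s⁻¹ = c := by
        have h3 : c * s = s * c := by rw [← mul_inv_eq_iff_eq_mul]; exact hcs
        rw [← h3, mul_inv_cancel_right]
      have h3 : y = g⁻¹ * c * g := by rw [hcd]; group
      calc (g⁻¹ * s * g) * y * (g⁻¹ * s * g)⁻¹ = g⁻¹ * (s * (g * y * g⁻¹) * s⁻¹) * g := by group
        _ = y := by rw [← hcd, h2, ← h3]
    exact ⟨hcent _ (M.mul_mem (M.mul_mem (M.inv_mem hg) hs) hg) h1, h1⟩
  by_cases hfix : ∃ k, σ k = k
  · obtain ⟨k, hk⟩ := hfix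
    obtain ⟨r, hr, hcr⟩ := h.exists_root_comm hcc hσ hk
    have h1 := (hback r (h.hHM (hr.mem h)) hcr).1
    have h2 := (h.ti hr (M.inv_mem hg) (by rwa [inv_inv])).1
    exact hgH (by simpa using Subgroup.inv_mem _ h2)
  · push Not at hfix
    let k0 : Fin t := ⟨0, by omega⟩
    have hcinv : c⁻¹ = c := by rw [inv_eq_iff_mul_eq_one, hcc]
    -- the elements `s_r`
    have hsr : ∀ r, IsRt k0 r → c * (r * (c * r * c⁻¹)) * c⁻¹ = r * (c * r * c⁻¹) := by
      intro r hr
      have h1 : InL (σ k0) (c * r * c⁻¹) := hσ.conj hr.inL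
      have h2 := comm_of_ne (hfix k0).symm hr.inL h1
      calc c * (r * (c * r * c⁻¹)) * c⁻¹ = (c * r * c⁻¹) * ((c * c) * r * (c * c)⁻¹) := by group
        _ = r * (c * r * c⁻¹) := by rw [hcc, inv_one, mul_one, one_mul, h2]
    have hrt : ∀ r, IsRt k0 r → IsRt (σ k0) (c * r * c⁻¹) := by
      intro r hr
      obtain ⟨j, hj⟩ := (h.ti hr hcM (Subgroup.mul_mem _ (Subgroup.mul_mem _ hc (hr.mem h)) (Subgroup.inv_mem _ hc))).2
      have := slot_unique h.two hm hj.inL (hσ.conj hr.inL) (hj.ne_one hm)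
      rwa [this] at hj
    have htau : ∀ r, IsRt k0 r → ∃ τ, Acts (F := F) (m := m) (g⁻¹ * (r * (c * r * c⁻¹)) * g) τ ∧ τ i0 = j0 ∧ τ j0 = i0 ∧
        i0 ≠ j0 := by
      intro r hr
      have hrM : r * (c * r * c⁻¹) ∈ M := M.mul_mem (h.hHM (hr.mem h)) (h.hHM ((hrt r hr).mem h))
      obtain ⟨h1, h2⟩ := hback _ hrM (hsr r hr)
      obtain ⟨τ, hτ⟩ := exists_acts hm h1
      have hss : (g⁻¹ * (r * (c * r * c⁻¹)) * g) * (g⁻¹ * (r * (c * r * c⁻¹)) * g) = 1 := by
        have h3 := comm_of_ne (hfix k0).symm hr.inL (hrt r hr).inL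
        calc (g⁻¹ * (r * (c * r * c⁻¹)) * g) * (g⁻¹ * (r * (c * r * c⁻¹)) * g)
            = g⁻¹ * (r * ((c * r * c⁻¹) * r) * (c * r * c⁻¹)) * g := by group
          _ = g⁻¹ * ((r * r) * ((c * r * c⁻¹) * (c * r * c⁻¹))) * g := by rw [← h3]; group
          _ = 1 := by rw [hr.sq h.two, (hrt r hr).sq h.two]; group
      have hnofix : ∀ l, τ l ≠ l := by
        intro l hl
        obtain ⟨r', hr', hcr'⟩ := h.exists_root_comm hss hτ hl
        have h3 : (g * r' * g⁻¹) * (r * (c * r * c⁻¹)) * (g * r' * g⁻¹)⁻¹ = r * (c * r * c⁻¹) := by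
          set s' := g⁻¹ * (r * (c * r * c⁻¹)) * g with hs'
          have h4 : r * (c * r * c⁻¹) = g * s' * g⁻¹ := by rw [hs']; group
          have h5 : s' * r' = r' * s' := by rw [← mul_inv_eq_iff_eq_mul]; exact hcr'
          rw [h4]
          calc (g * r' * g⁻¹) * (g * s' * g⁻¹) * (g * r' * g⁻¹)⁻¹ = g * (r' * s') * r'⁻¹ * g⁻¹ := by group
            _ = g * s' * g⁻¹ := by rw [← h5]; group
        have h4 := h.cent_pair (hfix k0).symm hr (hrt r hr)
          (M.mul_mem (M.mul_mem hg (h.hHM (hr'.mem h))) (M.inv_mem hg)) h3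
        exact hgH (h.ti hr' hg h4).1
      obtain ⟨h3, h4⟩ := hsup _ h1 h2 τ hτ
      have h5 : τ i0 = j0 := h3.resolve_left (hnofix _)
      have h6 : τ j0 = i0 := h4.resolve_right (hnofix _)
      refine ⟨τ, hτ, h5, h6, ?_⟩
      intro h7
      apply hnofix i0
      rw [h5, h7]
    -- three roots
    obtain ⟨a, ha⟩ := exists_ne_zero_vec (F := F) hm
    obtain ⟨φ, hφ, hφa, -⟩ := exists_two (a := a) (b := a) hm
    have hr1 : IsRt k0 (un (rk (slotEmb (F := F) (m := m) k0) a φ) (rk_sq hφa)) := ⟨a, φ, ha, hφ, hφa, rfl⟩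
    set r1 := un (rk (slotEmb (F := F) (m := m) k0) a φ) (rk_sq hφa) with hr1d
    obtain ⟨r2, hr2, hr3⟩ := hr1.partner h.two hm
    obtain ⟨τ1, a1, b1, c1, hij0⟩ := htau r1 hr1
    obtain ⟨τ2, a2, b2, c2, -⟩ := htau r2 hr2
    obtain ⟨τ3, a3, b3, c3, -⟩ := htau (r2 * r1) hr3
    have h1 : g⁻¹ * ((r2 * r1) * (c * (r2 * r1) * c⁻¹)) * g =
        (g⁻¹ * (r2 * (c * r2 * c⁻¹)) * g) * (g⁻¹ * (r1 * (c * r1 * c⁻¹)) * g) := by
      have h2 := comm_of_ne (hfix k0).symm hr1.inL (hrt r2 hr2).inL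
      calc g⁻¹ * ((r2 * r1) * (c * (r2 * r1) * c⁻¹)) * g
          = g⁻¹ * (r2 * (r1 * (c * r2 * c⁻¹)) * (c * r1 * c⁻¹)) * g := by group
        _ = _ := by rw [h2]; group
    rw [h1] at a3
    have h2 := (a2.mul a1).unique h.two hm a3
    have h3 : (τ2 * τ1) i0 = τ3 i0 := by rw [h2]
    rw [Equiv.Perm.mul_apply, b1, c2, b3] at h3
    exact hij0 h3

/-- involutions of a slot are strong -/
theorem Ctx.str_inL [Finite F] (h : Ctx M) {i : Fin t} {y : GL (Fin t → Fin m) F} (hy : InL i y) (hyy : y * y = 1)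
    (hy1 : y ≠ 1) : y ∈ Str M := by
  have hne := h.ne
  apply h.strong (hy.mem h) hyy (fun g hg hgy => h.cent_inv hy hyy hy1 hg hgy) (i0 := i) (j0 := i)
  intro s hs hsy σ hσ
  have h1 := hσ.conj hy
  rw [hsy] at h1
  have h2 := slot_unique h.two h.hm h1 hy hy1
  exact ⟨Or.inl h2, Or.inl h2⟩

/-- products of two roots of different slots are strong -/
theorem Ctx.str_pair [Finite F] (h : Ctx M) {i j : Fin t} (hij : i ≠ j) {u v : GL (Fin t → Fin m) F}
    (hu : IsRt i u) (hv : IsRt j v) : u * v ∈ Str M := by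
  have hne := h.ne
  have huv := comm_of_ne hij hu.inL hv.inL
  apply h.strong (Subgroup.mul_mem _ (hu.mem h) (hv.mem h)) ?_ (fun g hg hgy => h.cent_pair hij hu hv hg hgy)
    (i0 := i) (j0 := j)
  · intro s hs hsy σ hσ
    have h1 := h.support hij hu.inL hv.inL (hu.ne_one h.hm) (hv.ne_one h.hm) hσ hsy
    rw [huv] at hsy
    have h2 := h.support hij.symm hv.inL hu.inL (hv.ne_one h.hm) (hu.ne_one h.hm) hσ hsy
    refine ⟨?_, ?_⟩
    · rcases h1 with ⟨h3, -⟩ | ⟨h3, -⟩
      · exact Or.inl h3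
      · exact Or.inr h3
    · rcases h2 with ⟨h3, -⟩ | ⟨h3, -⟩
      · exact Or.inr h3
      · exact Or.inl h3
  · calc u * v * (u * v) = u * (v * u) * v := by simp only [mul_assoc]
      _ = (u * u) * (v * v) := by rw [← huv]; simp only [mul_assoc]
      _ = 1 := by rw [hu.sq h.two, hv.sq h.two, one_mul]

end Cfsg.Agent.H873.Wr
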