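import Cfsg.Agent.H873.WrTwo3

/-!
The normaliser of a slot, by induction on the number of slots.
-/

set_option autoImplicit false
set_option linter.unusedSectionVars false
set_option linter.unusedSimpArgs false
set_option linter.unusedVariables false

namespace Cfsg.Agent.H873.Wr

open Matrix Cfsg.Agent.H919 Cfsg.Geo
open scoped Kronecker

variable {F : Type*} [Field F] {t m : ℕ}

theorem tail_consEquiv (b : Fin m) (u : Fin t → Fin m) :
    Fin.tail ((Fin.consEquiv (fun _ : Fin (t + 1) => Fin m)) (b, u)) = u := rfl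

theorem zero_consEquiv (b : Fin m) (u : Fin t → Fin m) :
    ((Fin.consEquiv (fun _ : Fin (t + 1) => Fin m)) (b, u)) 0 = b := rfl

/-- the tail slots -/
def tailE (F : Type*) [Field F] (t m : ℕ) :
    Matrix (Fin t → Fin m) (Fin t → Fin m) F →ₐ[F] Matrix (Fin (t + 1) → Fin m) (Fin (t + 1) → Fin m) F :=
  AlgHom.ofLinearMap
    { toFun := fun B => Matrix.of fun x y => if x 0 = y 0 then B (Fin.tail x) (Fin.tail y) else 0
      map_add' := fun B C => by
        ext x y
        simp only [Matrix.of_apply, Matrix.add_apply]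
        split_ifs <;> simp
      map_smul' := fun c B => by
        ext x y
        simp only [Matrix.of_apply, Matrix.smul_apply, RingHom.id_apply, smul_eq_mul]
        split_ifs <;> simp }
    (by
      ext x y
      simp only [LinearMap.coe_mk, AddHom.coe_mk, Matrix.of_apply, Matrix.one_apply]
      by_cases h : x = y
      · subst h; simp
      · rw [if_neg h]
        by_cases h0 : x 0 = y 0
        · rw [if_pos h0, if_neg]
          intro h1
          apply h
          rw [← Fin.cons_self_tail x, ← Fin.cons_self_tail y, h0, h1]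
        · rw [if_neg h0])
    (by
      intro B C
      ext x y
      simp only [LinearMap.coe_mk, AddHom.coe_mk, Matrix.of_apply, Matrix.mul_apply]
      rw [← (Fin.consEquiv (fun _ => Fin m)).sum_comp, Fintype.sum_prod_type]
      simp only [tail_consEquiv, zero_consEquiv]
      rw [Finset.sum_eq_single (x 0)]
      · simp only [if_true]
        by_cases h : x 0 = y 0
        · simp only [h, if_true]
        · simp only [h, if_false, mul_zero, Finset.sum_const_zero]
      · intro b _ hb
        simp only [hb.symm, if_false, zero_mul, Finset.sum_const_zero]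
      · intro h; exact absurd (Finset.mem_univ _) h)

theorem tailE_apply (B : Matrix (Fin t → Fin m) (Fin t → Fin m) F) (x y : Fin (t + 1) → Fin m) :
    tailE F t m B x y = if x 0 = y 0 then B (Fin.tail x) (Fin.tail y) else 0 := rfl

theorem tailE_slot (i : Fin t) (A : Matrix (Fin m) (Fin m) F) :
    tailE F t m (slotEmb i A) = slotEmb i.succ A := by
  ext x y
  rw [tailE_apply, slotEmb_apply, slotEmb_apply, slotMat, slotMat, pureMat_apply, pureMat_apply, Fin.prod_univ_succ]
  rw [Function.update_of_ne (Fin.succ_ne_zero i).symm, Matrix.one_apply]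
  by_cases h : x 0 = y 0
  · rw [if_pos h, if_pos h, one_mul]
    refine Finset.prod_congr rfl fun j _ => ?_
    by_cases hj : j = i
    · subst hj; simp [Fin.tail]
    · rw [Function.update_of_ne hj, Function.update_of_ne (fun h => hj (Fin.succ_injective _ h))]
      rfl
  · rw [if_neg h, if_neg h, zero_mul]

theorem tailE_commute (B : Matrix (Fin t → Fin m) (Fin t → Fin m) F) (A : Matrix (Fin m) (Fin m) F) :
    Commute (slotEmb 0 A) (tailE F t m B) := by
  have h0 : ∀ x y, slotEmb (F := F) (m := m) (0 : Fin (t + 1)) A x y = if Fin.tail x = Fin.tail y then A (x 0) (y 0) else 0 := by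
    intro x y
    rw [slotEmb_apply, slotMat, pureMat_apply, Fin.prod_univ_succ, Function.update_self]
    by_cases h : Fin.tail x = Fin.tail y
    · rw [if_pos h, Finset.prod_eq_one, mul_one]
      intro i _
      rw [Function.update_of_ne (Fin.succ_ne_zero i), show x i.succ = y i.succ from congrFun h i, Matrix.one_apply_eq]
    · rw [if_neg h]
      obtain ⟨i, hi⟩ := Function.ne_iff.1 h
      rw [Finset.prod_eq_zero (Finset.mem_univ i), mul_zero]
      rw [Function.update_of_ne (Fin.succ_ne_zero i)]
      exact Matrix.one_apply_ne hi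
  unfold Commute SemiconjBy
  ext x y
  rw [Matrix.mul_apply, Matrix.mul_apply, ← (Fin.consEquiv (fun _ => Fin m)).sum_comp,
    ← (Fin.consEquiv (fun _ => Fin m)).sum_comp, Fintype.sum_prod_type, Fintype.sum_prod_type]
  simp only [h0, tailE_apply, tail_consEquiv, zero_consEquiv]
  have e1 : ∑ b : Fin m, ∑ u : Fin t → Fin m, (if Fin.tail x = u then A (x 0) b else 0) *
      (if b = y 0 then B u (Fin.tail y) else 0) = A (x 0) (y 0) * B (Fin.tail x) (Fin.tail y) := by
    rw [Finset.sum_eq_single (y 0)]
    · rw [Finset.sum_eq_single (Fin.tail x)]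
      · simp
      · intro u _ hu
        rw [if_neg hu.symm, zero_mul]
      · intro h; exact absurd (Finset.mem_univ _) h
    · intro b _ hb
      simp [hb]
    · intro h; exact absurd (Finset.mem_univ _) h
  have e2 : ∑ b : Fin m, ∑ u : Fin t → Fin m, (if x 0 = b then B (Fin.tail x) u else 0) *
      (if u = Fin.tail y then A b (y 0) else 0) = B (Fin.tail x) (Fin.tail y) * A (x 0) (y 0) := by
    rw [Finset.sum_eq_single (x 0)]
    · rw [Finset.sum_eq_single (Fin.tail y)]
      · simp
      · intro u _ hu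
        rw [if_neg hu, mul_zero]
      · intro h; exact absurd (Finset.mem_univ _) h
    · intro b _ hb
      simp [hb.symm]
    · intro h; exact absurd (Finset.mem_univ _) h
  exact (e1.trans (mul_comm _ _)).trans e2.symm

/-- the centraliser of slot `0` -/
theorem exists_tailE (hm : 0 < m) {X : Matrix (Fin (t + 1) → Fin m) (Fin (t + 1) → Fin m) F}
    (hX : Cen (slotEmb 0) X) : ∃ B, tailE F t m B = X := by
  let a0 : Fin m := ⟨0, hm⟩
  have h0 : ∀ (a b : Fin m) x y, slotEmb (F := F) (m := m) (0 : Fin (t + 1)) (Matrix.single a b 1) x y =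
      if Fin.tail x = Fin.tail y ∧ a = x 0 ∧ b = y 0 then 1 else 0 := by
    intro a b x y
    rw [slotEmb_apply, slotMat, pureMat_apply, Fin.prod_univ_succ, Function.update_self, Matrix.single_apply]
    by_cases h : Fin.tail x = Fin.tail y
    · rw [Finset.prod_eq_one, mul_one]
      · simp only [h, true_and]
      intro i _
      rw [Function.update_of_ne (Fin.succ_ne_zero i), show x i.succ = y i.succ from congrFun h i, Matrix.one_apply_eq]
    · obtain ⟨i, hi⟩ := Function.ne_iff.1 h
      rw [Finset.prod_eq_zero (Finset.mem_univ i), mul_zero, if_neg (fun h' => h h'.1)]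
      rw [Function.update_of_ne (Fin.succ_ne_zero i)]
      exact Matrix.one_apply_ne hi
  have key : ∀ (a b : Fin m) (x y : Fin (t + 1) → Fin m),
      (if a = x 0 then X (Fin.cons b (Fin.tail x)) y else 0) = (if b = y 0 then X x (Fin.cons a (Fin.tail y)) else 0) := by
    intro a b x y
    have h1 := congrFun (congrFun (hX (Matrix.single a b 1)).eq x) y
    rw [Matrix.mul_apply, Matrix.mul_apply] at h1
    have e1 : ∑ z, slotEmb (F := F) (m := m) (0 : Fin (t + 1)) (Matrix.single a b 1) x z * X z y =
        if a = x 0 then X (Fin.cons b (Fin.tail x)) y else 0 := by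
      rw [Finset.sum_eq_single (Fin.cons b (Fin.tail x))]
      · rw [h0]
        simp only [Fin.tail_cons, Fin.cons_zero, true_and, and_true]
        split_ifs <;> simp
      · intro z _ hz
        rw [h0, if_neg, zero_mul]
        rintro ⟨h2, h3, h4⟩
        apply hz
        rw [h2, h4, Fin.cons_self_tail]
      · intro h; exact absurd (Finset.mem_univ _) h
    have e2 : ∑ z, X x z * slotEmb (F := F) (m := m) (0 : Fin (t + 1)) (Matrix.single a b 1) z y =
        if b = y 0 then X x (Fin.cons a (Fin.tail y)) else 0 := by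
      rw [Finset.sum_eq_single (Fin.cons a (Fin.tail y))]
      · rw [h0]
        simp only [Fin.tail_cons, Fin.cons_zero, true_and, and_true]
        split_ifs <;> simp
      · intro z _ hz
        rw [h0, if_neg, mul_zero]
        rintro ⟨h2, h3, h4⟩
        apply hz
        rw [← h2, h3, Fin.cons_self_tail]
      · intro h; exact absurd (Finset.mem_univ _) h
    rwa [e1, e2] at h1
  refine ⟨Matrix.of fun u v => X (Fin.cons a0 u) (Fin.cons a0 v), ?_⟩
  ext x y
  rw [tailE_apply, Matrix.of_apply]
  by_cases h : x 0 = y 0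
  · rw [if_pos h]
    have h1 := key a0 (y 0) (Fin.cons a0 (Fin.tail x)) y
    rw [Fin.cons_zero, if_pos rfl, if_pos rfl, Fin.tail_cons] at h1
    rw [← h1, ← h, Fin.cons_self_tail]
  · rw [if_neg h]
    have h1 := key a0 (x 0) (Fin.cons a0 (Fin.tail x)) y
    rw [Fin.cons_zero, if_pos rfl, if_neg h, Fin.tail_cons, Fin.cons_self_tail] at h1
    exact h1.symm

/-- on units -/
def tailG (F : Type*) [Field F] (t m : ℕ) : GL (Fin t → Fin m) F →* GL (Fin (t + 1) → Fin m) F :=
  Units.map (tailE F t m).toRingHom.toMonoidHom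

theorem tailG_val (b : GL (Fin t → Fin m) F) :
    (tailG F t m b : Matrix (Fin (t + 1) → Fin m) (Fin (t + 1) → Fin m) F) =
      tailE F t m (b : Matrix (Fin t → Fin m) (Fin t → Fin m) F) := rfl

theorem conjA_tailG [Nonempty (Fin t → Fin m)] [Nonempty (Fin (t + 1) → Fin m)] (b : GL (Fin t → Fin m) F)
    (X : Matrix (Fin t → Fin m) (Fin t → Fin m) F) :
    conjA (tailG F t m b) (tailE F t m X) = tailE F t m (conjA b X) := by
  rw [conjA_apply, conjA_apply, map_mul, map_mul]
  rfl

theorem tailG_mem (hm : 3 ≤ m) {b : GL (Fin t → Fin m) F} (hb : b ∈ tensorWreathStandard m t F) :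
    tailG F t m b ∈ tensorWreathStandard m (t + 1) F := by
  have hne : Nonempty (Fin t → Fin m) := ⟨fun _ => ⟨0, by omega⟩⟩
  have hne' : Nonempty (Fin (t + 1) → Fin m) := ⟨fun _ => ⟨0, by omega⟩⟩
  obtain ⟨σ, hσ⟩ := std_cj hb
  apply mem_std_of_permutes hm (by omega)
  intro i
  refine Fin.cases ?_ (fun j => ?_) i
  · refine ⟨0, fun A => ⟨A, ?_⟩⟩
    rw [cj_apply, conjA_eq_self]
    rw [tailG_val]
    exact (tailE_commute _ _).symm
  · refine ⟨(σ j).succ, fun A => ?_⟩
    obtain ⟨B, hB⟩ := hσ j A
    refine ⟨B, ?_⟩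
    rw [cj_apply, ← tailE_slot, ← tailE_slot, conjA_tailG, hB, cj_apply]

/-- one slot is everything -/
theorem mem_std_one (hm : 3 ≤ m) (b : GL (Fin 1 → Fin m) F) : b ∈ tensorWreathStandard m 1 F := by
  have hne : Nonempty (Fin 1 → Fin m) := ⟨fun _ => ⟨0, by omega⟩⟩
  apply mem_std_of_permutes hm (by omega)
  intro i
  refine ⟨i, fun A => ?_⟩
  have hinj : Function.Injective (slotEmb (F := F) (m := m) i).toLinearMap := ρ_injective (slotEmb i)
  have hdim : Module.finrank F (Matrix (Fin m) (Fin m) F) =
      Module.finrank F (Matrix (Fin 1 → Fin m) (Fin 1 → Fin m) F) := by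
    rw [Module.finrank_matrix, Module.finrank_matrix]
    simp
  exact (LinearMap.injective_iff_surjective_of_finrank_eq_finrank hdim).1 hinj _

/-- **The normaliser of slot `0`** -/
theorem norm_slot_zero (hT : Two F) (hm : 3 ≤ m) (ht : 1 ≤ t)
    (IH : 2 ≤ t → ∀ M₁ : Subgroup (GL (Fin t → Fin m) F), HS m t F ≤ M₁ →
      ¬ specialLinear (Fin t → Fin m) F ≤ M₁ → M₁ ≤ tensorWreathStandard m t F)
    {M : Subgroup (GL (Fin (t + 1) → Fin m) F)} (hHM : HS m (t + 1) F ≤ M)
    (hM : ¬ specialLinear (Fin (t + 1) → Fin m) F ≤ M) {n : GL (Fin (t + 1) → Fin m) F} (hn : n ∈ M)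
    (h : RLe (cj n (slotEmb (F := F) (m := m) 0)) (slotEmb 0)) : n ∈ tensorWreathStandard m (t + 1) F := by
  have hne : Nonempty (Fin t → Fin m) := ⟨fun _ => ⟨0, by omega⟩⟩
  have hne' : Nonempty (Fin (t + 1) → Fin m) := ⟨fun _ => ⟨0, by omega⟩⟩
  obtain ⟨a, r, hr, he⟩ := exists_factor (by omega) h
  have hslot : UG (slotEmb (F := F) (m := m) (0 : Fin (t + 1))) a ∈ tensorWreathStandard m (t + 1) F := slotGL_mem 0 a
  have hn' : n = UG (slotEmb (F := F) (m := m) (0 : Fin (t + 1))) a * r := Units.ext he
  have hrM : r ∈ M := by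
    have : r = (UG (slotEmb (F := F) (m := m) (0 : Fin (t + 1))) a)⁻¹ * n := by rw [hn']; group
    rw [this]
    exact M.mul_mem (M.inv_mem (hHM (by rw [hT.HS_eq]; exact hslot))) hn
  obtain ⟨B, hB⟩ := exists_tailE (by omega) hr
  have hr' : Cen (slotEmb (F := F) (m := m) (0 : Fin (t + 1))) ((r⁻¹ : GL (Fin (t + 1) → Fin m) F) : Matrix _ _ F) :=
    (CenG (slotEmb (F := F) (m := m) (0 : Fin (t + 1)))).inv_mem hr
  obtain ⟨B', hB'⟩ := exists_tailE (by omega) hr'
  have hinj : Function.Injective (tailE F t m) := (tailE F t m).toRingHom.injective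
  let b : GL (Fin t → Fin m) F :=
    { val := B
      inv := B'
      val_inv := by
        apply hinj
        rw [map_mul, hB, hB', map_one, Units.mul_inv]
      inv_val := by
        apply hinj
        rw [map_mul, hB, hB', map_one, Units.inv_mul] }
  have hrb : r = tailG F t m b := Units.ext hB.symm
  rw [hn']
  refine Subgroup.mul_mem _ hslot ?_
  rw [hrb]
  apply tailG_mem hm
  by_cases ht2 : 2 ≤ t
  · apply IH ht2 (M.comap (tailG F t m))
    · intro x hx
      rw [Subgroup.mem_comap]
      apply hHM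
      rw [hT.HS_eq]
      exact tailG_mem hm hx.1
    · intro hSL
      -- contradiction with goodness of slot 1
      obtain ⟨e, he0⟩ := exists_ne_zero_vec (F := F) hm
      obtain ⟨φ, hφ, hφe, -⟩ := exists_two (a := e) (b := e) hm
      let i0 : Fin t := ⟨0, by omega⟩
      let i1 : Fin t := ⟨1, by omega⟩
      have hi : i0 ≠ i1 := by simp [i0, i1]
      set X := rk (slotEmb (F := F) (m := m) i0) e φ * rk (slotEmb i1) e φ with hX
      have hXX : X * X = 0 := by
        have hc : Commute (rk (slotEmb (F := F) (m := m) i1) e φ) (rk (slotEmb i0) e φ) := slotMat_commute hi.symm _ _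
        rw [hX, mul_assoc, ← mul_assoc (rk (slotEmb i1) e φ), hc.eq, mul_assoc, rk_sq hφe, mul_zero, mul_zero]
      have h1 : un X hXX ∈ M.comap (tailG F t m) := hSL (hT.mem_sl _)
      have h2 : InM M (rk (slotEmb i0.succ) e φ * rk (slotEmb i1.succ) e φ) := by
        refine ⟨_, h1, ?_⟩
        rw [tailG_val, coe_un, map_add, map_one, hX, map_mul]
        rw [rk, rk, tailE_slot, tailE_slot]
        rfl
      obtain ⟨c, hc⟩ := (ge_slot hHM hm hM i0.succ).nt e φ (rk (slotEmb i1.succ) e φ) he0 hφ hφe
        (fun A => slotMat_commute (fun h => hi (Fin.succ_injective _ h)) A _) h2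
      have h3 := rk_sq (ρ := slotEmb (F := F) (m := m) i1.succ) hφe
      rw [hc, smul_mul_smul_comm, mul_one] at h3
      have h4 : c = 0 := by
        have := congrFun (congrFun h3 hne'.some) hne'.some
        simpa using this
      rw [h4, zero_smul] at hc
      exact rk_ne_zero _ he0 hφ hc
    · rw [Subgroup.mem_comap, ← hrb]
      exact hrM
  · have : t = 1 := by omega
    subst this
    exact mem_std_one hm b

/-- **The normaliser of a slot** -/
theorem norm_slot (hT : Two F) (hm : 3 ≤ m) (ht : 1 ≤ t)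
    (IH : 2 ≤ t → ∀ M₁ : Subgroup (GL (Fin t → Fin m) F), HS m t F ≤ M₁ →
      ¬ specialLinear (Fin t → Fin m) F ≤ M₁ → M₁ ≤ tensorWreathStandard m t F)
    {M : Subgroup (GL (Fin (t + 1) → Fin m) F)} (hHM : HS m (t + 1) F ≤ M)
    (hM : ¬ specialLinear (Fin (t + 1) → Fin m) F ≤ M) {n : GL (Fin (t + 1) → Fin m) F} (hn : n ∈ M) {i j : Fin (t + 1)}
    (h : RLe (cj n (slotEmb (F := F) (m := m) i)) (slotEmb j)) : n ∈ tensorWreathStandard m (t + 1) F := by
  have hne' : Nonempty (Fin (t + 1) → Fin m) := ⟨fun _ => ⟨0, by omega⟩⟩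
  set p := facPerm F m (Equiv.swap i 0) with hp
  set q := facPerm F m (Equiv.swap j 0) with hq
  have hpH : p ∈ tensorWreathStandard m (t + 1) F := facPerm_mem _
  have hqH : q ∈ tensorWreathStandard m (t + 1) F := facPerm_mem _
  have hfac : ∀ (σ : Equiv.Perm (Fin (t + 1))) (k : Fin (t + 1)),
      cj (facPerm F m σ) (slotEmb (F := F) (m := m) k) = slotEmb (σ k) := by
    intro σ k
    apply AlgHom.ext
    intro A
    rw [cj_apply, conjA_apply, slotEmb_apply, slotMat_apply_facPerm]
    rfl
  have h1 : RLe (cj (q * n * p) (slotEmb (F := F) (m := m) 0)) (slotEmb 0) := by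
    rw [← cj_cj, hp, hfac, Equiv.swap_apply_right, ← cj_cj]
    have h2 := h.cj q
    rw [hq, hfac, Equiv.swap_apply_left] at h2
    exact h2
  have h2 : q * n * p ∈ tensorWreathStandard m (t + 1) F :=
    norm_slot_zero hT hm ht IH hHM hM
      (M.mul_mem (M.mul_mem (hHM (by rw [hT.HS_eq]; exact hqH)) hn) (hHM (by rw [hT.HS_eq]; exact hpH))) h1
  have h3 : n = q⁻¹ * (q * n * p) * p⁻¹ := by group
  rw [h3]
  exact Subgroup.mul_mem _ (Subgroup.mul_mem _ (Subgroup.inv_mem _ hqH) h2) (Subgroup.inv_mem _ hpH)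

end Cfsg.Agent.H873.Wr
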