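import Cfsg.Agent.H873.WrBig

/-!
Two-element fields: involutions of the wreath subgroup which are conjugate to roots are roots of slots.
-/

set_option autoImplicit false
set_option linter.unusedSectionVars false
set_option linter.unusedSimpArgs false
set_option linter.unusedVariables false

namespace Cfsg.Agent.H873.Wr

open Matrix Cfsg.Agent.H919 Cfsg.Geo

/-- the field has two elements -/
def Two (F : Type*) [Field F] : Prop := ∀ c : F, c = 0 ∨ c = 1

section Basic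

variable {F : Type*} [Field F] {m : ℕ}

theorem Two.eq_one (h : Two F) {c : F} (hc : c ≠ 0) : c = 1 := (h c).resolve_left hc

theorem Two.one_add_one (h : Two F) : (1 : F) + 1 = 0 := by
  rcases h (1 + 1) with h1 | h1
  · exact h1
  · exact absurd (add_eq_left.1 h1) one_ne_zero

theorem Two.add_self {V : Type*} [AddCommGroup V] [Module F V] (h : Two F) (v : V) : v + v = 0 := by
  have : v + v = ((1 : F) + 1) • v := by rw [add_smul, one_smul]
  rw [this, h.one_add_one, zero_smul]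

theorem Two.neg {V : Type*} [AddCommGroup V] [Module F V] (h : Two F) (v : V) : -v = v :=
  neg_eq_of_add_eq_zero_left (h.add_self v)

theorem Two.det {κ : Type} [Fintype κ] [DecidableEq κ] (h : Two F) (g : GL κ F) : (g : Matrix κ κ F).det = 1 := by
  apply h.eq_one
  have := (isUnit_iff_isUnit_det _).1 (Units.isUnit g)
  exact this.ne_zero

theorem Two.mem_sl {κ : Type} [Fintype κ] [DecidableEq κ] (h : Two F) (g : GL κ F) : g ∈ specialLinear κ F :=
  (mem_specialLinear_iff g).2 (h.det g)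

theorem Two.HS_eq {t : ℕ} (h : Two F) : HS m t F = tensorWreathStandard m t F := by
  apply le_antisymm inf_le_left
  exact le_inf le_rfl fun g _ => h.mem_sl g

theorem Two.dot (h : Two F) {a : Fin m → F} {α : Fin m → F} (h0 : α ⬝ᵥ a ≠ 0) : α ⬝ᵥ a = 1 := h.eq_one h0

end Basic

section Swap

variable {κ : Type} [Fintype κ] [DecidableEq κ] [Nonempty κ] {F : Type*} [Field F] {m : ℕ}
  {ρ ρ' : Matrix (Fin m) (Fin m) F →ₐ[F] Matrix κ κ F} {M : Subgroup (GL κ F)}

/-- product of rank one elements of two commuting embeddings: ranks -/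
theorem rank_pair_le (hc : Comm ρ ρ') {a α b β c γ d δ : Fin m → F} (hc0 : c ≠ 0) (hγ : γ ≠ 0) (hd : d ≠ 0)
    (hδ : δ ≠ 0) : (rk ρ a α * rk ρ' b β).rank ≤ (rk ρ c γ * rk ρ' d δ).rank := by
  obtain ⟨c', hc'⟩ := exists_dot_one' hc0
  obtain ⟨γ', hγ'⟩ := exists_dot_one hγ
  obtain ⟨d', hd'⟩ := exists_dot_one' hd
  obtain ⟨δ', hδ'⟩ := exists_dot_one hδ
  have h1 : rk ρ a α = rk ρ a c' * rk ρ c γ * rk ρ γ' α := by
    rw [rk_mul_rk, hc', one_smul, rk_mul_rk, hγ', one_smul]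
  have h2 : rk ρ' b β = rk ρ' b d' * rk ρ' d δ * rk ρ' δ' β := by
    rw [rk_mul_rk, hd', one_smul, rk_mul_rk, hδ', one_smul]
  have h3 : rk ρ a α * rk ρ' b β = (rk ρ a c' * rk ρ' b d') * (rk ρ c γ * rk ρ' d δ) * (rk ρ γ' α * rk ρ' δ' β) := by
    rw [h1, h2]
    have e1 : rk ρ γ' α * (rk ρ' b d' * rk ρ' d δ * rk ρ' δ' β) = (rk ρ' b d' * rk ρ' d δ) * (rk ρ γ' α * rk ρ' δ' β) := by
      have : Commute (rk ρ γ' α) (rk ρ' b d' * rk ρ' d δ) := (hc _ _ : Commute (rk ρ γ' α) (rk ρ' b d')).mul_right (hc _ _)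
      rw [← mul_assoc, this.eq, mul_assoc]
    have e2 : rk ρ c γ * rk ρ' b d' = rk ρ' b d' * rk ρ c γ := hc _ _
    calc rk ρ a c' * rk ρ c γ * rk ρ γ' α * (rk ρ' b d' * rk ρ' d δ * rk ρ' δ' β)
        = rk ρ a c' * rk ρ c γ * (rk ρ γ' α * (rk ρ' b d' * rk ρ' d δ * rk ρ' δ' β)) := by simp only [mul_assoc]
      _ = rk ρ a c' * (rk ρ c γ * rk ρ' b d') * rk ρ' d δ * (rk ρ γ' α * rk ρ' δ' β) := by
          rw [e1]; simp only [mul_assoc]
      _ = _ := by rw [e2]; simp only [mul_assoc]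
  rw [h3]
  exact (rank_mul_le_left _ _).trans (rank_mul_le_right _ _)

theorem pair_ne_zero (hc : Comm ρ ρ') {a α b β : Fin m → F} (ha : a ≠ 0) (hα : α ≠ 0) (hb : b ≠ 0) (hβ : β ≠ 0) :
    rk ρ a α * rk ρ' b β ≠ 0 := by
  intro h
  have h1 : Cen ρ (rk ρ' b β) := fun A => hc A _
  exact rk_ne_zero ρ' hb hβ (h1.eq_zero ha hα h)

/-- **The rank of a swap.** -/
theorem swap_rank (hT : Two F) {x : GL κ F} (hxx : x * x = 1)
    (hc : Comm ρ (cj x ρ)) {w : ℕ} (hw : ∀ a α, a ≠ 0 → α ≠ 0 → (rk ρ a α).rank = w)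
    (hr : ((x : Matrix κ κ F) - 1).rank ≤ w) {i0 i1 i2 : Fin m} (h01 : i0 ≠ i1) (h02 : i0 ≠ i2) (h12 : i1 ≠ i2) :
    (∀ i3 : Fin m, i3 = i0 ∨ i3 = i1 ∨ i3 = i2) ∧
    rk ρ (Pi.single i0 1) (Pi.single i0 1) * rk (cj x ρ) (Pi.single i0 1) (Pi.single i0 1) * (x : Matrix κ κ F) =
      rk ρ (Pi.single i0 1) (Pi.single i0 1) * rk (cj x ρ) (Pi.single i0 1) (Pi.single i0 1) := by
  let E : Fin m → Matrix κ κ F := fun i => rk ρ (Pi.single i 1) (Pi.single i 1)
  let E' : Fin m → Matrix κ κ F := fun i => rk (cj x ρ) (Pi.single i 1) (Pi.single i 1)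
  have hs : ∀ i : Fin m, (Pi.single i 1 : Fin m → F) ≠ 0 := fun i => by simp
  have hEE : ∀ i, E i * E i = E i := by
    intro i
    change rk ρ _ _ * rk ρ _ _ = _
    rw [rk_mul_rk, single_dotProduct, Pi.single_eq_same, mul_one, one_smul]
  have hEE0 : ∀ i j, i ≠ j → E i * E j = 0 := by
    intro i j hij
    change rk ρ _ _ * rk ρ _ _ = _
    rw [rk_mul_rk, single_dotProduct, Pi.single_eq_of_ne hij, mul_zero, zero_smul]
  have hE'E' : ∀ i, E' i * E' i = E' i := by
    intro i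
    change rk _ _ _ * rk _ _ _ = _
    rw [rk_mul_rk, single_dotProduct, Pi.single_eq_same, mul_one, one_smul]
  have hE'E'0 : ∀ i j, i ≠ j → E' i * E' j = 0 := by
    intro i j hij
    change rk _ _ _ * rk _ _ _ = _
    rw [rk_mul_rk, single_dotProduct, Pi.single_eq_of_ne hij, mul_zero, zero_smul]
  have hcom : ∀ i j, E' i * E j = E j * E' i := fun i j => (hc _ _).symm
  have hxE : ∀ i, (x : Matrix κ κ F) * E i = E' i * (x : Matrix κ κ F) := by
    intro i
    change _ = (x : Matrix κ κ F) * E i * ((x⁻¹ : GL κ F) : Matrix κ κ F) * (x : Matrix κ κ F)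
    rw [mul_assoc, Units.inv_mul, mul_one]
  have hxx' : (x : Matrix κ κ F) * (x : Matrix κ κ F) = 1 := by rw [← Units.val_mul, hxx, Units.val_one]
  have hxE' : ∀ i, (x : Matrix κ κ F) * E' i = E i * (x : Matrix κ κ F) := by
    intro i
    have h1 := hxE i
    calc (x : Matrix κ κ F) * E' i = (x : Matrix κ κ F) * (E' i * (x : Matrix κ κ F)) * (x : Matrix κ κ F) := by
          rw [mul_assoc, mul_assoc, hxx', mul_one]
      _ = E i * (x : Matrix κ κ F) := by rw [← h1, ← mul_assoc, hxx', one_mul]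
  -- the idempotent
  set T := E i0 * (1 - E' i0) + E i1 * E' i2 with hTdef
  set T' := E' i0 * (1 - E i0) + E' i1 * E i2 with hT'def
  have hxT : (x : Matrix κ κ F) * T = T' * (x : Matrix κ κ F) := by
    have e1 : (x : Matrix κ κ F) * (1 - E' i0) = (1 - E i0) * (x : Matrix κ κ F) := by
      rw [mul_sub, sub_mul, mul_one, one_mul, hxE']
    have e2 : (x : Matrix κ κ F) * (E i0 * (1 - E' i0)) = E' i0 * (1 - E i0) * (x : Matrix κ κ F) := by
      rw [← mul_assoc, hxE, mul_assoc, e1, mul_assoc]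
    have e3 : (x : Matrix κ κ F) * (E i1 * E' i2) = E' i1 * E i2 * (x : Matrix κ κ F) := by
      rw [← mul_assoc, hxE, mul_assoc, hxE', mul_assoc]
    rw [hTdef, hT'def, mul_add, add_mul, e2, e3]
  have a1 : E i0 * E i1 = 0 := hEE0 _ _ h01
  have a2 : E i1 * E i0 = 0 := hEE0 _ _ h01.symm
  have a3 : E i0 * E i2 = 0 := hEE0 _ _ h02
  have a4 : E' i2 * E' i0 = 0 := hE'E'0 _ _ h02.symm
  have a5 : E' i2 * E' i1 = 0 := hE'E'0 _ _ h12.symm
  have a6 : (1 - E' i0) * E' i0 = 0 := by rw [sub_mul, one_mul, hE'E', sub_self]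
  have a7 : (1 - E' i0) * (1 - E' i0) = 1 - E' i0 := by
    rw [mul_sub, a6, sub_zero, mul_one]
  have a8 : (1 - E' i0) * E i0 = E i0 * (1 - E' i0) := by rw [sub_mul, mul_sub, hcom, one_mul, mul_one]
  have a9 : (1 - E' i0) * E i1 = E i1 * (1 - E' i0) := by rw [sub_mul, mul_sub, hcom, one_mul, mul_one]
  have hTT : T * T = T := by
    have e1 : E i0 * (1 - E' i0) * (E i0 * (1 - E' i0)) = E i0 * (1 - E' i0) := by
      rw [mul_assoc, ← mul_assoc (1 - E' i0), a8, mul_assoc (E i0), a7, ← mul_assoc, hEE]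
    have e2 : E i0 * (1 - E' i0) * (E i1 * E' i2) = 0 := by
      rw [mul_assoc, ← mul_assoc (1 - E' i0), a9, ← mul_assoc, ← mul_assoc, a1, zero_mul, zero_mul]
    have e3 : E i1 * E' i2 * (E i0 * (1 - E' i0)) = 0 := by
      rw [mul_assoc, ← mul_assoc (E' i2), hcom, ← mul_assoc, ← mul_assoc, a2, zero_mul, zero_mul]
    have e4 : E i1 * E' i2 * (E i1 * E' i2) = E i1 * E' i2 := by
      rw [mul_assoc, ← mul_assoc (E' i2), hcom, mul_assoc (E i1), hE'E', ← mul_assoc, hEE]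
    rw [hTdef, add_mul, mul_add, mul_add, e1, e2, e3, e4, add_zero, zero_add]
  have hTT' : T * T' = 0 := by
    have e1 : E i0 * (1 - E' i0) * (E' i0 * (1 - E i0)) = 0 := by
      rw [mul_assoc, ← mul_assoc (1 - E' i0), a6, zero_mul, mul_zero]
    have e2 : E i0 * (1 - E' i0) * (E' i1 * E i2) = 0 := by
      rw [hcom, mul_assoc, ← mul_assoc (1 - E' i0)]
      have : (1 - E' i0) * E i2 = E i2 * (1 - E' i0) := by rw [sub_mul, mul_sub, hcom, one_mul, mul_one]
      rw [this, ← mul_assoc, ← mul_assoc, a3, zero_mul, zero_mul]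
    have e3 : E i1 * E' i2 * (E' i0 * (1 - E i0)) = 0 := by
      rw [mul_assoc, ← mul_assoc (E' i2), a4, zero_mul, mul_zero]
    have e4 : E i1 * E' i2 * (E' i1 * E i2) = 0 := by
      rw [mul_assoc, ← mul_assoc (E' i2), a5, zero_mul, mul_zero]
    rw [hTdef, hT'def, add_mul, mul_add, mul_add, e1, e2, e3, e4, add_zero, add_zero]
  have hTR : T * (((x : Matrix κ κ F) - 1) * T) = -T := by
    rw [sub_mul, one_mul, hxT, mul_sub, ← mul_assoc, hTT', zero_mul, zero_sub, hTT]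
  -- rank of T
  have hrT : w ≤ T.rank := by
    have h1 : (E i0 * (1 - E' i0)).rank + (E i1 * E' i2).rank ≤ T.rank := by
      apply rank_add_of_sep (P := E i0) (Q := E i0)
      · rw [← mul_assoc, hEE]
      · rw [← mul_assoc, a1, zero_mul]
      · rw [mul_assoc, a8, ← mul_assoc, hEE]
      · rw [mul_assoc, hcom, ← mul_assoc, a2, zero_mul]
    have h2 : w ≤ (E i0 * (1 - E' i0)).rank + (E i0 * E' i0).rank := by
      have h3 := rank_add_le' (E i0 * (1 - E' i0)) (E i0 * E' i0)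
      rw [← mul_add, sub_add_cancel, mul_one] at h3
      rw [← hw _ _ (hs i0) (hs i0)]
      exact h3
    have h3 : (E i0 * E' i0).rank ≤ (E i1 * E' i2).rank := rank_pair_le hc (hs _) (hs _) (hs _) (hs _)
    omega
  have hrR : ((x : Matrix κ κ F) - 1).rank ≤ (((x : Matrix κ κ F) - 1) * T).rank := by
    have h1 : T.rank ≤ (((x : Matrix κ κ F) - 1) * T).rank := by
      have h2 : T = -(T * (((x : Matrix κ κ F) - 1) * T)) := by rw [hTR, neg_neg]
      calc T.rank = (T * (((x : Matrix κ κ F) - 1) * T)).rank := by rw [hTR, hT.neg]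
        _ ≤ _ := rank_mul_le_right _ _
    omega
  have key : ∀ Z : Matrix κ κ F, Z * T = 0 → Z * T' = 0 → Z * ((x : Matrix κ κ F) - 1) = 0 := by
    intro Z h1 h2
    apply mul_eq_zero_of_rank hrR
    rw [sub_mul, one_mul, hxT, mul_sub, ← mul_assoc, h1, h2, zero_mul, sub_zero]
  refine ⟨?_, ?_⟩
  · intro i3
    by_contra hcon
    push Not at hcon
    obtain ⟨b0, b1, b2⟩ := hcon
    have h1 := key (E i1 * E' i3) (by
      rw [hTdef, mul_add, mul_assoc, ← mul_assoc (E' i3), hcom, ← mul_assoc, ← mul_assoc, a2, zero_mul, zero_mul,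
        zero_add, mul_assoc (E i1), ← mul_assoc (E' i3), hcom, mul_assoc (E i1), hE'E'0 _ _ b2, mul_zero, mul_zero]) (by
      rw [hT'def, mul_add, mul_assoc, ← mul_assoc (E' i3), hE'E'0 _ _ b0, zero_mul, mul_zero, zero_add,
        mul_assoc (E i1), ← mul_assoc (E' i3), hE'E'0 _ _ b1, zero_mul, mul_zero])
    rw [mul_sub, mul_one, sub_eq_zero] at h1
    -- P x = P, P x = x P', P' P = 0
    have h2' : (x : Matrix κ κ F) * (E' i1 * E i3) = E i1 * E' i3 * (x : Matrix κ κ F) := by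
      rw [← mul_assoc, hxE', mul_assoc, hxE, ← mul_assoc]
    have h2 := h2'.symm
    have h3 : E i1 * E' i3 = 0 := by
      calc E i1 * E' i3 = E i1 * E' i3 * (E i1 * E' i3) := by
            rw [mul_assoc, ← mul_assoc (E' i3), hcom, mul_assoc (E i1), hE'E', ← mul_assoc, hEE]
        _ = (x : Matrix κ κ F) * (E' i1 * E i3) * (E i1 * E' i3) := by rw [← h2, h1]
        _ = 0 := by rw [mul_assoc, mul_assoc (E' i1), ← mul_assoc (E i3), hEE0 _ _ b1, zero_mul, mul_zero, mul_zero]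
    exact pair_ne_zero hc (hs _) (hs _) (hs _) (hs _) h3
  · have h1 := key (E i0 * E' i0) (by
      rw [hTdef, mul_add, mul_assoc, ← mul_assoc (E' i0), hcom, mul_assoc (E i0) (E' i0)]
      have : E' i0 * (1 - E' i0) = 0 := by rw [mul_sub, mul_one, hE'E', sub_self]
      rw [this, mul_zero, mul_zero, zero_add, mul_assoc (E i0), ← mul_assoc (E' i0), hcom, ← mul_assoc, ← mul_assoc,
        a1, zero_mul, zero_mul]) (by
      rw [hT'def, mul_add, mul_assoc, ← mul_assoc (E' i0), hE'E', mul_sub, mul_one, mul_sub, hcom, ← mul_assoc, hEE,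
        sub_self, zero_add, mul_assoc (E i0), ← mul_assoc (E' i0), hE'E'0 _ _ h01, zero_mul, mul_zero])
    rw [mul_sub, mul_one, sub_eq_zero] at h1
    exact h1

end Swap

end Cfsg.Agent.H873.Wr
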