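import Cfsg.Agent.H873.WrTwo2

/-!
Two-element fields: an `M`-conjugate of a slot root lying in the wreath subgroup is a slot root.
-/

set_option autoImplicit false
set_option linter.unusedSectionVars false
set_option linter.unusedSimpArgs false
set_option linter.unusedVariables false

namespace Cfsg.Agent.H873.Wr

open Matrix Cfsg.Agent.H919 Cfsg.Geo

variable {F : Type*} [Field F] {t m : ℕ}

/-- conjugation by an element of the wreath subgroup permutes the slots -/
theorem conj_slot [Nonempty (Fin t → Fin m)] (g : Fin t → GL (Fin m) F) (σ : Equiv.Perm (Fin t)) (i : Fin t) (A : Matrix (Fin m) (Fin m) F) :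
    conjA (pureGL g * facPerm F m σ) (slotEmb i A) =
      slotEmb (σ i) ((g (σ i) : Matrix (Fin m) (Fin m) F) * A * (((g (σ i))⁻¹ : GL (Fin m) F) : Matrix (Fin m) (Fin m) F)) := by
  rw [conjA_mul, conjA_apply (facPerm F m σ), slotEmb_apply, slotMat_apply_facPerm, conjA_apply, pureGL_val,
    pureGL_inv_val, slotEmb_apply, slotMat, slotMat, pureMat_mul, pureMat_mul]
  congr 1
  funext j
  by_cases h : j = σ i
  · subst h; simp
  · simp [Function.update_of_ne h]

/-- an element of slot `i` conjugated into slot `σ i` -/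
theorem std_cj [Nonempty (Fin t → Fin m)] {x : GL (Fin t → Fin m) F} (hx : x ∈ tensorWreathStandard m t F) :
    ∃ σ : Equiv.Perm (Fin t), ∀ i, RLe (cj x (slotEmb (F := F) (m := m) i)) (slotEmb (σ i)) := by
  obtain ⟨g, σ, rfl⟩ := mem_std hx
  exact ⟨σ, fun i A => ⟨_, (conj_slot g σ i A).symm⟩⟩

/-- **Conjugates of roots inside the wreath subgroup are roots of slots.** -/
theorem root_of_conj {M : Subgroup (GL (Fin t → Fin m) F)} (hT : Two F) (hm : 3 ≤ m)
    (hHM : HS m t F ≤ M) (hM : ¬ specialLinear (Fin t → Fin m) F ≤ M) {i : Fin t} {a α : Fin m → F}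
    (ha : a ≠ 0) (hα : α ≠ 0) (h0 : α ⬝ᵥ a = 0) {g : GL (Fin t → Fin m) F} (hg : g ∈ M)
    (h : InM (tensorWreathStandard m t F) (conjA g (rk (slotEmb i) a α))) :
    ∃ (j : Fin t) (b β : Fin m → F), b ≠ 0 ∧ β ≠ 0 ∧ β ⬝ᵥ b = 0 ∧
      conjA g (rk (slotEmb i) a α) = rk (slotEmb j) b β := by
  have hne : Nonempty (Fin t → Fin m) := ⟨fun _ => ⟨0, by omega⟩⟩
  set Y := conjA g (rk (slotEmb i) a α) with hY
  have hYY : Y * Y = 0 := by
    rw [hY, ← map_mul, rk_sq h0, map_zero]
  have hY0 : Y ≠ 0 := by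
    intro h1
    apply rk_ne_zero (slotEmb (F := F) (m := m) i) ha hα
    apply (conjA g).injective
    rw [map_zero]
    exact h1
  set w := (rk (slotEmb i) a α).rank with hwdef
  have hw : ∀ (j : Fin t) (b β : Fin m → F), b ≠ 0 → β ≠ 0 → (rk (slotEmb j) b β).rank = w :=
    slot_rank_eq (i := i) fun b β hb hβ => rank_rk_eq hb hβ ha hα
  have hYr : Y.rank = w := rank_conjA _ _
  obtain ⟨x, hx, hxY⟩ := h
  -- the sum of the square-zero condition
  have fin : ∀ (j : Fin t) (A : Matrix (Fin m) (Fin m) F), slotEmb j A = Y → ∃ (j : Fin t) (b β : Fin m → F), b ≠ 0 ∧ β ≠ 0 ∧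
      β ⬝ᵥ b = 0 ∧ Y = rk (slotEmb j) b β := by
    intro j A hA
    obtain ⟨b, β, rfl⟩ := exists_vecMulVec_of_rank_le (ρ := slotEmb (F := F) (m := m) j) (w := w)
      (fun a α ha hα => (hw j a α ha hα).ge) (A := A) (by rw [hA, hYr])
    have hb : b ≠ 0 := by
      rintro rfl
      apply hY0
      rw [← hA, zero_vecMulVec, map_zero]
    have hβ : β ≠ 0 := by
      rintro rfl
      apply hY0
      rw [← hA, vecMulVec_zero, map_zero]
    refine ⟨j, b, β, hb, hβ, ?_, hA.symm⟩
    by_contra hne0
    rw [← hA] at hYY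
    change rk (slotEmb j) b β * rk (slotEmb j) b β = 0 at hYY
    rw [rk_mul_rk] at hYY
    exact rk_ne_zero _ hb hβ ((smul_eq_zero.1 hYY).resolve_left hne0)
  obtain ⟨x', σ, hxx'⟩ := mem_std hx
  by_cases hσ : σ = 1
  · subst hσ
    rw [facPerm_one, mul_one] at hxx'
    rw [hxx'] at hxY
    by_cases hs : ∃ j, ¬ ∃ c : F, (x' j : Matrix (Fin m) (Fin m) F) = c • (1 : Matrix (Fin m) (Fin m) F)
    · obtain ⟨j, hj⟩ := hs
      have h2 := pureGL_factor x' j
      obtain ⟨c, hc⟩ := scalar_of_rank_le (ρ := slotEmb j) hm (w := w) (fun a α ha hα => (hw j a α ha hα).ge)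
        (cen_pureGL x' j) (by rw [← h2, hxY, add_sub_cancel_left]; exact hYr.le) hj
      apply fin j (c • (x' j : Matrix (Fin m) (Fin m) F) - 1)
      have h3 : Y = (pureGL x' : Matrix (Fin t → Fin m) (Fin t → Fin m) F) - 1 := by rw [hxY, add_sub_cancel_left]
      rw [h3, h2, hc, mul_smul_comm, mul_one, map_sub, map_smul, map_one]
    · exfalso
      push Not at hs
      have hs' : ∀ j, x' j = 1 := by
        intro j
        obtain ⟨c, hc⟩ := hs j
        apply Units.ext
        rw [hc]
        have hc0 : c ≠ 0 := by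
          rintro rfl
          rw [zero_smul] at hc
          have : Nonempty (Fin m) := ⟨⟨0, by omega⟩⟩
          exact (x' j).ne_zero hc
        rw [hT.eq_one hc0, one_smul, Units.val_one]
      have h4 : pureGL x' = 1 := by
        rw [← pureGL_one]
        congr 1
        funext j
        exact hs' j
      rw [h4, Units.val_one] at hxY
      exact hY0 (by simpa using hxY.symm)
  · exfalso
    obtain ⟨k, hk⟩ : ∃ k, σ k ≠ k := by
      by_contra hcon
      push Not at hcon
      exact hσ (Equiv.ext hcon)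
    have hxM : x ∈ M := hHM (by rw [hT.HS_eq]; exact hx)
    have hxx2 : x * x = 1 := by
      apply Units.ext
      rw [Units.val_mul, hxY, mul_add, add_mul, add_mul, hYY, mul_one, one_mul, mul_one, add_zero, add_assoc,
        hT.add_self, add_zero, Units.val_one]
    have hc : Comm (slotEmb (F := F) (m := m) k) (cj x (slotEmb k)) := by
      intro A B
      rw [cj_apply, hxx', conj_slot]
      exact slotMat_commute (fun h => hk h.symm) _ _
    have h1 := swap_rank (i0 := ⟨0, by omega⟩) (i1 := ⟨1, by omega⟩) (i2 := ⟨2, by omega⟩) hT hxx2 hc (hw k)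
      (by rw [hxY, add_sub_cancel_left]; exact hYr.le) (by simp) (by simp) (by simp)
    obtain ⟨h1, h2⟩ := h1
    have hm3 : m = 3 := by
      by_contra hne3
      have := h1 ⟨3, by omega⟩
      simp at this
    subst hm3
    exact no_swap hT (ge_slot hHM hm hM k) ((ge_slot hHM hm hM i).cj hg) ha hα h0 hxM hxY hc h2

end Cfsg.Agent.H873.Wr
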