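import Cfsg.Agent.H873.WrTI

/-!
Two-element fields: the final contradiction.
-/

set_option autoImplicit false
set_option linter.unusedSectionVars false
set_option linter.unusedSimpArgs false
set_option linter.unusedVariables false

namespace Cfsg.Agent.H873.Wr

open Matrix Cfsg.Agent.H919 Cfsg.Geo

/-! ### Transvections -/

section Tv

variable {F : Type*} [Field F] {m : ℕ}

/-- a transvection -/
def Rt (g : GL (Fin m) F) : Prop := ∃ (a α : Fin m → F), a ≠ 0 ∧ α ≠ 0 ∧ ∃ h : α ⬝ᵥ a = 0, g = tv a α h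

theorem Rt.sq (hT : Two F) {g : GL (Fin m) F} (hg : Rt g) : g * g = 1 := by
  obtain ⟨a, α, -, -, h, rfl⟩ := hg
  apply Units.ext
  rw [Units.val_mul, coe_tv, mul_add, add_mul, add_mul, vecMulVec_mul_vecMulVec, h, zero_smul, vecMulVec_zero, mul_one,
    one_mul, mul_one, add_zero, add_assoc, hT.add_self, add_zero, Units.val_one]

theorem Rt.inv (hT : Two F) {g : GL (Fin m) F} (hg : Rt g) : g⁻¹ = g := by
  rw [inv_eq_iff_mul_eq_one, hg.sq hT]

theorem Rt.eq_K (hm : 3 ≤ m) {g : GL (Fin m) F} (hg : Rt g) : ∃ g1 g2, Rt g1 ∧ Rt g2 ∧ K g1 g2 = g := by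
  obtain ⟨a, α, ha, hα, h, rfl⟩ := hg
  obtain ⟨b, β, h1, h2, h3⟩ := exists_bridge a α hm
  have hβ : β ≠ 0 := by rintro rfl; rw [zero_dotProduct] at h3; exact zero_ne_one h3
  have hb : b ≠ 0 := by rintro rfl; rw [dotProduct_zero] at h3; exact zero_ne_one h3
  exact ⟨tv a β h2, tv b α h1, ⟨a, β, ha, hβ, h2, rfl⟩, ⟨b, α, hb, hα, h1, rfl⟩, tv_commutator h h1 h2 h3⟩

/-- the product of two transvections -/
theorem Rt.cases (hT : Two F) {u v : GL (Fin m) F} (hu : Rt u) (hv : Rt v) :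
    (u * v = v * u ∧ (m = 3 → u * v = 1 ∨ Rt (u * v))) ∨ (u * v) ^ 3 = 1 ∨ Rt ((u * v) ^ 2) := by
  have huu := hu.sq hT
  have hvv := hv.sq hT
  have hui := hu.inv hT
  have hvi := hv.inv hT
  obtain ⟨e, φ, he, hφ, h, hue⟩ := id hu
  obtain ⟨e', φ', he', hφ', h', hve⟩ := id hv
  rcases hT (φ ⬝ᵥ e') with ha | ha <;> rcases hT (φ' ⬝ᵥ e) with hb | hb
  · left
    have h1 : ((u * v : GL (Fin m) F) : Matrix (Fin m) (Fin m) F) = 1 + (vecMulVec e φ + vecMulVec e' φ') := by
      rw [hue, hve, Units.val_mul, coe_tv, coe_tv, mul_add, add_mul, mul_one, mul_one, add_mul, one_mul,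
        vecMulVec_mul_vecMulVec, ha, zero_smul, vecMulVec_zero, add_zero, add_assoc]
    have h2 : ((v * u : GL (Fin m) F) : Matrix (Fin m) (Fin m) F) = 1 + (vecMulVec e φ + vecMulVec e' φ') := by
      rw [hue, hve, Units.val_mul, coe_tv, coe_tv, mul_add, add_mul, mul_one, mul_one, add_mul, one_mul,
        vecMulVec_mul_vecMulVec, hb, zero_smul, vecMulVec_zero, add_zero, add_assoc,
        add_comm (vecMulVec e φ) (vecMulVec e' φ')]
    refine ⟨Units.ext (h1.trans h2.symm), ?_⟩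
    intro hm3
    subst hm3
    by_cases hφφ : φ' = φ
    · subst hφφ
      by_cases hee : e + e' = 0
      · left
        apply Units.ext
        rw [h1, ← add_vecMulVec, hee, zero_vecMulVec, add_zero, Units.val_one]
      · right
        refine ⟨e + e', φ', hee, hφ', by rw [dotProduct_add, h, h', add_zero], ?_⟩
        apply Units.ext
        rw [h1, ← add_vecMulVec, coe_tv]
    · have hee : e' = e := by
        obtain ⟨k, v0, hk, hv0, hke, hspan⟩ := exists_plane he hφ h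
        obtain ⟨x, y, z, hxyz⟩ := hspan e'
        have hz : z = 0 := by
          have := congrArg (fun w => φ ⬝ᵥ w) hxyz
          simp only [dotProduct_add, dotProduct_smul, h, hk, hv0, ha, smul_eq_mul, mul_one, mul_zero, zero_add] at this
          exact this.symm
        rw [hz, zero_smul, add_zero] at hxyz
        rcases hT y with hy | hy
        · rw [hy, zero_smul, add_zero] at hxyz
          have hx : x ≠ 0 := by
            rintro rfl
            rw [zero_smul] at hxyz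
            exact he' hxyz
          rw [hxyz, hT.eq_one hx, one_smul]
        · exfalso
          rw [hy, one_smul] at hxyz
          have hφk : φ' ⬝ᵥ k = 0 := by
            have := congrArg (fun w => φ' ⬝ᵥ w) hxyz
            simp only [dotProduct_add, dotProduct_smul, h', hb, smul_zero, zero_add] at this
            exact this.symm
          have h3 : ∀ w, φ' ⬝ᵥ w = (φ' ⬝ᵥ v0) * (φ ⬝ᵥ w) := by
            intro w
            obtain ⟨p, q, r, rfl⟩ := hspan w
            simp only [dotProduct_add, dotProduct_smul, h, hk, hv0, hφk, hb, smul_zero, smul_eq_mul, mul_one, zero_add]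
            ring
          have h4 : φ' ⬝ᵥ v0 = 1 := by
            apply hT.eq_one
            intro h5
            apply hφ'
            ext i
            have := h3 (Pi.single i 1)
            rw [h5, zero_mul] at this
            simpa using this
          apply hφφ
          ext i
          have := h3 (Pi.single i 1)
          rw [h4, one_mul] at this
          simpa using this
      subst hee
      right
      refine ⟨e', φ + φ', he, ?_, by rw [add_dotProduct, h, h', add_zero], ?_⟩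
      · intro h5
        apply hφφ
        have := add_eq_zero_iff_eq_neg.1 h5
        rw [this, hT.neg]
      · apply Units.ext
        rw [h1, ← vecMulVec_add, coe_tv]
  · -- φ e' = 0, φ' e = 1
    right; right
    have h1 := tv_commutator (a := e') (α := φ) (b := e) (β := φ') ha h h' hb
    rw [← hue, ← hve, hui, hvi] at h1
    have h2 : Rt (tv e' φ ha) := ⟨e', φ, he', hφ, ha, rfl⟩
    have h3 : (u * v) ^ 2 = tv e' φ ha := by
      rw [← h2.inv hT, ← h1, pow_two]
      simp only [_root_.mul_inv_rev, hui, hvi, mul_assoc]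
    rw [h3]
    exact h2
  · -- φ e' = 1, φ' e = 0
    right; right
    have h1 := tv_commutator (a := e) (α := φ') (b := e') (β := φ) hb h' h ha
    rw [← hue, ← hve, hui, hvi] at h1
    have h2 : Rt (tv e φ' hb) := ⟨e, φ', he, hφ', hb, rfl⟩
    have h3 : (u * v) ^ 2 = tv e φ' hb := by
      rw [← h1, pow_two]
      simp only [mul_assoc]
    rw [h3]
    exact h2
  · right; left
    have key : u * v * u = v * u * v := by
      apply Units.ext
      rw [hue, hve]
      simp only [Units.val_mul, coe_tv]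
      have e1 : vecMulVec e φ * vecMulVec e φ = 0 := by rw [vecMulVec_mul_vecMulVec, h, zero_smul, vecMulVec_zero]
      have e2 : vecMulVec e' φ' * vecMulVec e' φ' = 0 := by
        rw [vecMulVec_mul_vecMulVec, h', zero_smul, vecMulVec_zero]
      have e3 : vecMulVec e φ * vecMulVec e' φ' = vecMulVec e φ' := by
        rw [vecMulVec_mul_vecMulVec, ha, one_smul]
      have e4 : vecMulVec e' φ' * vecMulVec e φ = vecMulVec e' φ := by
        rw [vecMulVec_mul_vecMulVec, hb, one_smul]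
      have e5 : vecMulVec e φ' * vecMulVec e φ = vecMulVec e φ := by
        rw [vecMulVec_mul_vecMulVec, hb, one_smul]
      have e6 : vecMulVec e' φ * vecMulVec e' φ' = vecMulVec e' φ' := by
        rw [vecMulVec_mul_vecMulVec, ha, one_smul]
      simp only [add_mul, mul_add, one_mul, mul_one, e1, e2, e3, e4, e5, e6]
      have d1 := hT.add_self (vecMulVec e φ)
      have d2 := hT.add_self (vecMulVec e' φ')
      have l1 : (1 + vecMulVec e φ + (vecMulVec e' φ' + vecMulVec e φ') + (vecMulVec e φ + 0 + (vecMulVec e' φ + vecMulVec e φ))) =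
          1 + vecMulVec e φ + vecMulVec e' φ' + vecMulVec e φ' + vecMulVec e' φ + (vecMulVec e φ + vecMulVec e φ) := by
        abel
      have l2 : (1 + vecMulVec e' φ' + (vecMulVec e φ + vecMulVec e' φ) + (vecMulVec e' φ' + 0 + (vecMulVec e φ' + vecMulVec e' φ'))) =
          1 + vecMulVec e φ + vecMulVec e' φ' + vecMulVec e φ' + vecMulVec e' φ + (vecMulVec e' φ' + vecMulVec e' φ') := by
        abel
      rw [l1, l2, d1, d2]
    calc (u * v) ^ 3 = (u * v * u) * (v * u * v) := by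
          rw [pow_succ, pow_two]; simp only [mul_assoc]
      _ = (u * v * u) * (u * v * u) := by rw [← key]
      _ = u * (v * (u * u) * v) * u := by simp only [mul_assoc]
      _ = 1 := by rw [huu, mul_one, hvv, mul_one, huu]

theorem Rt.pow12 (hT : Two F) {u v : GL (Fin m) F} (hu : Rt u) (hv : Rt v) : (u * v) ^ 12 = 1 := by
  rcases hu.cases hT hv with ⟨h, -⟩ | h | h
  · have h1 : (u * v) ^ 2 = 1 := by
      rw [pow_two]
      calc u * v * (u * v) = u * v * (v * u) := by rw [← h]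
        _ = u * (v * v) * u := by simp only [mul_assoc]
        _ = 1 := by rw [hv.sq hT, mul_one, hu.sq hT]
    rw [show 12 = 2 * 6 from rfl, pow_mul, h1, one_pow]
  · rw [show 12 = 3 * 4 from rfl, pow_mul, h, one_pow]
  · have h1 : (u * v) ^ 4 = 1 := by
      rw [show 4 = 2 * 2 from rfl, pow_mul, pow_two, h.sq hT]
    rw [show 12 = 4 * 3 from rfl, pow_mul, h1, one_pow]

end Tv

variable {F : Type*} [Field F] {t m : ℕ}

/-- the base group -/
def pureHom (F : Type*) [Field F] (t m : ℕ) : (Fin t → GL (Fin m) F) →* GL (Fin t → Fin m) F :=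
  MonoidHom.mk' pureGL fun a b => (pureGL_mul a b).symm

theorem pureHom_single (i : Fin t) (g : GL (Fin m) F) : pureHom F t m (Pi.mulSingle i g) = slotGL i g := by
  apply Units.ext
  rw [slotGL_val, slotEmb_apply, slotMat]
  change pureMat _ = _
  congr 1
  funext j
  by_cases h : j = i
  · subst h; simp
  · simp [Function.update_of_ne h, Pi.mulSingle_eq_of_ne h]

theorem isRt_slotGL {i : Fin t} {g : GL (Fin m) F} (hg : Rt g) : IsRt i (slotGL i g) := by
  obtain ⟨a, α, ha, hα, h, rfl⟩ := hg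
  exact ⟨a, α, ha, hα, h, by rw [slotGL_val, coe_tv, map_add, map_one]; rfl⟩

theorem IsRt.exists_rt {i : Fin t} {s : GL (Fin t → Fin m) F} (hs : IsRt i s) : ∃ g, Rt g ∧ s = slotGL i g := by
  obtain ⟨a, α, ha, hα, h, he⟩ := hs
  refine ⟨tv a α h, ⟨a, α, ha, hα, h, rfl⟩, ?_⟩
  apply Units.ext
  rw [he, slotGL_val, coe_tv, map_add, map_one]
  rfl

theorem inL_slotGL (i : Fin t) (g : GL (Fin m) F) : InL i (slotGL i g) := ⟨_, slotGL_val i g⟩

theorem slotGL_injective (hm : 0 < m) (i : Fin t) : Function.Injective (slotGL (F := F) (m := m) i) := by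
  have hne : Nonempty (Fin t → Fin m) := ⟨fun _ => ⟨0, hm⟩⟩
  intro a b hab
  apply Units.ext
  apply ρ_injective (slotEmb (F := F) (m := m) i)
  rw [← slotGL_val, ← slotGL_val, hab]

variable {M : Subgroup (GL (Fin t → Fin m) F)}

/-- the basic move -/
theorem Ctx.pick [Finite F] (h : Ctx M) {i0 : Fin t} {g0 s : GL (Fin t → Fin m) F} (hg0 : g0 ∈ M) (hs : IsRt i0 s)
    {y : GL (Fin t → Fin m) F} (hy : y ∈ Str M) : ∃ j x'', IsRt j x'' ∧ ∀ (n : ℕ) z, (y * x'') ^ n = z → z * z = 1 →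
      (g0 * s * g0⁻¹) * z * (g0 * s * g0⁻¹)⁻¹ = z := by
  have hne := h.ne
  obtain ⟨l, hl, k, hk, hgl⟩ := h.transfer (Subgroup.closure {y, g0 * s * g0⁻¹}) hy (hs.str h) hg0
    (Subgroup.subset_closure (by simp)) (Subgroup.subset_closure (by simp))
  obtain ⟨j, hj⟩ := (h.ti hs (h.hHM hk) (Subgroup.mul_mem _ (Subgroup.mul_mem _ hk (hs.mem h)) (Subgroup.inv_mem _ hk))).2
  refine ⟨j, _, hj, ?_⟩
  intro n z hz hzz
  have hss := hs.sq h.two
  refine dihedral hy.2.1 ?_ hl ?_ hz hzz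
  · calc g0 * s * g0⁻¹ * (g0 * s * g0⁻¹) = g0 * (s * s) * g0⁻¹ := by group
      _ = 1 := by rw [hss]; group
  · rw [hgl]; group

theorem Ctx.noStr (h : Ctx M) {i0 : Fin t} {g0 s : GL (Fin t → Fin m) F} (hg0 : g0 ∈ M)
    (hg0H : g0 ∉ tensorWreathStandard m t F) (hs : IsRt i0 s) {z : GL (Fin t → Fin m) F} (hz : z ∈ Str M)
    (hzc : (g0 * s * g0⁻¹) * z * (g0 * s * g0⁻¹)⁻¹ = z) : False := by
  have h1 : g0 * s * g0⁻¹ ∈ tensorWreathStandard m t F :=
    str_cent hz (M.mul_mem (M.mul_mem hg0 (h.hHM (hs.mem h))) (M.inv_mem hg0)) hzc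
  exact hg0H (h.ti hs hg0 h1).1

/-- **Contradiction for `m = 3`.** -/
theorem Ctx.false_three {M : Subgroup (GL (Fin t → Fin 3) F)} [Finite F] (h : Ctx M) {g0 : GL (Fin t → Fin 3) F}
    (hg0 : g0 ∈ M) (hg0H : g0 ∉ tensorWreathStandard 3 t F) : False := by
  have hne := h.ne
  have ht := h.ht
  have hT := h.two
  let i0 : Fin t := ⟨0, by omega⟩
  obtain ⟨a, ha⟩ := exists_ne_zero_vec (F := F) (m := 3) le_rfl
  obtain ⟨φ, hφ, hφa, -⟩ := exists_two (a := a) (b := a) le_rfl
  set s := slotGL (F := F) (m := 3) i0 (tv a φ hφa) with hsd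
  have hr0 : Rt (tv a φ hφa) := ⟨a, φ, ha, hφ, hφa, rfl⟩
  have hs : IsRt i0 s := isRt_slotGL hr0
  set x' := g0 * s * g0⁻¹ with hx'
  let A : Subgroup (Fin t → GL (Fin 3) F) := (Subgroup.centralizer {x'}).comap (pureHom F t 3)
  have hA : ∀ f, f ∈ A ↔ x' * pureHom F t 3 f * x'⁻¹ = pureHom F t 3 f := by
    intro f
    rw [Subgroup.mem_comap, Subgroup.mem_centralizer_singleton_iff, mul_inv_eq_iff_eq_mul]
    exact ⟨fun h => h.symm, fun h => h.symm⟩
  -- no strong element in `A`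
  have hno : ∀ z : GL (Fin t → Fin 3) F, z ∈ Str M → x' * z * x'⁻¹ = z → False := fun z hz hzc =>
    h.noStr hg0 hg0H hs hz hzc
  -- half of the analysis
  have half : ∀ (i j : Fin t), i ≠ j → ∀ u v : GL (Fin 3) F, Rt u → Rt v → ∀ x'', IsRt i x'' →
      (∀ (n : ℕ) z, (slotGL i u * slotGL j v * x'') ^ n = z → z * z = 1 → x' * z * x'⁻¹ = z) → False := by
    intro i j hij u v hu hv x'' hx'' hn
    obtain ⟨w, hw, rfl⟩ := hx''.exists_rt
    have hcomm : slotGL j v * slotGL i w = slotGL i w * slotGL (F := F) (m := 3) j v :=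
      comm_of_ne hij.symm (inL_slotGL j v) (inL_slotGL i w)
    have h1 : slotGL i u * slotGL j v * slotGL i w = slotGL i (u * w) * slotGL (F := F) (m := 3) j v := by
      rw [mul_assoc, hcomm, ← mul_assoc, ← map_mul]
    have hpow : ∀ n : ℕ, (slotGL i u * slotGL j v * slotGL i w) ^ n = slotGL i ((u * w) ^ n) * slotGL (F := F) (m := 3) j (v ^ n) := by
      intro n
      rw [h1, Commute.mul_pow (comm_of_ne hij (inL_slotGL i (u * w)) (inL_slotGL j v)), map_pow, map_pow]
    have hvs := (isRt_slotGL (i := j) hv)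
    rcases hu.cases hT hw with ⟨hc, h3⟩ | h3 | h3
    · rcases h3 rfl with h4 | h4
      · have h5 := hn 1 _ (hpow 1) (by
          rw [pow_one, h4, map_one, one_mul, pow_one, ← map_mul, hv.sq hT, map_one])
        rw [pow_one, h4, map_one, one_mul, pow_one] at h5
        exact hno _ (hvs.str h) h5
      · have h6 := h.str_pair hij (isRt_slotGL (i := i) h4) hvs
        have h5 := hn 1 _ (hpow 1) (by rw [pow_one, pow_one]; exact h6.2.1)
        rw [pow_one, pow_one] at h5
        exact hno _ h6 h5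
    · have h7 : v ^ 3 = v := by rw [pow_succ, pow_two, hv.sq hT, one_mul]
      have h5 := hn 3 _ (hpow 3) (by
        rw [h3, map_one, one_mul, h7, ← map_mul, hv.sq hT, map_one])
      rw [h3, map_one, one_mul, h7] at h5
      exact hno _ (hvs.str h) h5
    · have h7 : v ^ 2 = 1 := by rw [pow_two, hv.sq hT]
      have h6 := isRt_slotGL (i := i) h3
      have h5 := hn 2 _ (hpow 2) (by
        rw [h7, map_one, mul_one]; exact h6.sq hT)
      rw [h7, map_one, mul_one] at h5
      exact hno _ (h6.str h) h5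
  -- triples
  have hT3 : ∀ (i j : Fin t), i ≠ j → ∀ u v : GL (Fin 3) F, Rt u → Rt v → ∃ k, k ≠ i ∧ k ≠ j ∧ ∃ w : GL (Fin 3) F, Rt w ∧
      Pi.mulSingle i u * Pi.mulSingle j v * Pi.mulSingle k w ∈ A := by
    intro i j hij u v hu hv
    obtain ⟨k, x'', hx'', hn⟩ := h.pick hg0 hs (h.str_pair hij (isRt_slotGL (i := i) hu) (isRt_slotGL (i := j) hv))
    by_cases hki : k = i
    · subst hki
      exact (half k j hij u v hu hv x'' hx'' hn).elim
    by_cases hkj : k = j
    · subst hkj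
      refine (half k i (Ne.symm hij) v u hv hu x'' hx'' ?_).elim
      rw [comm_of_ne (Ne.symm hij) (inL_slotGL k v) (inL_slotGL i u)]
      exact hn
    refine ⟨k, hki, hkj, ?_⟩
    obtain ⟨w, hw, rfl⟩ := hx''.exists_rt
    refine ⟨w, hw, ?_⟩
    rw [hA, map_mul, map_mul, pureHom_single, pureHom_single, pureHom_single]
    apply hn 1 _ (pow_one _)
    have c1 := comm_of_ne hki (inL_slotGL k w) (inL_slotGL i u)
    have c2 := comm_of_ne hkj (inL_slotGL k w) (inL_slotGL j v)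
    have h6 := (h.str_pair hij (isRt_slotGL (i := i) hu) (isRt_slotGL (i := j) hv)).2.1
    calc slotGL i u * slotGL j v * slotGL k w * (slotGL i u * slotGL j v * slotGL k w)
        = slotGL i u * slotGL j v * ((slotGL k w * slotGL i u) * slotGL j v) * slotGL k w := by simp only [mul_assoc]
      _ = slotGL i u * slotGL j v * (slotGL i u * (slotGL k w * slotGL j v)) * slotGL k w := by
          rw [c1]; simp only [mul_assoc]
      _ = (slotGL i u * slotGL j v * (slotGL i u * slotGL j v)) * (slotGL k w * slotGL k w) := by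
          rw [c2]; simp only [mul_assoc]
      _ = 1 := by rw [h6, ← map_mul, hw.sq hT, map_one, one_mul]
  -- trivial at one further slot
  have claim1 : ∀ j : Fin t, j ≠ i0 → ∀ τ : GL (Fin 3) F, Rt τ → ∃ f ∈ A, f i0 = τ ∧ f j = 1 := by
    intro j hj τ hτ
    obtain ⟨τ1, τ2, h1, h2, h12⟩ := hτ.eq_K le_rfl
    obtain ⟨k1, hk1, hk1', w1, hw1, hf1⟩ := hT3 i0 j (Ne.symm hj) τ1 _ h1 hr0
    obtain ⟨k2, hk2, hk2', w2, hw2, hf2⟩ := hT3 i0 j (Ne.symm hj) τ2 _ h2 hr0
    have e1 : ∀ (k : Fin t) (τ' w : GL (Fin 3) F), k ≠ i0 → k ≠ j →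
        (Pi.mulSingle i0 τ' * Pi.mulSingle j (tv a φ hφa) * Pi.mulSingle k w : Fin t → GL (Fin 3) F) i0 = τ' ∧
        (Pi.mulSingle i0 τ' * Pi.mulSingle j (tv a φ hφa) * Pi.mulSingle k w : Fin t → GL (Fin 3) F) j = tv a φ hφa := by
      intro k τ' w hk hk'
      refine ⟨?_, ?_⟩
      · rw [Pi.mul_apply, Pi.mul_apply, Pi.mulSingle_eq_same, Pi.mulSingle_eq_of_ne (Ne.symm hj),
          Pi.mulSingle_eq_of_ne (Ne.symm hk), mul_one, mul_one]
      · rw [Pi.mul_apply, Pi.mul_apply, Pi.mulSingle_eq_same, Pi.mulSingle_eq_of_ne hj,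
          Pi.mulSingle_eq_of_ne (Ne.symm hk'), mul_one, one_mul]
    obtain ⟨p1, p2⟩ := e1 k1 τ1 w1 hk1 hk1'
    obtain ⟨q1, q2⟩ := e1 k2 τ2 w2 hk2 hk2'
    refine ⟨_, A.mul_mem (A.mul_mem (A.mul_mem hf1 hf2) (A.inv_mem hf1)) (A.inv_mem hf2), ?_, ?_⟩
    · rw [Pi.mul_apply, Pi.mul_apply, Pi.mul_apply, Pi.inv_apply, Pi.inv_apply, p1, q1]
      exact h12
    · rw [Pi.mul_apply, Pi.mul_apply, Pi.mul_apply, Pi.inv_apply, Pi.inv_apply, p2, q2]
      group
  have claimJ : ∀ J : Finset (Fin t), i0 ∉ J → ∀ τ : GL (Fin 3) F, Rt τ → ∃ f ∈ A, f i0 = τ ∧ ∀ j ∈ J, f j = 1 := by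
    intro J
    induction J using Finset.induction_on with
    | empty =>
      intro _ τ hτ
      obtain ⟨f, hf, h1, -⟩ := claim1 ⟨1, by omega⟩ (by simp [i0]) τ hτ
      exact ⟨f, hf, h1, fun j hj => absurd hj (Finset.notMem_empty j)⟩
    | insert j J hj ih =>
      intro hi τ hτ
      rw [Finset.mem_insert, not_or] at hi
      obtain ⟨τ1, τ2, h1, h2, h12⟩ := hτ.eq_K le_rfl
      obtain ⟨f1, hf1, p1, p2⟩ := ih hi.2 τ1 h1
      obtain ⟨f2, hf2, q1, q2⟩ := claim1 j (Ne.symm hi.1) τ2 h2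
      refine ⟨_, A.mul_mem (A.mul_mem (A.mul_mem hf1 hf2) (A.inv_mem hf1)) (A.inv_mem hf2), ?_, ?_⟩
      · rw [Pi.mul_apply, Pi.mul_apply, Pi.mul_apply, Pi.inv_apply, Pi.inv_apply, p1, q1]
        exact h12
      · intro l hl
        rw [Finset.mem_insert] at hl
        rw [Pi.mul_apply, Pi.mul_apply, Pi.mul_apply, Pi.inv_apply, Pi.inv_apply]
        rcases hl with rfl | hl
        · rw [q2]; group
        · rw [p2 l hl]; group
  obtain ⟨f, hf, h1, h2⟩ := claimJ (Finset.univ.erase i0) (Finset.notMem_erase _ _) _ hr0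
  have h3 : f = Pi.mulSingle i0 (tv a φ hφa) := by
    funext j
    by_cases hj : j = i0
    · subst hj; rw [h1, Pi.mulSingle_eq_same]
    · rw [h2 j (Finset.mem_erase.2 ⟨hj, Finset.mem_univ _⟩), Pi.mulSingle_eq_of_ne hj]
  rw [h3, hA, pureHom_single] at hf
  exact hno _ (hs.str h) hf

/-! ### Explicit matrices -/

section Blk

theorem Two.charP (hT : Two F) : CharP F 2 := by
  apply CharTwo.of_one_ne_zero_of_two_eq_zero one_ne_zero
  rw [← one_add_one_eq_two, hT.one_add_one]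

/-- the index equivalence -/
def blkE (hm : 4 ≤ m) : Fin m ≃ Fin 4 ⊕ Fin (m - 4) :=
  (finCongr (by omega : m = 4 + (m - 4))).trans finSumFinEquiv.symm

/-- the block embedding -/
def blk (φ : ZMod 2 →+* F) (hm : 4 ≤ m) (A : Matrix (Fin 4) (Fin 4) (ZMod 2)) : Matrix (Fin m) (Fin m) F :=
  (fromBlocks (A.map φ) 0 0 1).submatrix (blkE hm) (blkE hm)

theorem blk_mul (φ : ZMod 2 →+* F) (hm : 4 ≤ m) (A B : Matrix (Fin 4) (Fin 4) (ZMod 2)) :
    blk φ hm (A * B) = blk φ hm A * blk φ hm B := by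
  rw [blk, blk, blk, submatrix_mul_equiv, fromBlocks_multiply]
  congr 1
  simp [Matrix.map_mul]

theorem blk_one (φ : ZMod 2 →+* F) (hm : 4 ≤ m) : blk φ hm 1 = 1 := by
  rw [blk, Matrix.map_one _ (map_zero φ) (map_one φ), fromBlocks_one, submatrix_one_equiv]

theorem blk_injective (φ : ZMod 2 →+* F) (hm : 4 ≤ m) : Function.Injective (blk φ hm) := by
  intro A B hAB
  ext i j
  have := congrFun (congrFun hAB ((blkE hm).symm (Sum.inl i))) ((blkE hm).symm (Sum.inl j))
  simp only [blk, submatrix_apply, Equiv.apply_symm_apply, fromBlocks_apply₁₁, map_apply] at this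
  exact φ.injective this

/-- block embedding of units -/
def blkG (φ : ZMod 2 →+* F) (hm : 4 ≤ m) : GL (Fin 4) (ZMod 2) →* GL (Fin m) F :=
  Units.map { toFun := blk φ hm, map_one' := blk_one φ hm, map_mul' := blk_mul φ hm }

theorem blkG_not_root (φ : ZMod 2 →+* F) (hm : 4 ≤ m) (A : GL (Fin 4) (ZMod 2)) {p q r s : Fin 4}
    (h1 : ((A : Matrix (Fin 4) (Fin 4) (ZMod 2)) - 1) p q = 1) (h2 : ((A : Matrix (Fin 4) (Fin 4) (ZMod 2)) - 1) r s = 1)
    (h3 : ((A : Matrix (Fin 4) (Fin 4) (ZMod 2)) - 1) p s = 0) :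
    ¬ ∃ a α, (blkG φ hm A : Matrix (Fin m) (Fin m) F) = 1 + vecMulVec a α := by
  rintro ⟨a, α, h⟩
  have key : ∀ i j : Fin 4, a ((blkE hm).symm (Sum.inl i)) * α ((blkE hm).symm (Sum.inl j)) =
      φ (((A : Matrix (Fin 4) (Fin 4) (ZMod 2)) - 1) i j) := by
    intro i j
    have h4 := congrFun (congrFun h ((blkE hm).symm (Sum.inl i))) ((blkE hm).symm (Sum.inl j))
    change blk φ hm (A : Matrix (Fin 4) (Fin 4) (ZMod 2)) _ _ = _ at h4
    simp only [blk, submatrix_apply, Equiv.apply_symm_apply, fromBlocks_apply₁₁, map_apply, Matrix.add_apply,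
      vecMulVec_apply, Matrix.one_apply, EmbeddingLike.apply_eq_iff_eq, Sum.inl.injEq] at h4
    rw [Matrix.sub_apply, map_sub, h4, Matrix.one_apply]
    split_ifs <;> simp
  have k1 := key p q
  have k2 := key r s
  have k3 := key p s
  rw [h1, map_one] at k1
  rw [h2, map_one] at k2
  rw [h3, map_zero] at k3
  rcases mul_eq_zero.1 k3 with h4 | h4
  · rw [h4, zero_mul] at k1; exact zero_ne_one k1
  · rw [h4, mul_zero] at k2; exact zero_ne_one k2

def Y1 : Matrix (Fin 4) (Fin 4) (ZMod 2) := !![1,0,1,0; 0,1,0,1; 0,0,1,0; 0,0,0,1]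
def Y2 : Matrix (Fin 4) (Fin 4) (ZMod 2) := !![1,0,0,0; 0,1,0,0; 0,1,1,0; 1,1,0,1]
def Y3 : Matrix (Fin 4) (Fin 4) (ZMod 2) := !![1,1,0,0; 0,1,0,0; 0,0,0,1; 0,0,1,0]
def Yf : Matrix (Fin 4) (Fin 4) (ZMod 2) := !![1,1,1,0; 1,0,0,1; 0,1,1,0; 1,1,0,1]
def Yg : Matrix (Fin 4) (Fin 4) (ZMod 2) := Yf * Yf
def Ys : Matrix (Fin 4) (Fin 4) (ZMod 2) := !![0,0,1,1; 0,0,1,0; 0,1,0,0; 1,1,0,0]

theorem Y1_sq : Y1 * Y1 = 1 := by decide
theorem Y2_sq : Y2 * Y2 = 1 := by decide
theorem Y3_sq : Y3 * Y3 = 1 := by decide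
theorem Y12 : Y1 * Y2 = Yf := by decide
theorem Yf5 : (Yf * Yf) * (Yf * Yf) * Yf = 1 := by decide
theorem Yfs : Yf * (Y3 * Yf * Y3) = Ys := by decide
theorem Ys_sq : Ys * Ys = 1 := by decide
theorem Ys_ne : Ys ≠ 1 := by decide

def y1 : GL (Fin 4) (ZMod 2) := ⟨Y1, Y1, Y1_sq, Y1_sq⟩
def y2 : GL (Fin 4) (ZMod 2) := ⟨Y2, Y2, Y2_sq, Y2_sq⟩
def y3 : GL (Fin 4) (ZMod 2) := ⟨Y3, Y3, Y3_sq, Y3_sq⟩

end Blk

/-- **Contradiction for `m ≥ 4`.** -/
theorem Ctx.false_four [Finite F] (h : Ctx M) (hm4 : 4 ≤ m) {g0 : GL (Fin t → Fin m) F}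
    (hg0 : g0 ∈ M) (hg0H : g0 ∉ tensorWreathStandard m t F) : False := by
  have hne := h.ne
  have ht := h.ht
  have hT := h.two
  have hm := h.hm
  let i0 : Fin t := ⟨0, by omega⟩
  obtain ⟨a, ha⟩ := exists_ne_zero_vec (F := F) hm
  obtain ⟨φ, hφ, hφa, -⟩ := exists_two (a := a) (b := a) hm
  set s := slotGL (F := F) (m := m) i0 (tv a φ hφa) with hsd
  have hr0 : Rt (tv a φ hφa) := ⟨a, φ, ha, hφ, hφa, rfl⟩
  have hs : IsRt i0 s := isRt_slotGL hr0
  set x' := g0 * s * g0⁻¹ with hx'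
  let A : Subgroup (Fin t → GL (Fin m) F) := (Subgroup.centralizer {x'}).comap (pureHom F t m)
  have hA : ∀ f, f ∈ A ↔ x' * pureHom F t m f * x'⁻¹ = pureHom F t m f := by
    intro f
    rw [Subgroup.mem_comap, Subgroup.mem_centralizer_singleton_iff, mul_inv_eq_iff_eq_mul]
    exact ⟨fun h => h.symm, fun h => h.symm⟩
  have hno : ∀ z : GL (Fin t → Fin m) F, z ∈ Str M → x' * z * x'⁻¹ = z → False := fun z hz hzc =>
    h.noStr hg0 hg0H hs hz hzc
  have hfinG : Finite (GL (Fin m) F) := inferInstance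
  -- pairs
  have hT2 : ∀ b : GL (Fin m) F, b * b = 1 → (¬ ∃ a α, (b : Matrix (Fin m) (Fin m) F) = 1 + vecMulVec a α) →
      ∃ k, k ≠ i0 ∧ ∃ w : GL (Fin m) F, Rt w ∧ Pi.mulSingle i0 b * Pi.mulSingle k w ∈ A := by
    intro b hbb hb
    have hb1 : b ≠ 1 := by
      rintro rfl
      exact hb ⟨0, 0, by simp⟩
    have hyy : slotGL (F := F) i0 b * slotGL i0 b = 1 := by rw [← map_mul, hbb, map_one]
    have hy1 : slotGL (F := F) i0 b ≠ 1 := by
      intro h1
      exact hb1 (slotGL_injective (by omega) i0 (by rw [h1, map_one]))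
    obtain ⟨k, x'', hx'', hn⟩ := h.pick hg0 hs (h.str_inL (inL_slotGL i0 b) hyy hy1)
    obtain ⟨w, hw, rfl⟩ := hx''.exists_rt
    by_cases hki : k = i0
    · exfalso
      subst hki
      have hNpos : 0 < orderOf (b * w) := orderOf_pos _
      rcases Nat.even_or_odd' (orderOf (b * w)) with ⟨l, hl | hl⟩
      · have hz1 : (b * w) ^ l ≠ 1 := by
          intro h1
          have := orderOf_dvd_of_pow_eq_one h1
          have := Nat.le_of_dvd (by omega) this
          omega
        have hzz : (b * w) ^ l * (b * w) ^ l = 1 := by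
          rw [← pow_add, ← two_mul, ← hl, pow_orderOf_eq_one]
        have hzz' : slotGL (F := F) i0 ((b * w) ^ l) * slotGL i0 ((b * w) ^ l) = 1 := by
          rw [← map_mul, hzz, map_one]
        have hz1' : slotGL (F := F) i0 ((b * w) ^ l) ≠ 1 := by
          intro h1
          exact hz1 (slotGL_injective (by omega) i0 (by rw [h1, map_one]))
        apply hno _ (h.str_inL (inL_slotGL i0 ((b * w) ^ l)) hzz' hz1')
        exact hn l _ (by rw [← map_mul, map_pow]) hzz'
      · apply hb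
        obtain ⟨e, ψ, -, -, h0, hwe⟩ := id hw
        have hpow : (b * w) ^ (2 * l + 1) = 1 := by rw [← hl, pow_orderOf_eq_one]
        have hww := hw.sq hT
        -- `g b g⁻¹ = w` for `g = (b w)^l`
        have hbi : b⁻¹ = b := by rw [inv_eq_iff_mul_eq_one, hbb]
        have hwi : w⁻¹ = w := hw.inv hT
        have hconj : b * (b * w) ^ l * b⁻¹ = ((b * w) ^ l)⁻¹ := by
          rw [← conj_pow, ← inv_pow]
          congr 1
          rw [_root_.mul_inv_rev, hbi, hwi, ← mul_assoc, hbb, one_mul]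
        have hg : (b * w) ^ l * b * ((b * w) ^ l)⁻¹ = w := by
          have h1 : b * ((b * w) ^ l)⁻¹ = (b * w) ^ l * b := by
            rw [← hconj]
            calc b * (b * (b * w) ^ l * b⁻¹) = (b * b) * (b * w) ^ l * b⁻¹ := by group
              _ = _ := by rw [hbb, one_mul, hbi]
          calc (b * w) ^ l * b * ((b * w) ^ l)⁻¹ = (b * w) ^ l * (b * ((b * w) ^ l)⁻¹) := by rw [mul_assoc]
            _ = (b * w) ^ (2 * l) * b := by rw [h1, ← mul_assoc, ← pow_add, two_mul]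
            _ = (b * w) ^ (2 * l) * (b * w) * (w * (b * b)) := by
                rw [hbb, mul_one]
                calc (b * w) ^ (2 * l) * b = (b * w) ^ (2 * l) * (b * (w * w)) := by rw [hww, mul_one]
                  _ = _ := by simp only [mul_assoc]
            _ = w := by rw [← pow_succ, hpow, one_mul, hbb, mul_one]
        set g := (b * w) ^ l with hgd
        have hbg : b = g⁻¹ * w * g := by rw [← hg]; group
        refine ⟨((g⁻¹ : GL (Fin m) F) : Matrix (Fin m) (Fin m) F) *ᵥ e, ψ ᵥ* (g : Matrix (Fin m) (Fin m) F), ?_⟩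
        rw [hbg, Units.val_mul, Units.val_mul, hwe, coe_tv, mul_add, add_mul, mul_one, Units.inv_mul, mul_vecMulVec,
          vecMulVec_mul]
    · refine ⟨k, hki, w, hw, ?_⟩
      rw [hA, map_mul, pureHom_single, pureHom_single]
      apply hn 1 _ (pow_one _)
      have c1 := comm_of_ne hki (inL_slotGL k w) (inL_slotGL i0 b)
      calc slotGL i0 b * slotGL k w * (slotGL i0 b * slotGL k w)
          = slotGL i0 b * (slotGL k w * slotGL i0 b) * slotGL k w := by simp only [mul_assoc]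
        _ = (slotGL i0 b * slotGL i0 b) * (slotGL k w * slotGL k w) := by rw [c1]; simp only [mul_assoc]
        _ = 1 := by rw [hyy, ← map_mul, hw.sq hT, map_one, one_mul]
  -- explicit elements
  have : CharP F 2 := hT.charP
  let θ : ZMod 2 →+* F := ZMod.castHom (dvd_refl 2) F
  have hb1 := hT2 (blkG θ hm4 y1) (by rw [← map_mul, show y1 * y1 = 1 from Units.ext Y1_sq, map_one])
    (blkG_not_root θ hm4 y1 (p := 0) (q := 2) (r := 1) (s := 3) (by decide) (by decide) (by decide))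
  have hb2 := hT2 (blkG θ hm4 y2) (by rw [← map_mul, show y2 * y2 = 1 from Units.ext Y2_sq, map_one])
    (blkG_not_root θ hm4 y2 (p := 2) (q := 1) (r := 3) (s := 0) (by decide) (by decide) (by decide))
  have hb3 := hT2 (blkG θ hm4 y3) (by rw [← map_mul, show y3 * y3 = 1 from Units.ext Y3_sq, map_one])
    (blkG_not_root θ hm4 y3 (p := 0) (q := 1) (r := 2) (s := 2) (by decide) (by decide) (by decide))
  obtain ⟨k1, hk1, w1, hw1, ha1⟩ := hb1
  obtain ⟨k2, hk2, w2, hw2, ha2⟩ := hb2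
  obtain ⟨k3, hk3, w3, hw3, ha3⟩ := hb3
  set f := blkG θ hm4 (y1 * y2) with hf
  have hf5 : f ^ 5 = 1 := by
    have h1 : (y1 * y2) ^ 5 = 1 := by
      apply Units.ext
      have h2 : ((y1 * y2 : GL (Fin 4) (ZMod 2)) : Matrix (Fin 4) (Fin 4) (ZMod 2)) = Yf := Y12
      rw [Units.val_pow_eq_pow_val, h2, Units.val_one, ← Yf5]
      simp only [pow_succ, pow_zero, one_mul, mul_assoc]
    rw [hf, ← map_pow, h1, map_one]
  -- `f` itself
  have hfA : Pi.mulSingle i0 f ∈ A := by
    have h1 : (Pi.mulSingle i0 (blkG θ hm4 y1) * Pi.mulSingle k1 w1 * (Pi.mulSingle i0 (blkG θ hm4 y2) * Pi.mulSingle k2 w2)) ^ 12 =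
        (Pi.mulSingle i0 (f ^ 2) : Fin t → GL (Fin m) F) := by
      funext l
      rw [Pi.pow_apply]
      by_cases hl : l = i0
      · subst hl
        rw [Pi.mul_apply, Pi.mul_apply, Pi.mul_apply, Pi.mulSingle_eq_same, Pi.mulSingle_eq_same, Pi.mulSingle_eq_same,
          Pi.mulSingle_eq_of_ne hk1.symm, Pi.mulSingle_eq_of_ne hk2.symm, mul_one, mul_one, ← map_mul, ← hf,
          show 12 = 5 * 2 + 2 from rfl, pow_add, pow_mul, hf5, one_pow, one_mul]
      · rw [Pi.mul_apply, Pi.mul_apply, Pi.mul_apply, Pi.mulSingle_eq_of_ne hl, Pi.mulSingle_eq_of_ne hl,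
          Pi.mulSingle_eq_of_ne hl, one_mul, one_mul]
        by_cases h1 : l = k1 <;> by_cases h2 : l = k2
        · subst h1; subst h2
          rw [Pi.mulSingle_eq_same, Pi.mulSingle_eq_same, hw1.pow12 hT hw2]
        · subst h1
          rw [Pi.mulSingle_eq_same, Pi.mulSingle_eq_of_ne h2, mul_one, show 12 = 2 * 6 from rfl, pow_mul, pow_two,
            hw1.sq hT, one_pow]
        · subst h2
          rw [Pi.mulSingle_eq_same, Pi.mulSingle_eq_of_ne h1, one_mul, show 12 = 2 * 6 from rfl, pow_mul, pow_two,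
            hw2.sq hT, one_pow]
        · rw [Pi.mulSingle_eq_of_ne h1, Pi.mulSingle_eq_of_ne h2, mul_one, one_pow]
    have h2 : (Pi.mulSingle i0 (f ^ 2) : Fin t → GL (Fin m) F) ∈ A := by
      rw [← h1]
      exact A.pow_mem (A.mul_mem ha1 ha2) 12
    have h3 : (Pi.mulSingle i0 f : Fin t → GL (Fin m) F) = (Pi.mulSingle i0 (f ^ 2)) ^ 3 := by
      rw [← Pi.mulSingle_pow, ← pow_mul, show 2 * 3 = 5 + 1 from rfl, pow_add, hf5, one_mul, pow_one]
    rw [h3]
    exact A.pow_mem h2 3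
  -- the involution
  have hsA : Pi.mulSingle i0 (f * (blkG θ hm4 y3 * f * (blkG θ hm4 y3)⁻¹)) ∈ A := by
    have h1 : (Pi.mulSingle i0 (f * (blkG θ hm4 y3 * f * (blkG θ hm4 y3)⁻¹)) : Fin t → GL (Fin m) F) =
        Pi.mulSingle i0 f * (Pi.mulSingle i0 (blkG θ hm4 y3) * Pi.mulSingle k3 w3 * Pi.mulSingle i0 f *
          (Pi.mulSingle i0 (blkG θ hm4 y3) * Pi.mulSingle k3 w3)⁻¹) := by
      funext l
      rw [Pi.mul_apply, Pi.mul_apply, Pi.mul_apply, Pi.inv_apply, Pi.mul_apply]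
      by_cases hl : l = i0
      · subst hl
        rw [Pi.mulSingle_eq_same, Pi.mulSingle_eq_same, Pi.mulSingle_eq_same, Pi.mulSingle_eq_of_ne hk3.symm, mul_one]
      · rw [Pi.mulSingle_eq_of_ne hl, Pi.mulSingle_eq_of_ne hl, Pi.mulSingle_eq_of_ne hl]
        group
    rw [h1]
    exact A.mul_mem hfA (A.mul_mem (A.mul_mem ha3 hfA) (A.inv_mem ha3))
  have hs1 : f * (blkG θ hm4 y3 * f * (blkG θ hm4 y3)⁻¹) = blkG θ hm4 ((y1 * y2) * (y3 * (y1 * y2) * y3⁻¹)) := by
    rw [hf]; simp only [map_mul, map_inv]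
  set σ0 : GL (Fin 4) (ZMod 2) := (y1 * y2) * (y3 * (y1 * y2) * y3⁻¹) with hσ0
  have hσ0v : (σ0 : Matrix (Fin 4) (Fin 4) (ZMod 2)) = Ys := by
    have h2 : ((y1 * y2 : GL (Fin 4) (ZMod 2)) : Matrix (Fin 4) (Fin 4) (ZMod 2)) = Yf := Y12
    have h3 : ((y3⁻¹ : GL (Fin 4) (ZMod 2)) : Matrix (Fin 4) (Fin 4) (ZMod 2)) = Y3 := rfl
    have h4 : ((y3 : GL (Fin 4) (ZMod 2)) : Matrix (Fin 4) (Fin 4) (ZMod 2)) = Y3 := rfl
    rw [hσ0, Units.val_mul (y1 * y2), Units.val_mul (y3 * (y1 * y2)), Units.val_mul y3 (y1 * y2), h2, h3, h4, Yfs]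
  have hσ0σ0 : σ0 * σ0 = 1 := by
    apply Units.ext
    rw [Units.val_mul, hσ0v, Ys_sq, Units.val_one]
  have hσ0ne : σ0 ≠ 1 := by
    intro h1
    apply Ys_ne
    rw [← hσ0v, h1, Units.val_one]
  rw [hs1, hA, pureHom_single] at hsA
  refine hno _ (h.str_inL (inL_slotGL i0 _) ?_ ?_) hsA
  · rw [← map_mul, ← map_mul, hσ0σ0, map_one, map_one]
  · intro h1
    apply hσ0ne
    have h2 : blkG θ hm4 σ0 = 1 := slotGL_injective (by omega) i0 (by rw [h1, map_one])
    apply Units.ext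
    apply blk_injective θ hm4
    have h3 := congrArg (fun z : GL (Fin m) F => (z : Matrix (Fin m) (Fin m) F)) h2
    rw [Units.val_one, blk_one]
    exact h3

end Cfsg.Agent.H873.Wr
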